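import Cfsg.Agent.Lib.Char.Integral
import Cfsg.Agent.Lib.Char.Kernel
import Cfsg.Agent.Lib.Char.Equiv
import Cfsg.Agent.Lib.Char.Clifford
import Mathlib.GroupTheory.Transfer
import Mathlib.RingTheory.PrincipalIdealDomain

/-!
# Extending invariant irreducible representations from normal subgroups

For an irreducible representation `σ` of a normal subgroup `N` the cover group consists of the
pairs `(g, S)` with `S` intertwining `σ` with its conjugate by `g`.  The representation extends
to `G` as soon as the scalars split off by a homomorphism trivial on `N`.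
-/

set_option autoImplicit false

namespace CfsgLib.CharExt

open Module

universe u v

variable {G : Type u} [Group G] {N : Subgroup G} [N.Normal]
  {U : Type v} [AddCommGroup U] [Module ℂ U] (σ : Representation ℂ N U)

/-- `S` carries `σ` to its conjugate by `g`. -/
def Intertwines (g : G) (S : Module.End ℂ U) : Prop :=
  ∀ n : N, S * σ n = σ (MulAut.conjNormal (H := N) g n) * S

theorem intertwines_one : Intertwines σ 1 (1 : Module.End ℂ U) := fun n => by
  simp

theorem Intertwines.mul {g h : G} {S T : Module.End ℂ U} (hS : Intertwines σ g S)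
    (hT : Intertwines σ h T) : Intertwines σ (g * h) (S * T) := fun n => by
  rw [mul_assoc, hT n, ← mul_assoc, hS, mul_assoc, map_mul]
  rfl

theorem Intertwines.inv {g : G} {S : (Module.End ℂ U)ˣ}
    (hS : Intertwines σ g (S : Module.End ℂ U)) :
    Intertwines σ g⁻¹ ((S⁻¹ : (Module.End ℂ U)ˣ) : Module.End ℂ U) := fun n => by
  have h := hS (MulAut.conjNormal (H := N) g⁻¹ n)
  have he : MulAut.conjNormal (H := N) g (MulAut.conjNormal (H := N) g⁻¹ n) = n := by
    rw [← MulAut.mul_apply, ← map_mul, mul_inv_cancel, map_one, MulAut.one_apply]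
  rw [he] at h
  calc ((S⁻¹ : (Module.End ℂ U)ˣ) : Module.End ℂ U) * σ n
      = ((S⁻¹ : (Module.End ℂ U)ˣ) : Module.End ℂ U) * (σ n * (S : Module.End ℂ U)) *
          ((S⁻¹ : (Module.End ℂ U)ˣ) : Module.End ℂ U) := by
        simp [mul_assoc]
    _ = σ (MulAut.conjNormal (H := N) g⁻¹ n) * ((S⁻¹ : (Module.End ℂ U)ˣ) : Module.End ℂ U) := by
        rw [← h]; simp

/-- `σ n` intertwines. -/
theorem intertwines_base (n : N) : Intertwines σ (n : G) (σ n) := fun m => by
  rw [← map_mul, ← map_mul]
  congr 1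
  refine Subtype.ext ?_
  simp [mul_assoc]

/-- The cover group of `σ`. -/
def cover : Subgroup (G × (Module.End ℂ U)ˣ) where
  carrier := {p | Intertwines σ p.1 (p.2 : Module.End ℂ U)}
  one_mem' := intertwines_one σ
  mul_mem' := fun ha hb => Intertwines.mul σ ha hb
  inv_mem' := fun ha => Intertwines.inv σ ha

theorem mem_cover {p : G × (Module.End ℂ U)ˣ} :
    p ∈ cover σ ↔ Intertwines σ p.1 (p.2 : Module.End ℂ U) := Iff.rfl

/-- The projection of the cover group to `G`. -/
def proj : cover σ →* G := (MonoidHom.fst G (Module.End ℂ U)ˣ).comp (cover σ).subtype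

@[simp]
theorem proj_apply (p : cover σ) : proj σ p = p.1.1 := rfl

/-- A scalar as an element of the cover group. -/
noncomputable def scal : ℂˣ →* cover σ where
  toFun c := ⟨(1, Units.map (algebraMap ℂ (Module.End ℂ U)).toMonoidHom c), fun n => by
    simp [Algebra.commutes]⟩
  map_one' := by ext <;> simp
  map_mul' c d := by
    refine Subtype.ext (Prod.ext ?_ ?_)
    · simp
    · simp

/-- An element of `N` as an element of the cover group. -/
def base : N →* cover σ where
  toFun n := ⟨((n : G), σ.asGroupHom n), by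
    show Intertwines σ (n : G) (σ.asGroupHom n : Module.End ℂ U)
    rw [Representation.asGroupHom_apply]
    exact intertwines_base σ n⟩
  map_one' := by ext <;> simp
  map_mul' n m := by
    refine Subtype.ext (Prod.ext ?_ ?_)
    · simp
    · exact map_mul _ n m

theorem scal_val (c : ℂˣ) :
    (((scal σ c).1.2 : (Module.End ℂ U)ˣ) : Module.End ℂ U) = algebraMap ℂ _ (c : ℂ) := rfl

theorem scal_fst (c : ℂˣ) : (scal σ c).1.1 = 1 := rfl

theorem base_val (n : N) :
    (((base σ n).1.2 : (Module.End ℂ U)ˣ) : Module.End ℂ U) = σ n :=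
  Representation.asGroupHom_apply σ n

theorem base_fst (n : N) : (base σ n).1.1 = (n : G) := rfl

/-- Scalars are central. -/
theorem scal_central (c : ℂˣ) (p : cover σ) : scal σ c * p = p * scal σ c := by
  refine Subtype.ext (Prod.ext ?_ (Units.ext ?_))
  · simp [scal_fst]
  · simp [scal_val, Algebra.commutes]

/-- The image of `N` is normal in the cover group. -/
theorem conj_base (p : cover σ) (n : N) :
    p * base σ n * p⁻¹ = base σ (MulAut.conjNormal (H := N) p.1.1 n) := by
  rw [mul_inv_eq_iff_eq_mul]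
  refine Subtype.ext (Prod.ext ?_ (Units.ext ?_))
  · simp [base_fst, mul_assoc]
  · simpa [base_val] using p.2 n

variable [σ.IsIrreducible] [FiniteDimensional ℂ U]

/-- An element of the cover over `1` is a scalar. -/
theorem exists_scal_of_fst_eq_one (p : cover σ) (hp : p.1.1 = 1) : ∃ c : ℂˣ, p = scal σ c := by
  have hcomm : ∀ n, ((p.1.2 : (Module.End ℂ U)ˣ) : Module.End ℂ U) * σ n =
      σ n * ((p.1.2 : (Module.End ℂ U)ˣ) : Module.End ℂ U) := by
    intro n
    have h : Intertwines σ p.1.1 _ := p.2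
    rw [hp] at h
    simpa using h n
  obtain ⟨c, hc⟩ := Char.exists_scalar_of_commute σ _ hcomm
  have : Nontrivial U := CharKernel.nontrivial_of_irreducible σ
  have hc0 : c ≠ 0 := by
    rintro rfl
    rw [zero_smul] at hc
    exact p.1.2.isUnit.ne_zero hc
  refine ⟨Units.mk0 c hc0, Subtype.ext (Prod.ext hp (Units.ext ?_))⟩
  rw [hc]
  show c • (1 : Module.End ℂ U) = algebraMap ℂ _ c
  rw [Algebra.algebraMap_eq_smul_one]

omit [FiniteDimensional ℂ U] in
theorem scal_injective : Function.Injective (scal σ) := by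
  intro c d h
  have : Nontrivial U := CharKernel.nontrivial_of_irreducible σ
  have h1 : algebraMap ℂ (Module.End ℂ U) (c : ℂ) = algebraMap ℂ _ (d : ℂ) :=
    congrArg (fun p : cover σ => ((p.1.2 : (Module.End ℂ U)ˣ) : Module.End ℂ U)) h
  exact Units.ext (FaithfulSMul.algebraMap_injective ℂ _ h1)

omit [σ.IsIrreducible] in
/-- An invariant irreducible representation has intertwiners over every element. -/
theorem exists_intertwines [Finite N] (g : G)
    (hinv : ∀ n : N, σ.character (MulAut.conjNormal (H := N) g n) = σ.character n) :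
    ∃ S : (Module.End ℂ U)ˣ, Intertwines σ g (S : Module.End ℂ U) := by
  let σ' : Representation ℂ N U := σ.comp (MulAut.conjNormal (H := N) g).toMonoidHom
  obtain ⟨e⟩ := Char.nonempty_equiv_of_character_eq σ σ' (funext fun n => (hinv n).symm)
  refine ⟨(LinearMap.GeneralLinearGroup.generalLinearEquiv ℂ U).symm e.toLinearEquiv, fun n => ?_⟩
  refine LinearMap.ext fun v => ?_
  exact e.toIntertwiningMap.isIntertwining _ _ n v

theorem proj_surjective [Finite N]
    (hinv : ∀ (g : G) (n : N), σ.character (MulAut.conjNormal (H := N) g n) = σ.character n) :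
    Function.Surjective (proj σ) := fun g => by
  obtain ⟨S, hS⟩ := exists_intertwines σ g (hinv g)
  exact ⟨⟨(g, S), hS⟩, rfl⟩

omit [FiniteDimensional ℂ U] [σ.IsIrreducible] in
/-- A complement of the scalars in the cover group gives an extension. -/
theorem exists_extension_of_complement (K : Subgroup (cover σ))
    (hN : ∀ n : N, base σ n ∈ K) (hK : ∀ g : G, ∃ p ∈ K, p.1.1 = g)
    (hK1 : ∀ p ∈ K, p.1.1 = 1 → p = 1) :
    ∃ ρ : Representation ℂ G U, ∀ n : N, ρ (n : G) = σ n := by
  let f : K →* G := (proj σ).comp K.subtype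
  have hbij : Function.Bijective f := by
    refine ⟨(injective_iff_map_eq_one f).mpr fun p hp => Subtype.ext (hK1 p p.2 hp), fun g => ?_⟩
    obtain ⟨p, hp, hg⟩ := hK g
    exact ⟨⟨p, hp⟩, hg⟩
  let e := MulEquiv.ofBijective f hbij
  let ρ : Representation ℂ G U :=
    (((Units.coeHom (Module.End ℂ U)).comp (MonoidHom.snd G (Module.End ℂ U)ˣ)).comp
      (cover σ).subtype).comp (K.subtype.comp e.symm.toMonoidHom)
  refine ⟨ρ, fun n => ?_⟩
  have he : e.symm (n : G) = ⟨base σ n, hN n⟩ := by
    rw [MulEquiv.symm_apply_eq]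
    rfl
  show (((e.symm (n : G)).1.1.2 : (Module.End ℂ U)ˣ) : Module.End ℂ U) = σ n
  rw [he]
  exact base_val σ n

/-- The exponent `k` is split: some homomorphism to the scalars is the `k`-th power on scalars and
trivial on `N`. -/
def Splits (k : ℤ) : Prop :=
  ∃ τ : cover σ →* ℂˣ, (∀ c : ℂˣ, τ (scal σ c) = c ^ k) ∧ ∀ n : N, τ (base σ n) = 1

omit [FiniteDimensional ℂ U] [σ.IsIrreducible] in
/-- The split exponents form a subgroup of `ℤ`; if one is prime to each prime then one is split. -/
theorem splits_one_of_forall_prime (h : ∀ p : ℕ, p.Prime → ∃ k : ℤ, ¬ (p : ℤ) ∣ k ∧ Splits σ k) :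
    Splits σ 1 := by
  let I : Ideal ℤ :=
    { carrier := {k | Splits σ k}
      zero_mem' := ⟨1, fun c => by simp, fun n => rfl⟩
      add_mem' := by
        rintro a b ⟨τ, hτ, hτn⟩ ⟨τ', hτ', hτn'⟩
        exact ⟨τ * τ', fun c => by simp [hτ, hτ', zpow_add], fun n => by simp [hτn, hτn']⟩
      smul_mem' := by
        rintro c a ⟨τ, hτ, hτn⟩
        exact ⟨τ ^ c, fun x => by rw [MonoidHom.zpow_apply, hτ, ← zpow_mul, mul_comm, smul_eq_mul],
          fun n => by rw [MonoidHom.zpow_apply, hτn, one_zpow]⟩ }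
  show (1 : ℤ) ∈ I
  rw [← Ideal.eq_top_iff_one]
  by_contra hne
  obtain ⟨d, hd⟩ := (IsPrincipalIdealRing.principal I).principal
  have hdu : ¬ IsUnit d := fun hu => hne (by
    rw [hd, Ideal.submodule_span_eq, Ideal.span_singleton_eq_top]; exact hu)
  obtain ⟨p, hp, hpd⟩ := Nat.exists_prime_and_dvd
    (n := d.natAbs) (fun h => hdu (Int.isUnit_iff_natAbs_eq.mpr h))
  obtain ⟨k, hk, hsk⟩ := h p hp
  have hkI : k ∈ I := hsk
  rw [hd, Ideal.submodule_span_eq, Ideal.mem_span_singleton] at hkI
  exact hk ((Int.natCast_dvd.mpr hpd).trans hkI)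

/-- If the exponent one is split then `σ` extends. -/
theorem exists_extension_of_splits [Finite N]
    (hinv : ∀ (g : G) (n : N), σ.character (MulAut.conjNormal (H := N) g n) = σ.character n)
    (h : Splits σ 1) : ∃ ρ : Representation ℂ G U, ∀ n : N, ρ (n : G) = σ n := by
  obtain ⟨τ, hτ, hτn⟩ := h
  refine exists_extension_of_complement σ τ.ker (fun n => hτn n) (fun g => ?_) ?_
  · obtain ⟨p, hp⟩ := proj_surjective σ hinv g
    refine ⟨p * scal σ (τ p)⁻¹, ?_, ?_⟩
    · rw [MonoidHom.mem_ker, map_mul, hτ, zpow_one, mul_inv_cancel]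
    · simpa [scal_fst] using hp
  · intro p hp hp1
    obtain ⟨c, rfl⟩ := exists_scal_of_fst_eq_one σ p hp1
    rw [MonoidHom.mem_ker, hτ, zpow_one] at hp
    rw [hp, map_one]

/-- The trivial exponent `[G : P]` for a subgroup `P` to which `σ` extends. -/
theorem splits_index_of_extends [Finite G]
    (hinv : ∀ (g : G) (n : N), σ.character (MulAut.conjNormal (H := N) g n) = σ.character n)
    (P : Subgroup G) (hNP : N ≤ P) (η : Representation ℂ P U)
    (hη : ∀ n : N, η ⟨(n : G), hNP n.2⟩ = σ n) : Splits σ (P.index : ℤ) := by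
  classical
  let H : Subgroup (cover σ) := P.comap (proj σ)
  have hidx : H.index = P.index := Subgroup.index_comap_of_surjective P (proj_surjective σ hinv)
  have : H.FiniteIndex := ⟨by rw [hidx]; exact Subgroup.index_ne_zero_of_finite⟩
  -- the element of the cover over an element of `P` given by `η`
  have hlift : ∀ x : P, Intertwines σ (x : G) (η x) := fun x n => by
    rw [← hη n, ← hη, ← map_mul, ← map_mul]
    congr 1
    refine Subtype.ext ?_
    simp [mul_assoc]
  let L : P →* cover σ :=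
    { toFun := fun x => ⟨((x : G), η.asGroupHom x), by
        show Intertwines σ (x : G) (η.asGroupHom x : Module.End ℂ U)
        rw [Representation.asGroupHom_apply]
        exact hlift x⟩
      map_one' := by ext <;> simp
      map_mul' := fun x y => Subtype.ext (Prod.ext rfl (map_mul _ x y)) }
  have hex : ∀ p : H, ∃ c : ℂˣ, (p : cover σ) = scal σ c * L ⟨p.1.1.1, p.2⟩ := by
    intro p
    obtain ⟨c, hc⟩ := exists_scal_of_fst_eq_one σ ((p : cover σ) * (L ⟨p.1.1.1, p.2⟩)⁻¹) (by
      show p.1.1.1 * (p.1.1.1)⁻¹ = 1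
      exact mul_inv_cancel _)
    exact ⟨c, by rw [← hc, inv_mul_cancel_right]⟩
  choose ψ hψ using hex
  have huniq : ∀ (p : H) (c : ℂˣ), (p : cover σ) = scal σ c * L ⟨p.1.1.1, p.2⟩ → ψ p = c := by
    intro p c hc
    exact scal_injective σ (mul_right_cancel ((hψ p).symm.trans hc))
  let Ψ : H →* ℂˣ :=
    { toFun := ψ
      map_one' := huniq 1 1 (by
        rw [map_one, one_mul]
        exact ((congrArg L (Subtype.ext rfl : (⟨_, (1 : H).2⟩ : P) = 1)).trans (map_one L)).symm)
      map_mul' := fun a b => huniq (a * b) (ψ a * ψ b) (by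
        have hL : L ⟨(a * b).1.1.1, (a * b).2⟩ = L ⟨a.1.1.1, a.2⟩ * L ⟨b.1.1.1, b.2⟩ := by
          rw [← map_mul]; rfl
        rw [hL, map_mul, Subgroup.coe_mul]
        refine (congrArg₂ (· * ·) (hψ a) (hψ b)).trans ?_
        rw [mul_assoc, ← mul_assoc (L _) (scal σ _), ← scal_central, mul_assoc, ← mul_assoc]) }
  refine ⟨MonoidHom.transfer Ψ, fun c => ?_, fun n => ?_⟩
  · rw [MonoidHom.transfer_eq_pow Ψ (scal σ c) (fun k g₀ _ => by
      rw [← map_pow, mul_assoc, scal_central, inv_mul_cancel_left]), zpow_natCast]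
    refine huniq _ (c ^ H.index) ?_ |>.trans (by rw [hidx])
    rw [map_pow]
    exact (mul_one (scal σ c ^ H.index)).symm.trans (congrArg _ (((congrArg L (Subtype.ext (by
      simp [scal_fst]) : (⟨_, _⟩ : P) = 1)).trans (map_one L)).symm))
  · have : Fintype (Quotient (MulAction.orbitRel (Subgroup.zpowers (base σ n)) (cover σ ⧸ H))) :=
      Fintype.ofFinite _
    rw [MonoidHom.transfer_eq_prod_quotient_orbitRel_zpowers_quot]
    refine Finset.prod_eq_one fun q _ => huniq _ 1 ?_
    rw [map_one, one_mul]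
    set g₀ : cover σ := q.out.out
    set k := Function.minimalPeriod (base σ n • ·) q.out
    have hb : g₀⁻¹ * base σ n ^ k * g₀ =
        base σ (MulAut.conjNormal (H := N) g₀⁻¹.1.1 (n ^ k)) := by
      rw [← conj_base, inv_inv, map_pow]
    have hbase : ∀ m : N, base σ m = L ⟨(m : G), hNP m.2⟩ := fun m =>
      Subtype.ext (Prod.ext rfl (Units.ext (by
        rw [base_val]
        show σ m = (η.asGroupHom _ : Module.End ℂ U)
        rw [Representation.asGroupHom_apply, hη])))
    exact hb.trans ((hbase _).trans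
      (congrArg L (Subtype.ext (congrArg (fun p : cover σ => p.1.1) hb).symm)))

omit [N.Normal] [σ.IsIrreducible] in
/-- Realise a character extension of `σ` by a representation extending `σ` itself. -/
theorem exists_rep_of_character [Finite G] (P : Subgroup G) (hNP : N ≤ P) (η : P → ℂ)
    (hη : Cfsg.IsCharacter P η) (hres : ∀ n : N, η ⟨(n : G), hNP n.2⟩ = σ.character n) :
    ∃ τ : Representation ℂ P U, ∀ n : N, τ ⟨(n : G), hNP n.2⟩ = σ n := by
  obtain ⟨d, ρ, rfl⟩ := hη
  let ρN : Representation ℂ N (Fin d → ℂ) := ρ.comp (Subgroup.inclusion hNP)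
  obtain ⟨e⟩ := Char.nonempty_equiv_of_character_eq ρN σ (funext fun n => hres n)
  refine ⟨Char.transport ρ e.toLinearEquiv, fun n => LinearMap.ext fun v => ?_⟩
  obtain ⟨w, rfl⟩ := e.toLinearEquiv.surjective v
  have h := e.toIntertwiningMap.isIntertwining _ _ n w
  rw [Char.transport_apply, LinearEquiv.conj_apply_apply, LinearEquiv.symm_apply_apply]
  exact h

omit [N.Normal] [σ.IsIrreducible] in
/-- An extension of an irreducible representation gives an irreducible character extending it. -/
theorem exists_irr_of_extension [hσ : σ.IsIrreducible] (ρ : Representation ℂ G U)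
    (hρ : ∀ n : N, ρ (n : G) = σ n) :
    ∃ χ : G → ℂ, Cfsg.IsIrrCharacter G χ ∧ ∀ n : N, χ n = σ.character n := by
  have : Nontrivial U := CharKernel.nontrivial_of_irreducible σ
  have : ρ.IsIrreducible := CharKernel.isIrreducible_of_forall ρ fun W hW =>
    CharKernel.eq_bot_or_eq_top σ W fun n v hv => hρ n ▸ hW (n : G) v hv
  exact ⟨ρ.character, Char.isIrrCharacter_character ρ, fun n => by
    simp [Representation.character, hρ n]⟩

/-- Extension over a cyclic quotient. -/
theorem exists_extension_of_isCyclic [Finite G]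
    (hinv : ∀ (g : G) (n : N), σ.character (MulAut.conjNormal (H := N) g n) = σ.character n)
    (hcyc : IsCyclic (G ⧸ N)) : ∃ ρ : Representation ℂ G U, ∀ n : N, ρ (n : G) = σ n := by
  classical
  obtain ⟨x, hx⟩ := hcyc.exists_generator
  obtain ⟨g, rfl⟩ := QuotientGroup.mk_surjective x
  set m := orderOf (g : G ⧸ N) with hm
  have hm0 : m ≠ 0 := (orderOf_pos _).ne'
  have hgm : g ^ m ∈ N := by
    rw [← QuotientGroup.eq_one_iff, QuotientGroup.mk_pow, hm, pow_orderOf_eq_one]
  obtain ⟨t₀, ht₀⟩ := proj_surjective σ hinv g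
  obtain ⟨c, hc⟩ := exists_scal_of_fst_eq_one σ (t₀ ^ m * (base σ ⟨g ^ m, hgm⟩)⁻¹) (by
    show (proj σ (t₀ ^ m)) * (g ^ m)⁻¹ = 1
    rw [map_pow, ht₀, mul_inv_cancel])
  obtain ⟨z, hz⟩ := IsAlgClosed.exists_pow_nat_eq ((c⁻¹ : ℂˣ) : ℂ) (Nat.pos_of_ne_zero hm0)
  have hz0 : z ≠ 0 := by
    rintro rfl
    rw [zero_pow hm0] at hz
    exact (Units.ne_zero c⁻¹) hz.symm
  let t : cover σ := t₀ * scal σ (Units.mk0 z hz0)
  have htm : t ^ m = base σ ⟨g ^ m, hgm⟩ := by
    rw [show t = t₀ * scal σ (Units.mk0 z hz0) from rfl,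
      (Commute.symm (scal_central σ _ t₀)).mul_pow, ← map_pow,
      show Units.mk0 z hz0 ^ m = c⁻¹ from Units.ext (by simp [hz]), ← scal_central,
      map_inv, inv_mul_eq_iff_eq_mul, ← hc, inv_mul_cancel_right]
  have ht : proj σ t = g := by
    rw [map_mul, ht₀]; exact mul_one g
  have hnorm : ∀ p : cover σ, ∀ b ∈ (base σ).range, p * b * p⁻¹ ∈ (base σ).range := by
    rintro p _ ⟨n, rfl⟩
    exact ⟨_, (conj_base σ p n).symm⟩
  have : (base σ).range.Normal := ⟨fun b hb p => hnorm p b hb⟩
  refine exists_extension_of_complement σ ((base σ).range ⊔ Subgroup.zpowers t)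
    (fun n => Subgroup.mem_sup_left ⟨n, rfl⟩) (fun y => ?_) ?_
  · obtain ⟨i, hi⟩ := Subgroup.mem_zpowers_iff.mp (hx (y : G ⧸ N))
    have hyN : y * (g ^ i)⁻¹ ∈ N := by
      rw [← QuotientGroup.eq_one_iff, QuotientGroup.mk_mul, QuotientGroup.mk_inv,
        QuotientGroup.mk_zpow, hi, mul_inv_cancel]
    refine ⟨base σ ⟨_, hyN⟩ * t ^ i, Subgroup.mul_mem _ (Subgroup.mem_sup_left ⟨_, rfl⟩)
      (Subgroup.mem_sup_right (zpow_mem (Subgroup.mem_zpowers t) i)), ?_⟩
    show y * (g ^ i)⁻¹ * proj σ (t ^ i) = y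
    rw [map_zpow, ht, inv_mul_cancel_right]
  · intro p hp hp1
    rw [Subgroup.mem_sup_of_normal_left] at hp
    obtain ⟨b, ⟨n, rfl⟩, s, hs, rfl⟩ := hp
    obtain ⟨i, rfl⟩ := Subgroup.mem_zpowers_iff.mp hs
    have h1 : (n : G) * g ^ i = 1 := by
      rw [← ht, ← map_zpow]; exact hp1
    have hiN : g ^ i ∈ N := by
      rw [eq_inv_of_mul_eq_one_right h1]; exact N.inv_mem n.2
    have hdvd : (m : ℤ) ∣ i := by
      rw [hm, orderOf_dvd_iff_zpow_eq_one, ← QuotientGroup.mk_zpow]
      exact (QuotientGroup.eq_one_iff _).mpr hiN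
    obtain ⟨j, rfl⟩ := hdvd
    rw [zpow_mul, zpow_natCast, htm, ← map_zpow, ← map_mul]
    rw [zpow_mul, zpow_natCast] at h1
    have : n * (⟨g ^ m, hgm⟩ : N) ^ j = 1 := Subtype.ext (by simpa using h1)
    rw [this, map_one]

end CfsgLib.CharExt
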