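import Cfsg.Agent.Lib.CharExt.AbelianTI
import Cfsg.Agent.Lib.Char.Twist
import Cfsg.Agent.Lib.Char.Clifford
import Cfsg.Agent.S0185
import Mathlib.GroupTheory.Transfer
import Mathlib.GroupTheory.Nilpotent
import Mathlib.Data.Nat.Prime.Factorial

/-!
# Sylow subgroups for primes large against the degree of a faithful representation
-/

set_option autoImplicit false

open scoped ComplexConjugate Pointwise

namespace CfsgLib.CharExt.SmallDegree

open Module

universe u

/-- All Sylow `p`-subgroups are normal. -/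
def HasNormalSylow (p : ℕ) (G : Type u) [Group G] : Prop :=
  ∀ Q : Sylow p G, (Q : Subgroup G).Normal

theorem HasNormalSylow.of_equiv {p : ℕ} [Fact p.Prime] {G H : Type u} [Group G] [Group H]
    [Finite G] (e : G ≃* H) (h : HasNormalSylow p H) : HasNormalSylow p G := by
  intro Q
  have h1 := h (Q.mapSurjective (f := e.toMonoidHom) e.surjective)
  have h1' : ((Q : Subgroup G).map e.toMonoidHom).Normal := h1
  have h2 := h1'.comap e.toMonoidHom
  rwa [Subgroup.comap_map_eq_self_of_injective e.injective] at h2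

variable {G : Type u} [Group G] [Finite G] {p : ℕ} [Fact p.Prime]

omit [Finite G] in
theorem sylow_eq_of_le [Finite G] {M : Subgroup G} (hM : HasNormalSylow p M) {P Q : Sylow p G}
    (hP : (P : Subgroup G) ≤ M) (hQ : (Q : Subgroup G) ≤ M) : P = Q := by
  haveI := Sylow.unique_of_normal (P.subtype hP) (hM _)
  have h := congrArg (fun S : Sylow p M => (S : Subgroup M))
    (Subsingleton.elim (P.subtype hP) (Q.subtype hQ))
  simp only [Sylow.coe_subtype, Subgroup.subgroupOf_inj] at h
  rw [inf_eq_left.mpr hP, inf_eq_left.mpr hQ] at h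
  exact Sylow.ext h

theorem le_sylow {M : Subgroup G} (hM : HasNormalSylow p M) {T : Sylow p G}
    (hT : (T : Subgroup G) ≤ M) {Q : Subgroup G} (hQ : IsPGroup p Q) (hQM : Q ≤ M) :
    Q ≤ T := by
  haveI := Sylow.unique_of_normal (T.subtype hT) (hM _)
  obtain ⟨S, hS⟩ := (hQ.comap_of_injective M.subtype M.subtype_injective).exists_le_sylow
  rw [Subsingleton.elim S (T.subtype hT), Sylow.coe_subtype] at hS
  intro x hx
  exact hS (show (⟨x, hQM hx⟩ : M) ∈ Q.comap M.subtype from hx)

/-- An element of order prime to `p` twisted by a commuting power of a `p`-element is trivial. -/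
theorem eq_one_of_twist {P : Subgroup G} (hP : IsPGroup p P) {K : Subgroup G}
    (hcop : ¬ p ∣ Nat.card K) {g c y : G} (hy : y ∈ P) (hc : c ∈ K) (hyc : y * c = c * y)
    (h : y * g * y⁻¹ = g * c) : c = 1 := by
  have hi : ∀ i : ℕ, y ^ i * g * (y ^ i)⁻¹ = g * c ^ i := by
    intro i
    induction i with
    | zero => simp
    | succ i ih =>
      have h2 : y * c ^ i * y⁻¹ = c ^ i := by
        rw [(Commute.pow_right (show Commute y c from hyc) i).eq, mul_inv_cancel_right]
      calc y ^ (i + 1) * g * (y ^ (i + 1))⁻¹ = y * (y ^ i * g * (y ^ i)⁻¹) * y⁻¹ := by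
            rw [pow_succ']; group
        _ = y * (g * c ^ i) * y⁻¹ := by rw [ih]
        _ = (y * g * y⁻¹) * (y * c ^ i * y⁻¹) := by group
        _ = g * c ^ (i + 1) := by rw [h2, h, pow_succ', mul_assoc]
  have h1 := hi (orderOf y)
  rw [pow_orderOf_eq_one, inv_one, mul_one, one_mul, left_eq_mul] at h1
  obtain ⟨k, hk⟩ := hP ⟨y, hy⟩
  exact orderOf_eq_one_iff.mp (Nat.eq_one_of_dvd_coprimes
    (((Fact.out : p.Prime).coprime_iff_not_dvd.mpr hcop).pow_left k)
    ((orderOf_dvd_of_pow_eq_one h1).trans (orderOf_dvd_of_pow_eq_one (congrArg Subtype.val hk)))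
    (Subgroup.orderOf_mk c hc ▸ orderOf_dvd_natCard (⟨c, hc⟩ : K)))

/-- An abelian Sylow subgroup meets the centre trivially inside the commutator subgroup. -/
theorem eq_one_of_mem_center {P : Sylow p G}
    (hab : ∀ a ∈ (P : Subgroup G), ∀ b ∈ (P : Subgroup G), a * b = b * a) {z : G}
    (hzP : z ∈ (P : Subgroup G)) (hzZ : z ∈ Subgroup.center G) (hzC : z ∈ commutator G) :
    z = 1 := by
  letI : CommGroup (P : Subgroup G) :=
    { (inferInstance : Group (P : Subgroup G)) with
      mul_comm := fun a b => Subtype.ext (hab _ a.2 _ b.2) }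
  let τ : G →* (P : Subgroup G) := MonoidHom.transfer (MonoidHom.id _)
  have hτ : τ z = 1 := MonoidHom.mem_ker.mp (Abelianization.commutator_subset_ker τ hzC)
  have key : ∀ (k : ℕ) (g₀ : G), g₀⁻¹ * z ^ k * g₀ ∈ (P : Subgroup G) →
      g₀⁻¹ * z ^ k * g₀ = z ^ k := by
    intro k g₀ _
    rw [mul_assoc, ← Subgroup.mem_center_iff.mp ((Subgroup.center G).pow_mem hzZ k) g₀,
      inv_mul_cancel_left]
  rw [show τ z = _ from MonoidHom.transfer_eq_pow (MonoidHom.id _) z key] at hτ
  have h1 : z ^ (P : Subgroup G).index = 1 := congrArg Subtype.val hτ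
  obtain ⟨k, hk⟩ := IsPGroup.iff_card.mp P.2
  have h2 : orderOf z ∣ p ^ k := by
    rw [← hk, ← Subgroup.orderOf_mk z hzP]
    exact orderOf_dvd_natCard _
  exact orderOf_eq_one_iff.mp (Nat.eq_one_of_dvd_coprimes
    (((Fact.out : p.Prime).coprime_iff_not_dvd.mpr P.not_dvd_index).pow_left k) h2
    (orderOf_dvd_of_pow_eq_one h1))

omit [Finite G] in
open Classical in
/-- A `p`-group acting on a normal subgroup of order prime to `p`, with every invariant proper
subgroup centralised, centralises it when a faithful degree is below `p - 1`. -/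
theorem centralises [Fintype G] {n : ℕ} (hnp : n + 1 < p) (ρ : Representation ℂ G (Fin n → ℂ))
    (hρ : Function.Injective ρ) {P : Subgroup G} (hP : IsPGroup p P) (K : Subgroup G) [K.Normal]
    (hcop : ¬ p ∣ Nat.card K)
    (hsub : ∀ L : Subgroup G, L ≤ K → L ≠ K → (∀ y ∈ P, ∀ l ∈ L, y * l * y⁻¹ ∈ L) →
      ∀ l ∈ L, ∀ y ∈ P, y * l = l * y) :
    K ≤ Subgroup.centralizer (P : Set G) := by
  set F := K ⊓ Subgroup.centralizer (P : Set G) with hF
  suffices h : F = K by rw [← h]; exact inf_le_right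
  by_contra hFK
  have hsubF : ∀ L : Subgroup G, L ≤ K → L ≠ K → (∀ y ∈ P, ∀ l ∈ L, y * l * y⁻¹ ∈ L) → L ≤ F :=
    fun L h1 h2 h3 l hl => ⟨h1 hl, Subgroup.mem_centralizer_iff.mpr fun y hy =>
      hsub L h1 h2 h3 l hl y hy⟩
  -- `K` has prime power order
  obtain ⟨q, hq, hKq⟩ : ∃ q : ℕ, q.Prime ∧ IsPGroup q K := by
    by_contra hall
    push Not at hall
    refine hFK (Subgroup.eq_of_le_of_card_ge inf_le_left (Nat.le_of_dvd Nat.card_pos ?_))
    refine Nat.dvd_iff_prime_pow_dvd_dvd _ _ |>.mpr fun q k hq hk => ?_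
    haveI := Fact.mk hq
    letI : MulDistribMulAction P K :=
      MulDistribMulAction.compHom K ((MulAut.conjNormal (H := K)).comp P.subtype)
    obtain ⟨Q, hQ⟩ := hP.nonempty_fixed_point_of_prime_not_dvd_card (Sylow q K) fun h =>
      hcop (h.trans ((Sylow.card_dvd_index (default : Sylow q K)).trans
        (Subgroup.index_dvd_card _)))
    have hle : (Q : Subgroup K).map K.subtype ≤ F := by
      refine hsubF _ (Subgroup.map_subtype_le _) (fun h => hall q hq ?_) ?_
      · have h2 := Q.2.map K.subtype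
        rwa [h] at h2
      · rintro y hy _ ⟨l, hl, rfl⟩
        refine ⟨(⟨y, hy⟩ : P) • l, ?_, ?_⟩
        · have h2 : (⟨y, hy⟩ : P) • l ∈ (⟨y, hy⟩ : P) • (Q : Subgroup K) :=
            Subgroup.smul_mem_pointwise_smul l _ _ hl
          rwa [show (⟨y, hy⟩ : P) • (Q : Subgroup K) = (((⟨y, hy⟩ : P) • Q : Sylow q K) :
            Subgroup K) from rfl, hQ ⟨y, hy⟩] at h2
        · rfl
    have h1 : q ^ k ∣ Nat.card Q := Q.pow_dvd_card_of_pow_dvd_card hk
    rw [← Subgroup.card_map_of_injective (K := (Q : Subgroup K)) K.subtype_injective] at h1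
    exact h1.trans (Subgroup.card_dvd_of_le hle)
  haveI := Fact.mk hq
  have hK1 : ⁅K, K⁆ ≤ F := by
    refine hsubF _ (Subgroup.commutator_le_left K K) (fun h => hFK ?_)
      fun y _ l hl => (inferInstance : (⁅K, K⁆ : Subgroup G).Normal).conj_mem l hl y
    haveI := hKq.isNilpotent
    by_contra hne
    have hnt : Nontrivial K := by
      rw [Subgroup.nontrivial_iff_ne_bot]
      intro hb
      exact hne (le_antisymm inf_le_left (by rw [hb]; exact bot_le))
    refine (IsSolvable.commutator_lt_top_of_nontrivial K).ne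
      (Subgroup.map_injective K.subtype_injective ?_)
    rw [Subgroup.map_subtype_commutator, h, ← MonoidHom.range_eq_map, Subgroup.range_subtype]
  let gens : Set G := {x | ∃ g ∈ K, ∃ y ∈ P, x = g⁻¹ * (y * g * y⁻¹)}
  have hgensK : gens ⊆ K := by
    rintro _ ⟨g, hg, y, -, rfl⟩
    exact K.mul_mem (K.inv_mem hg) ((inferInstance : K.Normal).conj_mem g hg y)
  have hC : Subgroup.closure gens = K := by
    by_contra hne
    have hCF : Subgroup.closure gens ≤ F := by
      refine hsubF _ ((Subgroup.closure_le K).mpr hgensK) hne fun z hz l hl => ?_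
      have hmap : (Subgroup.closure gens).map (MulAut.conj z).toMonoidHom ≤
          Subgroup.closure gens := by
        rw [MonoidHom.map_closure]
        refine Subgroup.closure_mono ?_
        rintro _ ⟨_, ⟨g, hg, y, hy, rfl⟩, rfl⟩
        refine ⟨z * g * z⁻¹, (inferInstance : K.Normal).conj_mem g hg z, z * y * z⁻¹,
          P.mul_mem (P.mul_mem hz hy) (P.inv_mem hz), ?_⟩
        simp only [MulEquiv.coe_toMonoidHom, MulAut.conj_apply]
        group
      exact hmap ⟨l, hl, rfl⟩
    refine hFK (le_antisymm inf_le_left fun g hg => ⟨hg, Subgroup.mem_centralizer_iff.mpr ?_⟩)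
    intro y hy
    have hc := hCF (Subgroup.subset_closure ⟨g, hg, y, hy, rfl⟩)
    have h1 := eq_one_of_twist hP hcop hy hc.1 (Subgroup.mem_centralizer_iff.mp hc.2 y hy)
      (g := g) (by group)
    exact mul_inv_eq_iff_eq_mul.mp (inv_mul_eq_one.mp h1).symm
  -- the fixed points are central
  have hcen : ∀ f ∈ F, ∀ g ∈ K, f * g = g * f := by
    intro f hf g hg
    have hle : K ≤ Subgroup.centralizer ({f} : Set G) := by
      rw [← hC, Subgroup.closure_le]
      rintro _ ⟨g, hg, y, hy, rfl⟩
      rw [SetLike.mem_coe, Subgroup.mem_centralizer_singleton_iff]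
      set g' := y * g * y⁻¹ with hg'
      have ht : f * g * f⁻¹ * g⁻¹ ∈ ⁅K, K⁆ := Subgroup.commutator_mem_commutator hf.1 hg
      have hyf : y * f * y⁻¹ = f := by
        rw [Subgroup.mem_centralizer_iff.mp hf.2 y hy, mul_inv_cancel_right]
      have hyt : y * (f * g * f⁻¹ * g⁻¹) * y⁻¹ = f * g * f⁻¹ * g⁻¹ := by
        rw [Subgroup.mem_centralizer_iff.mp (hK1 ht).2 y hy, mul_inv_cancel_right]
      have h1 : f * g' * f⁻¹ * g'⁻¹ = f * g * f⁻¹ * g⁻¹ := by
        calc f * g' * f⁻¹ * g'⁻¹
            = (y * f * y⁻¹) * g' * (y * f * y⁻¹)⁻¹ * g'⁻¹ := by rw [hyf]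
          _ = y * (f * g * f⁻¹ * g⁻¹) * y⁻¹ := by rw [hg']; group
          _ = f * g * f⁻¹ * g⁻¹ := hyt
      have h2 : f * g' * f⁻¹ = f * g * f⁻¹ * g⁻¹ * g' := mul_inv_eq_iff_eq_mul.mp h1
      have h3 : f * (g⁻¹ * g') * f⁻¹ = g⁻¹ * g' := by
        calc f * (g⁻¹ * g') * f⁻¹ = (f * g * f⁻¹)⁻¹ * (f * g' * f⁻¹) := by group
          _ = g⁻¹ * g' := by rw [h2]; group
      exact (mul_inv_eq_iff_eq_mul.mp h3).symm
    exact (Subgroup.mem_centralizer_singleton_iff.mp (hle hg)).symm
  -- the restriction of the character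
  set χ : K → ℂ := fun k => ρ.character k with hχ
  have hχc : Cfsg.IsCharacter K χ :=
    Char.isCharacter_character (ρ.comp K.subtype : Representation ℂ K (Fin n → ℂ))
  have hχ1 : χ 1 = n := by
    rw [hχ]; simp only [OneMemClass.coe_one, Representation.char_one, Module.finrank_fin_fun]
  obtain ⟨m, hm⟩ := Char.IsCharacter.exists_nat_combination hχc
  have hm' : ∀ ψ : Cfsg.IrrCharacter K, Cfsg.classInner χ ψ.1 = (m ψ : ℂ) := fun ψ => by
    rw [hm, Char.classInner_sum_smul_irr (fun φ => (m φ : ℂ)) ψ]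
  have hdeg : ∑ ψ, m ψ * Char.degree (ψ : K → ℂ) = n := by
    have h1 := congrFun hm 1
    simp only [Finset.sum_apply, Pi.smul_apply, smul_eq_mul, hχ1] at h1
    simp only [← Char.IsCharacter.degree_cast (Char.IsIrrCharacter.isCharacter (Subtype.prop _))]
      at h1
    exact_mod_cast h1.symm
  obtain ⟨ψ, hψm, hψ1⟩ : ∃ ψ : Cfsg.IrrCharacter K, m ψ ≠ 0 ∧ ∃ k, (ψ : K → ℂ) k ≠ 1 := by
    by_contra hall
    push Not at hall
    refine hFK (le_antisymm inf_le_left fun x hx => ⟨hx, ?_⟩)
    have h1 : χ ⟨x, hx⟩ = χ 1 := by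
      rw [hm]
      simp only [Finset.sum_apply, Pi.smul_apply, smul_eq_mul]
      refine Finset.sum_congr rfl fun φ _ => ?_
      by_cases h0 : m φ = 0
      · simp [h0]
      · rw [hall φ h0, hall φ h0]
    rw [hχ1] at h1
    have h2 := (Char.character_eq_degree_iff ρ x).mp (by rw [Module.finrank_fin_fun]; exact h1)
    rw [show x = 1 from hρ (h2.trans (map_one ρ).symm)]
    exact Subgroup.one_mem _
  -- constituents are invariant
  have hinv : ∀ y ∈ P, ∀ k : K, (ψ : K → ℂ) (MulAut.conjNormal y k) = (ψ : K → ℂ) k := by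
    intro y hy k
    let e : K ≃* K := MulAut.conjNormal y
    have hχe : χ ∘ e = χ := funext fun k => by
      show ρ.character ((e k : K) : G) = ρ.character (k : G)
      rw [show ((e k : K) : G) = y * k * y⁻¹ from rfl]
      exact Representation.char_conj ρ (k : G) y
    let Φ : {φ : Cfsg.IrrCharacter K // m φ ≠ 0} → {φ : Cfsg.IrrCharacter K // m φ ≠ 0} :=
      fun φ => ⟨⟨(φ.1 : K → ℂ) ∘ e, CharTwist.isIrrCharacter_comp_equiv φ.1.2 e⟩, by
        have h1 : (m ⟨(φ.1 : K → ℂ) ∘ e, CharTwist.isIrrCharacter_comp_equiv φ.1.2 e⟩ : ℂ) = m φ.1 := by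
          rw [← hm', ← hm']
          conv_lhs => rw [← hχe]
          exact Clifford.classInner_comp_equiv e χ φ.1.1
        rw [Nat.cast_inj] at h1
        rw [h1]; exact φ.2⟩
    have hΦ : Function.Injective Φ := by
      intro a b h
      have h1 : (a.1 : K → ℂ) ∘ e = (b.1 : K → ℂ) ∘ e := congrArg (fun φ => φ.1.1) h
      refine Subtype.ext (Subtype.ext (funext fun k => ?_))
      simpa using congrFun h1 (e.symm k)
    let σ : Equiv.Perm {φ : Cfsg.IrrCharacter K // m φ ≠ 0} :=
      Equiv.ofBijective Φ (Finite.injective_iff_bijective.mp hΦ)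
    have hpow : ∀ (i : ℕ) (φ : {φ : Cfsg.IrrCharacter K // m φ ≠ 0}) (k : K),
        ((σ ^ i) φ).1.1 k = φ.1.1 ((e ^ i) k) := by
      intro i
      induction i with
      | zero => intro φ k; rfl
      | succ i ih =>
        intro φ k
        rw [pow_succ, Equiv.Perm.mul_apply, ih, pow_succ']
        rfl
    obtain ⟨a, ha⟩ := hP ⟨y, hy⟩
    have hya : y ^ p ^ a = 1 := congrArg Subtype.val ha
    have hσ : σ ^ p ^ a = 1 := by
      refine Equiv.ext fun φ => Subtype.ext (Subtype.ext (funext fun k => ?_))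
      rw [hpow, show e ^ p ^ a = MulAut.conjNormal (y ^ p ^ a) from (map_pow _ _ _).symm, hya,
        map_one]
      rfl
    have hcard : Fintype.card {φ : Cfsg.IrrCharacter K // m φ ≠ 0} ≤ n := by
      rw [Fintype.card_subtype, ← hdeg, Finset.card_eq_sum_ones]
      refine le_trans (Finset.sum_le_sum fun φ hφ => ?_)
        (Finset.sum_le_sum_of_subset (Finset.subset_univ _))
      exact Nat.one_le_iff_ne_zero.mpr (mul_ne_zero (Finset.mem_filter.mp hφ).2
        (Char.IsIrrCharacter.degree_pos φ.2).ne')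
    have hσ1 : σ = 1 := by
      have h1 := orderOf_dvd_of_pow_eq_one hσ
      have h2 : orderOf σ ∣ (Fintype.card {φ : Cfsg.IrrCharacter K // m φ ≠ 0}).factorial := by
        rw [← Fintype.card_perm]; exact orderOf_dvd_card
      refine orderOf_eq_one_iff.mp (Nat.eq_one_of_dvd_coprimes ?_ h1 h2)
      refine (((Fact.out : p.Prime).coprime_iff_not_dvd).mpr fun h => ?_).pow_left a
      rw [Nat.Prime.dvd_factorial (Fact.out : p.Prime)] at h
      omega
    exact congrFun (congrArg (fun φ => φ.1.1) (Equiv.ext_iff.mp hσ1 ⟨ψ, hψm⟩)) k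
  obtain ⟨d, σ, hσ, hσψ⟩ := ψ.2
  haveI := hσ
  have hd : (ψ : K → ℂ) 1 = d := by
    rw [← hσψ, Representation.char_one, Module.finrank_fin_fun]
  have hd0 : d ≠ 0 := fun h => Char.IsIrrCharacter.apply_one_ne_zero ψ.2 (by rw [hd, h, Nat.cast_zero])
  -- not linear
  have hd1 : d ≠ 1 := by
    intro h1
    obtain ⟨f, hf⟩ := Char.IsCharacter.exists_linear (Char.IsIrrCharacter.isCharacter ψ.2)
      (by rw [hd, h1, Nat.cast_one])
    obtain ⟨k, hk⟩ := hψ1
    refine hk ?_
    have hker : Subgroup.closure gens ≤ f.ker.map K.subtype := by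
      rw [Subgroup.closure_le]
      rintro _ ⟨g, hg, y, hy, rfl⟩
      refine ⟨(⟨g, hg⟩ : K)⁻¹ * MulAut.conjNormal y ⟨g, hg⟩, ?_, rfl⟩
      have h2 := hinv y hy ⟨g, hg⟩
      rw [hf, hf] at h2
      rw [SetLike.mem_coe, MonoidHom.mem_ker, map_mul, map_inv, Units.ext h2, inv_mul_cancel]
    obtain ⟨k', hk', he⟩ := hker (show (k : G) ∈ Subgroup.closure gens by rw [hC]; exact k.2)
    rw [hf, ← show k' = k from Subtype.ext he, MonoidHom.mem_ker.mp hk', Units.val_one]
  have hdn : d ≤ n := by
    have h1 : Char.degree (ψ : K → ℂ) = d := by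
      have h2 := Char.IsCharacter.degree_cast (Char.IsIrrCharacter.isCharacter ψ.2)
      rw [hd] at h2; exact_mod_cast h2
    rw [← hdeg, ← h1]
    exact le_trans (Nat.le_mul_of_pos_left _ (Nat.pos_of_ne_zero hψm))
      (Finset.single_le_sum (f := fun ψ : Cfsg.IrrCharacter K => m ψ * Char.degree (ψ : K → ℂ))
        (fun _ _ => Nat.zero_le _) (Finset.mem_univ ψ))
  -- the centre of `ψ`
  let Y : Subgroup K :=
    (Subgroup.center σ.asGroupHom.range).comap σ.asGroupHom.rangeRestrict
  have hY : ∀ k : K, k ∈ Y ↔ ∀ g : K, σ g * σ k = σ k * σ g := by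
    intro k
    rw [Subgroup.mem_comap, Subgroup.mem_center_iff]
    refine ⟨fun h g => ?_, fun h => ?_⟩
    · simpa [Subtype.ext_iff, Units.ext_iff, Representation.asGroupHom_apply] using
        h (σ.asGroupHom.rangeRestrict g)
    · rintro ⟨_, g, rfl⟩
      refine Subtype.ext (Units.ext ?_)
      simpa [Representation.asGroupHom_apply] using h g
  have hval : ∀ k : K, Complex.normSq ((ψ : K → ℂ) k) = if k ∈ Y then (d : ℝ) ^ 2 else 0 := by
    intro k
    split_ifs with hk
    · obtain ⟨s, hs⟩ := Char.exists_scalar_of_commute σ (σ k) fun g => ((hY k).mp hk g).symm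
      obtain ⟨s', hs'⟩ := Char.exists_scalar_of_commute σ (σ k⁻¹) fun g =>
        ((hY k⁻¹).mp (Y.inv_mem hk) g).symm
      have hv : ∀ (t : ℂ) (x : K), σ x = t • 1 → (ψ : K → ℂ) x = t * d := by
        intro t x hx
        rw [← hσψ, Representation.character, hx, map_smul, LinearMap.trace_one,
          Module.finrank_fin_fun, smul_eq_mul]
      have hss : s * s' = 1 := by
        have h1 : σ k * σ k⁻¹ = 1 := by rw [← map_mul, mul_inv_cancel, map_one]
        rw [hs, hs', smul_mul_smul_comm, one_mul] at h1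
        have h2 := congrArg (LinearMap.trace ℂ (Fin d → ℂ)) h1
        rw [map_smul, LinearMap.trace_one, smul_eq_mul] at h2
        exact (mul_eq_right₀ (by simpa using hd0)).mp h2
      have h3 : ((Complex.normSq ((ψ : K → ℂ) k) : ℝ) : ℂ) = (((d : ℝ) ^ 2 : ℝ) : ℂ) := by
        rw [← Complex.mul_conj, ← Char.IsIrrCharacter.apply_inv ψ.2, hv s k hs, hv s' _ hs']
        push_cast
        linear_combination (d : ℂ) ^ 2 * hss
      exact_mod_cast h3
    · rw [hY] at hk
      push Not at hk
      obtain ⟨g, hg⟩ := hk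
      have hcK : ((k⁻¹ * (g * k * g⁻¹) : K) : G) ∈ ⁅K, K⁆ := by
        have h1 := Subgroup.commutator_mem_commutator (H₁ := K) (H₂ := K) (K.inv_mem k.2) g.2
        rw [commutatorElement_def, inv_inv] at h1
        show (k : G)⁻¹ * ((g : G) * k * (g : G)⁻¹) ∈ ⁅K, K⁆
        rwa [← mul_assoc, ← mul_assoc] at *
      set c := k⁻¹ * (g * k * g⁻¹) with hc
      have hcZ : c ∈ Subgroup.center K := Subgroup.mem_center_iff.mpr fun x =>
        Subtype.ext (hcen _ (hK1 hcK) _ x.2).symm
      have h2 := CharOver.apply_mul_central ψ.2 hcZ k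
      rw [hc, mul_inv_cancel_left, Char.IsClassFunction.eq_of_isConj
        (Char.IsIrrCharacter.isClassFunction ψ.2) (isConj_iff.mpr ⟨g, rfl⟩ :
          IsConj k (g * k * g⁻¹)).symm, ← hc] at h2
      rcases mul_eq_mul_left_iff.mp h2 with h3 | h3
      · exfalso
        have h4 := (Char.character_eq_degree_iff σ c).mp (by
          rw [hσψ, Module.finrank_fin_fun, ← h3, hd])
        refine hg ?_
        have h5 : σ (g * k * g⁻¹) = σ k := by
          rw [show g * k * g⁻¹ = k * c by rw [hc, mul_inv_cancel_left], map_mul, h4]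
          rfl
        calc σ g * σ k = σ (g * k * g⁻¹) * σ g := by
              rw [← map_mul, ← map_mul, inv_mul_cancel_right]
          _ = σ k * σ g := by rw [h5]
      · rw [h3, map_zero]
  have hcount : Nat.card K = Nat.card Y * d ^ 2 := by
    have h1 : ∑ k : K, Complex.normSq ((ψ : K → ℂ) k) = (Nat.card K : ℝ) := by
      have h1 := Char.classInner_irr_self ψ.2
      rw [Cfsg.classInner, inv_mul_eq_iff_eq_mul₀ (Nat.cast_ne_zero.mpr Nat.card_pos.ne'),
        mul_one] at h1
      simp only [Complex.mul_conj] at h1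
      apply Complex.ofReal_injective
      push_cast
      exact h1
    rw [Finset.sum_congr rfl fun k _ => hval k, ← Finset.sum_filter, Finset.sum_const,
      nsmul_eq_mul, ← Nat.subtype_card (p := (· ∈ Y)) _ (fun k => by simp)] at h1
    exact_mod_cast h1.symm
  have hYmem : ∀ k : K, k ∈ Y ↔ (ψ : K → ℂ) k ≠ 0 := by
    intro k
    rw [← Complex.normSq_pos, hval]
    split_ifs with h
    · exact iff_of_true h (by positivity)
    · exact iff_of_false h (lt_irrefl _)
  have hYF : Y.map K.subtype = F := by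
    refine le_antisymm (hsubF _ (Subgroup.map_subtype_le _) ?_ ?_) ?_
    · intro h
      have h1 := congrArg (fun L : Subgroup G => Nat.card L) h
      simp only [Subgroup.card_map_of_injective K.subtype_injective] at h1
      rw [h1] at hcount
      have h2 : d ^ 2 = 1 := (mul_eq_left₀ Nat.card_pos.ne').mp hcount.symm
      exact hd1 (by nlinarith)
    · rintro y hy _ ⟨l, hl, rfl⟩
      refine ⟨MulAut.conjNormal y l, ?_, rfl⟩
      rw [SetLike.mem_coe, hYmem, hinv y hy] at *
      exact hl
    · intro f hf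
      refine ⟨⟨f, hf.1⟩, ?_, rfl⟩
      rw [SetLike.mem_coe, hY]
      intro g
      rw [← map_mul, ← map_mul]
      exact congrArg σ (Subtype.ext (hcen f hf g g.2).symm)
  -- counting fixed points
  letI : MulAction P K := MulAction.compHom K ((MulAut.conjNormal (H := K)).comp P.subtype)
  have hfix : Nat.card (MulAction.fixedPoints P K) = Nat.card Y := by
    refine Nat.card_congr (Equiv.setCongr ?_)
    ext k
    rw [MulAction.mem_fixedPoints]
    refine ⟨fun h => ?_, fun h y => ?_⟩
    · have h1 : (k : G) ∈ F := ⟨k.2, Subgroup.mem_centralizer_iff.mpr fun y hy =>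
        mul_inv_eq_iff_eq_mul.mp (congrArg Subtype.val (h ⟨y, hy⟩))⟩
      rw [← hYF] at h1
      obtain ⟨k', hk', he⟩ := h1
      rwa [← show k' = k from Subtype.ext he]
    · have h1 : (k : G) ∈ F := by rw [← hYF]; exact ⟨k, h, rfl⟩
      exact Subtype.ext (mul_inv_eq_iff_eq_mul.mpr
        (Subgroup.mem_centralizer_iff.mp h1.2 y y.2))
  have hmod := hP.card_modEq_card_fixedPoints K
  rw [hfix, hcount] at hmod
  have hcopY : ¬ p ∣ Nat.card Y := fun h => hcop (hcount ▸ dvd_mul_of_dvd_left h _)
  have hd2 : 1 ≤ d ^ 2 := Nat.one_le_pow _ _ (Nat.pos_of_ne_zero hd0)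
  have h1 : p ∣ Nat.card Y * ((d - 1) * (d + 1)) := by
    have h2 := (Nat.modEq_iff_dvd' (Nat.le_mul_of_pos_right _ hd2)).mp hmod.symm
    have h3 : (d - 1) * (d + 1) = d ^ 2 - 1 := by
      rw [mul_comm, ← Nat.sq_sub_sq, one_pow]
    rwa [h3, Nat.mul_sub, mul_one]
  rcases (Fact.out : p.Prime).dvd_mul.mp h1 with h | h
  · exact hcopY h
  · rcases (Fact.out : p.Prime).dvd_mul.mp h with h | h
    · have := Nat.le_of_dvd (by omega) h; omega
    · have := Nat.le_of_dvd (by omega) h; omega

/-- The inductive step: all proper subgroups already have normal Sylow subgroups. -/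
theorem step {n : ℕ} (hnp : n + 1 < p) (ρ : Representation ℂ G (Fin n → ℂ))
    (hρ : Function.Injective ρ)
    (hhyp : (n + 1) ^ 2 ≤ p ∨ ∀ K : Subgroup G, ¬ p ^ 2 ∣ Nat.card K → HasNormalSylow p K)
    (hproper : ∀ M : Subgroup G, M ≠ ⊤ → HasNormalSylow p M) : HasNormalSylow p G := by
  classical
  cases nonempty_fintype G
  intro P
  by_contra hPn
  have hPp : IsPGroup p (P : Subgroup G) := P.2
  have habQ : ∀ Q : Subgroup G, IsPGroup p Q → ∀ a ∈ Q, ∀ b ∈ Q, a * b = b * a := by
    intro Q hQ a ha b hb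
    refine congrArg Subtype.val (Cfsg.Agent.S0185.result
      (ρ.comp Q.subtype : Representation ℂ Q (Fin n → ℂ)) (hρ.comp Q.subtype_injective) ?_
      ⟨a, ha⟩ ⟨b, hb⟩)
    intro q hq hdvd
    obtain ⟨k, hk⟩ := IsPGroup.iff_card.mp hQ
    rw [hk] at hdvd
    rw [(Nat.prime_dvd_prime_iff_eq hq Fact.out).mp (hq.dvd_of_dvd_pow hdvd),
      Module.finrank_fin_fun]
    omega
  have hab := habQ _ hPp
  have hgen : ∀ M : Subgroup G, M.Normal → (P : Subgroup G) ≤ M → M = ⊤ := by
    intro M hM hle
    by_contra hne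
    refine hPn ⟨fun x hx g => ?_⟩
    let P' : Sylow p G := P.mapSurjective (f := (MulAut.conj g).toMonoidHom) (MulEquiv.surjective _)
    have hP'M : (P' : Subgroup G) ≤ M := by
      rintro _ ⟨x, hx, rfl⟩
      exact hM.conj_mem x (hle hx) g
    rw [sylow_eq_of_le (hproper M hne) hle hP'M]
    exact ⟨x, hx, rfl⟩
  rcases ne_or_eq (commutator G) ⊤ with hne | hperf
  · set K := commutator G with hKdef
    haveI : K.Normal := by rw [hKdef]; infer_instance
    have hK := hproper K hne
    let S : Sylow p K := default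
    haveI : (S : Subgroup K).Characteristic := S.characteristic_of_normal (hK S)
    set R := (S : Subgroup K).map K.subtype with hR
    have hRP : R ≤ P := (S.2.map K.subtype).le_sylow_of_normal P
    have hRZ : R ≤ Subgroup.center G := by
      have h1 : Subgroup.centralizer (R : Set G) = ⊤ :=
        hgen _ inferInstance fun y hy =>
          Subgroup.mem_centralizer_iff.mpr fun r hr => hab r (hRP hr) y hy
      exact fun r hr => Subgroup.mem_center_iff.mpr fun g =>
        ((Subgroup.mem_centralizer_iff.mp (show g ∈ Subgroup.centralizer (R : Set G) by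
          rw [h1]; exact Subgroup.mem_top g)) r hr).symm
    have hcop : ¬ p ∣ Nat.card K := by
      intro h
      have hS : (S : Subgroup K) = ⊥ := by
        rw [Subgroup.eq_bot_iff_forall]
        intro x hx
        exact Subtype.ext (eq_one_of_mem_center hab (hRP ⟨x, hx, rfl⟩) (hRZ ⟨x, hx, rfl⟩) x.2)
      have h1 := S.dvd_card_of_dvd_card h
      rw [show Nat.card (S : Subgroup K) = 1 by rw [hS]; exact Subgroup.card_bot] at h1
      exact (Fact.out : p.Prime).not_dvd_one h1
    have hdisj : ∀ x, x ∈ (P : Subgroup G) → x ∈ K → x = 1 := by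
      intro x hxP hxK
      obtain ⟨k, hk⟩ := IsPGroup.iff_card.mp hPp
      refine orderOf_eq_one_iff.mp (Nat.eq_one_of_dvd_coprimes
        (((Fact.out : p.Prime).coprime_iff_not_dvd.mpr hcop).pow_left k) ?_
        (Subgroup.orderOf_mk x hxK ▸ orderOf_dvd_natCard (⟨x, hxK⟩ : K)))
      rw [← hk, ← Subgroup.orderOf_mk x hxP]
      exact orderOf_dvd_natCard _
    have htop : (P : Subgroup G) ⊔ K = ⊤ := by
      refine hgen _ ⟨fun x hx g => ?_⟩ le_sup_left
      have h1 : g * x * g⁻¹ * x⁻¹ ∈ K := Subgroup.commutator_mem_commutator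
        (Subgroup.mem_top g) (Subgroup.mem_top x)
      have h2 := Subgroup.mul_mem _ (show _ ∈ (P : Subgroup G) ⊔ K from
        Subgroup.mem_sup_right h1) hx
      rwa [inv_mul_cancel_right] at h2
    have hcent : K ≤ Subgroup.centralizer ((P : Subgroup G) : Set G) := by
      refine centralises hnp ρ hρ hPp K hcop fun L hLK hLne hLinv l hl y hy => ?_
      have hnorm : (P : Subgroup G) ≤ Subgroup.normalizer (L : Set G) := fun z hz =>
        Subgroup.mem_normalizer_iff.mpr fun a => ⟨hLinv z hz a, fun h => by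
          simpa [mul_assoc] using hLinv z⁻¹ ((P : Subgroup G).inv_mem hz) _ h⟩
      have hM : (P : Subgroup G) ⊔ L ≠ ⊤ := by
        intro h
        refine hLne (le_antisymm hLK fun x hx => ?_)
        obtain ⟨a, ha, b, hb, rfl⟩ := (Set.ext_iff.mp
          (Subgroup.coe_mul_of_left_le_normalizer_right _ _ hnorm) x).mp
            (by rw [h]; exact Subgroup.mem_top x)
        have h1 : a = 1 := hdisj a ha (by simpa using K.mul_mem hx (K.inv_mem (hLK hb)))
        simpa [h1] using hb
      have hPM : ((P : Subgroup G).subgroupOf ((P : Subgroup G) ⊔ L)).Normal :=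
        hproper _ hM (P.subtype le_sup_left)
      have h1 : l * y * l⁻¹ ∈ (P : Subgroup G) :=
        hPM.conj_mem ⟨y, Subgroup.mem_sup_left hy⟩ hy ⟨l, Subgroup.mem_sup_right hl⟩
      have h2 : l * y * l⁻¹ * y⁻¹ = 1 := by
        refine hdisj _ ((P : Subgroup G).mul_mem h1 ((P : Subgroup G).inv_mem hy)) ?_
        have h3 := K.mul_mem (hLK hl) ((inferInstance : K.Normal).conj_mem l⁻¹
          (K.inv_mem (hLK hl)) y)
        simpa [mul_assoc] using h3
      rw [mul_inv_eq_one, mul_inv_eq_iff_eq_mul] at h2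
      exact h2.symm
    refine hPn (Subgroup.normalizer_eq_top_iff.mp (top_le_iff.mp (htop ▸ sup_le ?_ ?_)))
    · exact Subgroup.le_normalizer
    · intro k hk
      refine Subgroup.mem_normalizer_iff.mpr fun y => ?_
      have hc : ∀ z ∈ (P : Subgroup G), k * z * k⁻¹ = z := fun z hz => by
        rw [← Subgroup.mem_centralizer_iff.mp (hcent hk) z hz, mul_inv_cancel_right]
      refine ⟨fun hy => by rwa [hc y hy], fun hy => ?_⟩
      have h1 := hc _ hy
      have h2 : k * y * k⁻¹ = y := mul_left_cancel (mul_right_cancel h1)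
      rwa [h2] at hy
  · have hPZ : (P : Subgroup G) ⊓ Subgroup.center G = ⊥ := by
      rw [Subgroup.eq_bot_iff_forall]
      rintro z ⟨h1, h2⟩
      exact eq_one_of_mem_center hab h1 h2 (hperf ▸ Subgroup.mem_top z)
    have hP1 : (P : Subgroup G) ≠ ⊥ := fun h => hPn (by rw [h]; infer_instance)
    have hone : ∀ g : G, g ∉ Subgroup.center G → ∀ a b : G,
        Subgroup.centralizer ({g} : Set G) ⊓
          (P : Subgroup G).map (MulAut.conj a).toMonoidHom ≠ ⊥ →
        Subgroup.centralizer ({g} : Set G) ⊓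
          (P : Subgroup G).map (MulAut.conj b).toMonoidHom ≠ ⊥ →
        (P : Subgroup G).map (MulAut.conj a).toMonoidHom =
          (P : Subgroup G).map (MulAut.conj b).toMonoidHom := by
      intro g hg a b ha hb
      let Pa : Sylow p G := P.mapSurjective (f := (MulAut.conj a).toMonoidHom) (MulEquiv.surjective _)
      let Pb : Sylow p G := P.mapSurjective (f := (MulAut.conj b).toMonoidHom) (MulEquiv.surjective _)
      obtain ⟨x, ⟨hxM, hxa⟩, hx1⟩ := (Subgroup.bot_or_exists_ne_one _).resolve_left ha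
      obtain ⟨x', ⟨hx'M, hx'b⟩, hx'1⟩ := (Subgroup.bot_or_exists_ne_one _).resolve_left hb
      have hnc : ∀ z : G, z ≠ 1 → ∀ T : Sylow p G, z ∈ (T : Subgroup G) →
          z ∉ Subgroup.center G := by
        intro z hz T hzT hzZ
        refine hz (eq_one_of_mem_center (habQ _ T.2) hzT hzZ (hperf ▸ Subgroup.mem_top z))
      have hproperC : ∀ z : G, z ∉ Subgroup.center G →
          Subgroup.centralizer ({z} : Set G) ≠ ⊤ := by
        intro z hz h
        exact hz (Subgroup.mem_center_iff.mpr fun y => Subgroup.mem_centralizer_singleton_iff.mp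
          (h ▸ Subgroup.mem_top y))
      -- the elements lie in the abelian Sylow subgroup of `C(g)`
      set M := Subgroup.centralizer ({g} : Set G)
      let S : Sylow p M := default
      haveI := Sylow.unique_of_normal S (hproper M (hproperC g hg) S)
      have hmemS : ∀ z (hz : z ∈ M) (T : Sylow p G), z ∈ (T : Subgroup G) →
          z ∈ (S : Subgroup M).map M.subtype := by
        intro z hz T hzT
        obtain ⟨S', hS'⟩ := (T.2.comap_of_injective M.subtype M.subtype_injective).exists_le_sylow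
        rw [Subsingleton.elim S' S] at hS'
        exact ⟨⟨z, hz⟩, hS' hzT, rfl⟩
      have hcomm : x * x' = x' * x :=
        habQ _ (S.2.map M.subtype) x (hmemS x hxM Pa hxa) x' (hmemS x' hx'M Pb hx'b)
      have hPaC : ∀ (T : Sylow p G) (z : G), z ∈ (T : Subgroup G) →
          (T : Subgroup G) ≤ Subgroup.centralizer ({z} : Set G) := fun T z hz w hw =>
        Subgroup.mem_centralizer_singleton_iff.mpr (habQ _ T.2 w hw z hz)
      have hx'a : x' ∈ (Pa : Subgroup G) := by
        refine le_sylow (hproper _ (hproperC x (hnc x hx1 Pa hxa))) (hPaC Pa x hxa)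
          (Q := Subgroup.zpowers x') (Pb.2.to_le (Subgroup.zpowers_le.mpr hx'b)) ?_
          (Subgroup.mem_zpowers x')
        exact Subgroup.zpowers_le.mpr (Subgroup.mem_centralizer_singleton_iff.mpr hcomm.symm)
      exact congrArg (fun T : Sylow p G => (T : Subgroup G))
        (sylow_eq_of_le (hproper _ (hproperC x' (hnc x' hx'1 Pb hx'b)))
          (hPaC Pa x' hx'a) (hPaC Pb x' hx'b))
    obtain ⟨z, hz, hz1⟩ := (Subgroup.bot_or_exists_ne_one _).resolve_left hP1
    obtain ⟨U, hU, hUz⟩ := CharKernel.exists_irreducible_sub_ne_one ρ z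
      fun h => hz1 (hρ (h.trans (map_one ρ).symm))
    haveI := hU
    haveI := CharKernel.coordRep_irreducible U.toRepresentation
    set d := finrank ℂ U.toSubmodule with hd
    set χ := (CharKernel.coordRep U.toRepresentation).character with hχ
    have hχi : Cfsg.IsIrrCharacter G χ := ⟨_, _, inferInstance, rfl⟩
    have hχ1 : χ 1 = d := by
      rw [hχ, CharKernel.coordRep_character, Representation.char_one]
    have hd1 : d ≠ 1 := by
      intro h1
      obtain ⟨f, hf⟩ := Char.IsCharacter.exists_linear (Char.IsIrrCharacter.isCharacter hχi)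
        (by rw [hχ1, h1, Nat.cast_one])
      refine hUz ?_
      have h2 : χ z = d := by
        rw [hf, MonoidHom.mem_ker.mp (Abelianization.commutator_subset_ker f
          (hperf ▸ Subgroup.mem_top z)), h1, Nat.cast_one, Units.val_one]
      rw [hχ, CharKernel.coordRep_character] at h2
      exact (Char.character_eq_degree_iff U.toRepresentation z).mp h2
    have hdn : d ≤ n := le_trans (Submodule.finrank_le _) (le_of_eq (Module.finrank_fin_fun ℂ))
    have hlt : Nat.card (P : Subgroup G) < (1 + n) ^ 2 :=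
      lt_of_lt_of_le (abelian_separated_succ_sq (P : Subgroup G) hab hPZ hone hχi hχ1 hd1 hgen)
        (Nat.pow_le_pow_left (by omega) 2)
    obtain ⟨k, hk⟩ := IsPGroup.iff_card.mp hPp
    have hk0 : k ≠ 0 := fun h => hP1 (Subgroup.eq_bot_of_card_eq _ (by rw [hk, h, pow_zero]))
    have hp2 := (Fact.out : p.Prime).two_le
    rcases hhyp with h | h
    · have : p ≤ p ^ k := Nat.le_self_pow hk0 p
      rw [add_comm 1 n] at hlt
      omega
    · have h2 : p ^ 2 ∣ Nat.card G := by
        by_contra h2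
        exact hPn (HasNormalSylow.of_equiv Subgroup.topEquiv.symm
          (h ⊤ (by rwa [Subgroup.card_top])) P)
      have h3 : p ^ 2 ∣ p ^ k := hk ▸ P.pow_dvd_card_of_pow_dvd_card h2
      have h4 := Nat.le_of_dvd (pow_pos (by omega) k) h3
      have h5 : (1 + n) ^ 2 ≤ p ^ 2 := Nat.pow_le_pow_left (by omega) 2
      omega

/-- A faithful degree small against `p` makes the Sylow `p`-subgroup normal. -/
theorem normal_sylow {n : ℕ} (hnp : n + 1 < p) : ∀ (m : ℕ) (G : Type u) [Group G] [Finite G],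
    Nat.card G = m → ∀ ρ : Representation ℂ G (Fin n → ℂ), Function.Injective ρ →
    ((n + 1) ^ 2 ≤ p ∨ ∀ K : Subgroup G, ¬ p ^ 2 ∣ Nat.card K → HasNormalSylow p K) →
    HasNormalSylow p G := by
  intro m
  induction m using Nat.strong_induction_on with
  | _ m ih =>
    intro G _ _ hm ρ hρ hhyp
    refine step hnp ρ hρ hhyp fun M hM => ?_
    refine ih (Nat.card M) ?_ M rfl (ρ.comp M.subtype : Representation ℂ M (Fin n → ℂ))
      (hρ.comp M.subtype_injective) (hhyp.imp_right fun h K hK => ?_)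
    · rw [← hm]
      exact lt_of_le_of_ne (Subgroup.card_le_card_group M) fun h => hM (Subgroup.eq_top_of_card_eq M h)
    · refine HasNormalSylow.of_equiv (K.equivMapOfInjective M.subtype M.subtype_injective)
        (h _ ?_)
      rwa [Subgroup.card_map_of_injective M.subtype_injective]

end CfsgLib.CharExt.SmallDegree
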