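import Cfsg.Agent.Lib.CharExt.FeitBound
import Cfsg.Agent.Lib.CharDeep.Zassenhaus

/-!
# Feit's inequality for Zassenhaus groups with two-point stabilisers of odd order

The simple case is the bound of `FeitBound`; a proper normal subgroup has the same kernels.
-/

set_option autoImplicit false

open MulAction

namespace CfsgLib.FeitData

open CfsgLib.ZassOdd CfsgLib.Zass

universe u w

theorem inequality {Ω : Type w} [Fintype Ω] (n : ℕ) :
    ∀ {G : Type u} [Group G] [Finite G] [MulAction G Ω], Nat.card G = n →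
      Cfsg.IsZassenhausGroup G Ω → ∀ {a b : Ω}, a ≠ b → ∀ (h e : ℕ), Fintype.card Ω = h + 1 →
      Nat.card ↥(stabilizer G a ⊓ stabilizer G b : Subgroup G) = e → Odd e →
      ∀ H : Subgroup G, H ≤ stabilizer G a → Nat.card H + 1 = Fintype.card Ω →
      (∀ u ∈ H, u ≠ 1 → ∀ c : Ω, u • c = c → c = a) →
      h - 1 ≤ 2 * e ∨ (IsPGroup 2 H ∧ (∃ u v : H, u * v ≠ v * u) ∧
        (commutator H).index ≤ 4 * e ^ 2 + 1) := by
  induction n using Nat.strong_induction_on with
  | _ n ih =>
    intro G _ _ _ hn hZ a b hab h e hh he hodd H hHa hHcard hHfix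
    classical
    haveI := Fintype.ofFinite G
    have hP := Pre.of hZ
    obtain ⟨K, hK⟩ := hP.exists_kernel a
    have hKH : K = H := by
      refine Subgroup.eq_of_le_of_card_ge (fun k hk => ?_) ?_
      · by_cases hk1 : k = 1
        · rw [hk1]; exact H.one_mem
        · exact CharDeep.Zas.mem_kernel hZ a H hHa hHcard hHfix (hK.le k hk) (hK.fix k hk hk1)
      · have := hK.card hP
        omega
    by_cases hs : IsSimpleGroup G
    · let S : Setup G Ω :=
        ⟨a, b, h, e, H, hab, Odds.of_simple hZ hab he hodd, hh, hKH ▸ hK⟩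
      haveI : Fintype S.H := Fintype.ofFinite _
      exact S.bound
    obtain ⟨g0, hg0, -, -, -, -, -⟩ := hP.exTwo
    haveI : Nontrivial G := ⟨⟨g0, 1, hg0⟩⟩
    obtain ⟨N, hNn, hN, hN'⟩ : ∃ N : Subgroup G, N.Normal ∧ N ≠ ⊥ ∧ N ≠ ⊤ := by
      by_contra hc
      push Not at hc
      exact hs { eq_bot_or_eq_top_of_normal := fun N hN => (em (N = ⊥)).imp_right (hc N hN) }
    haveI := hNn
    have hHN : H ≤ N := (Pre.normal_structure hZ N hN).2.2 a H (hKH ▸ hK)
    have hlt : Nat.card N < n := by
      rw [← hn]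
      refine lt_of_le_of_ne (Subgroup.card_le_card_group N) fun hc => hN' ?_
      exact (Subgroup.card_eq_iff_eq_top N).mp hc
    let E : Subgroup G := stabilizer G a ⊓ stabilizer G b
    have hsub : (stabilizer N a ⊓ stabilizer N b : Subgroup N) = E.subgroupOf N := by
      ext x; simp [E, Subgroup.mem_subgroupOf, mem_stabilizer_iff, Subgroup.smul_def]
    have hdvd : Nat.card ↥(stabilizer N a ⊓ stabilizer N b : Subgroup N) ∣ e := by
      rw [hsub, ← he, ← Subgroup.inf_subgroupOf_right,
        Nat.card_congr (Subgroup.subgroupOfEquivOfLe (inf_le_right : E ⊓ N ≤ N)).toEquiv]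
      exact Subgroup.card_dvd_of_le inf_le_left
    have he0 : 0 < e := Odd.pos hodd
    have hle := Nat.le_of_dvd he0 hdvd
    have φ : H.subgroupOf N ≃* H := Subgroup.subgroupOfEquivOfLe hHN
    rcases ih _ hlt rfl (Pre.isZassenhausGroup_normal hZ N hN) hab h _ hh rfl
        (hodd.of_dvd_nat hdvd) (H.subgroupOf N) (fun u hu => hHa (Subgroup.mem_subgroupOf.mp hu))
        (by rw [Nat.card_congr φ.toEquiv, hHcard])
        (fun u hu hu1 c hc => hHfix u (Subgroup.mem_subgroupOf.mp hu)
          (fun hc1 => hu1 (Subtype.ext hc1)) c hc) with h1 | ⟨h1, ⟨u, v, huv⟩, h3⟩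
    · left; omega
    refine Or.inr ⟨h1.of_equiv φ, ⟨φ u, φ v, fun hc => huv (φ.injective (by simpa using hc))⟩, ?_⟩
    have hidx : (commutator H).index = (commutator (H.subgroupOf N)).index := by
      have : (commutator (H.subgroupOf N)).map φ.toMonoidHom = commutator H := by
        simp only [commutator_def, Subgroup.map_commutator]
        rw [Subgroup.map_top_of_surjective _ φ.surjective]
      rw [← this]
      exact Subgroup.index_map_equiv _ φ
    rw [hidx]
    have := Nat.pow_le_pow_left hle 2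
    omega

end CfsgLib.FeitData
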