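import Cfsg.Agent.Lib.Char.Virtual
import Cfsg.Agent.Lib.Char.Conj
import Cfsg.Agent.Lib.Char.Integral
import Cfsg.Agent.Lib.Char.CentralOver
import Cfsg.Agent.Lib.Char.Linear
import Cfsg.Agent.Lib.Char.Kernel

/-!
# Degrees of characters over an abelian subgroup with strongly separated conjugates
-/

set_option autoImplicit false

open scoped ComplexConjugate

namespace CfsgLib.CharExt

open Module

universe u

section Constituent

variable {N : Type u} [Group N] [Fintype N]

/-- The average over a subgroup of an irreducible character with that subgroup not in its kernel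
vanishes: the translation-invariance criterion. -/
theorem sum_translates_eq_zero {ψ : N → ℂ} (hψ : Cfsg.IsIrrCharacter N ψ) (A : Subgroup N)
    [A.Normal] [Fintype A] (hA : ∃ a : A, ψ a ≠ ψ 1) (g : N) :
    ∑ a : A, ψ (g * a) = 0 := by
  obtain ⟨d, σ, hσ, rfl⟩ := hψ
  haveI := hσ
  obtain ⟨a₀, ha₀⟩ := hA
  set E : Module.End ℂ (Fin d → ℂ) := ∑ a : A, σ (a : N) with hE
  have hcomm : ∀ x : N, E * σ x = σ x * E := by
    intro x
    rw [hE, Finset.sum_mul, Finset.mul_sum]
    refine Fintype.sum_equiv (MulAut.conjNormal (H := A) x⁻¹).toEquiv _ _ fun a => ?_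
    rw [← map_mul, ← map_mul]
    congr 1
    simp [mul_assoc]
  obtain ⟨c, hc⟩ := Char.exists_scalar_of_commute σ E hcomm
  have hmul : E * σ (a₀ : N) = E := by
    rw [hE, Finset.sum_mul]
    refine Fintype.sum_equiv (Equiv.mulRight a₀) _ _ fun a => ?_
    rw [← map_mul]
    rfl
  have hE0 : E = 0 := by
    rw [hc] at hmul ⊢
    by_contra h0
    have hc0 : c ≠ 0 := fun h => h0 (by rw [h, zero_smul])
    rw [smul_mul_assoc, one_mul] at hmul
    exact ha₀ (by
      rw [Representation.character, Representation.character, smul_right_injective _ hc0 hmul,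
        map_one σ])
  have : ∑ a : A, σ.character (g * (a : N)) = LinearMap.trace ℂ _ (σ g * E) := by
    rw [hE, Finset.mul_sum, map_sum]
    exact Finset.sum_congr rfl fun a _ => by rw [Representation.character, map_mul]
  rw [this, hE0, mul_zero, map_zero]

/-- At an element conjugate to its translates, such a character vanishes. -/
theorem eq_zero_of_translates_conj {ψ : N → ℂ} (hψ : Cfsg.IsIrrCharacter N ψ) (A : Subgroup N)
    [A.Normal] [Fintype A] (hA : ∃ a : A, ψ a ≠ ψ 1) {g : N}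
    (hconj : ∀ a : A, IsConj g (g * a)) : ψ g = 0 := by
  have h := sum_translates_eq_zero hψ A hA g
  rw [Finset.sum_congr rfl fun a _ =>
    (Char.IsClassFunction.eq_of_isConj (Char.IsIrrCharacter.isClassFunction hψ) (hconj a)).symm,
    Finset.sum_const, Finset.card_univ, nsmul_eq_mul] at h
  exact (mul_eq_zero.mp h).resolve_left (Nat.cast_ne_zero.mpr Fintype.card_ne_zero)

end Constituent

variable {G : Type u} [Group G] [Fintype G]

open Classical in
/-- The squared absolute value of the first branch of the bound. -/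
theorem abelian_separated_sq (H : Subgroup G) [Fintype H] (hab : ∀ a ∈ H, ∀ b ∈ H, a * b = b * a)
    (hZ : H ⊓ Subgroup.center G = ⊥)
    (hone : ∀ g : G, g ∉ Subgroup.center G → ∀ a b : G,
      Subgroup.centralizer ({g} : Set G) ⊓ H.map (MulAut.conj a).toMonoidHom ≠ ⊥ →
      Subgroup.centralizer ({g} : Set G) ⊓ H.map (MulAut.conj b).toMonoidHom ≠ ⊥ →
      H.map (MulAut.conj a).toMonoidHom = H.map (MulAut.conj b).toMonoidHom)
    {χ : G → ℂ} (hχ : Cfsg.IsIrrCharacter G χ) (hker : ∃ h ∈ H, χ h ≠ χ 1) {d c : ℕ}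
    (hd : χ 1 = d) (hc : Cfsg.classInner (fun h : H => χ h) (fun _ => 1) = c) :
    Nat.card H * c ^ 2 < d ^ 2 := by
  by_contra hge
  push Not at hge
  set N : Subgroup G := Subgroup.normalizer (H : Set G) with hN
  haveI := Fintype.ofFinite N
  let A : Subgroup N := H.subgroupOf N
  haveI : A.Normal := Subgroup.normal_in_normalizer
  haveI := Fintype.ofFinite A
  have hHN : H ≤ N := Subgroup.le_normalizer
  set Z := Subgroup.center G with hZdef
  have hZN : Z ≤ N := Subgroup.center_le_normalizer _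
  obtain ⟨m, hm⟩ := Char.IsCharacter.exists_nat_combination
    (show Cfsg.IsCharacter N (fun x : N => χ x) by
      obtain ⟨n, ρ, hρ, rfl⟩ := hχ
      exact Char.isCharacter_character (ρ.comp N.subtype))
  -- the constituents trivial on `H`
  let T : Finset (Cfsg.IrrCharacter N) := {ψ | ∀ a : A, (ψ : N → ℂ) a = (ψ : N → ℂ) 1}
  let π : N → ℂ := fun x => ∑ ψ ∈ T, (m ψ : ℂ) * (ψ : N → ℂ) x
  have hvanish : ∀ ψ : Cfsg.IrrCharacter N, ψ ∉ T → ∀ x : N,
      (∀ h ∈ H, (x : G) * h = h * x → h = 1) → (ψ : N → ℂ) x = 0 := by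
    intro ψ hψ x hx
    simp only [T, Finset.mem_filter, Finset.mem_univ, true_and, not_forall] at hψ
    refine eq_zero_of_translates_conj ψ.2 A hψ fun a => ?_
    -- conjugating `x` by `H` gives every translate
    let φ : A → A := fun b => ⟨x⁻¹ * b * x * (b : N)⁻¹,
      A.mul_mem (by simpa using (inferInstance : A.Normal).conj_mem (b : N) b.2 x⁻¹) (A.inv_mem b.2)⟩
    have hφ : Function.Injective φ := by
      intro b b' hbb
      have h1 : x⁻¹ * (b : N) * x * (b : N)⁻¹ = x⁻¹ * (b' : N) * x * (b' : N)⁻¹ :=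
        congrArg Subtype.val hbb
      have hb : ((b : N) : G) ∈ H := b.2
      have hb' : ((b' : N) : G) ∈ H := b'.2
      have h2 : ((b'⁻¹ * b : A) : N) = x⁻¹ * ((b'⁻¹ * b : A) : N) * x := by
        have hcm : (b : N) * (b' : N)⁻¹ = (b' : N)⁻¹ * b :=
          Subtype.ext (hab _ hb _ (H.inv_mem hb'))
        calc ((b'⁻¹ * b : A) : N) = (b' : N)⁻¹ * b := rfl
          _ = (x⁻¹ * (b' : N)⁻¹ * x) * (x⁻¹ * (b' : N) * x * (b' : N)⁻¹) * b := by group
          _ = (x⁻¹ * (b' : N)⁻¹ * x) * (x⁻¹ * (b : N) * x * (b : N)⁻¹) * b := by rw [h1]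
          _ = x⁻¹ * ((b' : N)⁻¹ * b) * x := by group
      have h3 := hx _ (H.mul_mem (H.inv_mem hb') hb) (by
        have h4 : x * ((b'⁻¹ * b : A) : N) = ((b'⁻¹ * b : A) : N) * x := by
          conv_lhs => rw [h2]
          group
        exact congrArg Subtype.val h4)
      exact (inv_mul_eq_one.mp (Subtype.ext (Subtype.ext h3) : b'⁻¹ * b = 1)).symm
    obtain ⟨b, hb⟩ := (Finite.injective_iff_surjective.mp hφ) a
    refine isConj_iff.mpr ⟨(b : N), ?_⟩
    rw [← hb]
    simp [φ, mul_assoc]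
  -- the scalar of a central element
  have hshift : ∀ ψ : Cfsg.IrrCharacter N, m ψ ≠ 0 → ∀ (z : N), (z : G) ∈ Z →
      (ψ : N → ℂ) z * χ 1 = χ (z : G) * (ψ : N → ℂ) 1 := by
    intro ψ hψ z hz
    have hzN : z ∈ Subgroup.center N :=
      Subgroup.mem_center_iff.mpr fun y => Subtype.ext (Subgroup.mem_center_iff.mp hz (y : G))
    have hfun : (fun x : N => χ ((x : G) * z) * χ 1) =
        ∑ φ : Cfsg.IrrCharacter N, ((m φ : ℂ) * χ (z : G)) • (φ : N → ℂ) := by
      funext x
      rw [CharOver.apply_mul_central hχ hz, congrFun hm x, Finset.sum_apply, Finset.sum_apply,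
        Finset.sum_mul]
      refine Finset.sum_congr rfl fun φ _ => ?_
      simp only [Pi.smul_apply, smul_eq_mul]; ring
    have hfun2 : (fun x : N => χ ((x : G) * z) * χ 1) =
        ∑ φ : Cfsg.IrrCharacter N,
          ((m φ : ℂ) * χ 1 * ((φ : N → ℂ) z / (φ : N → ℂ) 1)) • (φ : N → ℂ) := by
      funext x
      rw [show χ ((x : G) * z) = χ ((x * z : N) : G) from rfl, congrFun hm (x * z), Finset.sum_apply,
        Finset.sum_apply, Finset.sum_mul]
      refine Finset.sum_congr rfl fun φ _ => ?_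
      have h1 := CharOver.apply_mul_central φ.2 hzN x
      have h0 := Char.IsIrrCharacter.apply_one_ne_zero φ.2
      simp only [Pi.smul_apply, smul_eq_mul]
      field_simp
      linear_combination (m φ : ℂ) * χ 1 * h1
    have h3 := congrArg (fun f => Cfsg.classInner f (ψ : N → ℂ)) (hfun.symm.trans hfun2)
    simp only [Char.classInner_sum_smul_irr] at h3
    have h0 := Char.IsIrrCharacter.apply_one_ne_zero ψ.2
    have hm0 : (m ψ : ℂ) ≠ 0 := Nat.cast_ne_zero.mpr hψ
    field_simp at h3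
    linear_combination -h3
  have hd0 : χ 1 ≠ 0 := Char.IsIrrCharacter.apply_one_ne_zero hχ
  -- the value of `π` at the identity
  have hπ1 : π 1 = (c : ℂ) := by
    rw [← hc, Cfsg.classInner]
    simp only [map_one, mul_one]
    have h1 : ∑ h : H, χ h = ∑ a : A, χ ((a : N) : G) :=
      (Fintype.sum_equiv (Subgroup.subgroupOfEquivOfLe hHN).toEquiv _ _ fun a => rfl).symm
    rw [h1, Finset.sum_congr rfl fun (a : A) _ => congrFun hm (a : N),
      Nat.card_congr (Subgroup.subgroupOfEquivOfLe hHN).symm.toEquiv]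
    simp only [Finset.sum_apply, Pi.smul_apply, smul_eq_mul]
    simp only [π, T]
    rw [Finset.sum_comm, Finset.mul_sum, Finset.sum_filter]
    refine Finset.sum_congr rfl fun ψ _ => ?_
    rw [← Finset.mul_sum]
    split_ifs with hψ
    · rw [Finset.sum_congr rfl fun a _ => hψ a, Finset.sum_const, Finset.card_univ, nsmul_eq_mul,
        ← Nat.card_eq_fintype_card]
      have : (Nat.card A : ℂ) ≠ 0 := Nat.cast_ne_zero.mpr Nat.card_pos.ne'
      field_simp
      rfl
    · push Not at hψ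
      have h2 := sum_translates_eq_zero ψ.2 A hψ 1
      simp only [one_mul] at h2
      rw [h2, mul_zero, mul_zero]
  -- on `H Z` the absolute value of `π` is `c`
  have hπHZ : ∀ (a : A) (z : N), (z : G) ∈ Z → Complex.normSq (π (a * z)) = (c : ℝ) ^ 2 := by
    intro a z hz
    have hzN : z ∈ Subgroup.center N :=
      Subgroup.mem_center_iff.mpr fun y => Subtype.ext (Subgroup.mem_center_iff.mp hz (y : G))
    have h1 : π (a * z) * χ 1 = χ (z : G) * π 1 := by
      simp only [π, Finset.sum_mul, Finset.mul_sum]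
      refine Finset.sum_congr rfl fun ψ hψ => ?_
      simp only [T, Finset.mem_filter, Finset.mem_univ, true_and] at hψ
      by_cases hm0 : m ψ = 0
      · simp [hm0]
      have h2 := CharOver.apply_mul_central ψ.2 hzN (a : N)
      rw [hψ a] at h2
      have h3 := mul_right_cancel₀ (Char.IsIrrCharacter.apply_one_ne_zero ψ.2)
        (h2.trans (mul_comm _ _))
      rw [h3, mul_assoc, hshift ψ hm0 z hz]; ring
    have hn : Complex.normSq (χ (z : G)) = Complex.normSq (χ 1) := by
      have h2 := CharOver.apply_mul_central hχ hz ((z : G)⁻¹)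
      rw [inv_mul_cancel, Char.IsIrrCharacter.apply_inv hχ] at h2
      have h3 := congrArg Complex.normSq h2
      simp only [map_mul, Complex.normSq_conj] at h3
      exact (mul_self_inj (Complex.normSq_nonneg _) (Complex.normSq_nonneg _)).mp h3.symm
    have h2 := congrArg Complex.normSq h1
    rw [map_mul, map_mul, hn, mul_comm (Complex.normSq (χ 1)), hπ1] at h2
    rw [mul_right_cancel₀ (fun h => hd0 (Complex.normSq_eq_zero.mp h)) h2, Complex.normSq_natCast]
    ring
  -- the sums of squares over `N`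
  have hsq : ∀ k : Cfsg.IrrCharacter N → ℕ, ∀ f : N → ℂ, f = ∑ ψ, (k ψ : ℂ) • (ψ : N → ℂ) →
      ∑ x : N, Complex.normSq (f x) = (Nat.card N : ℝ) * ∑ ψ, (k ψ : ℝ) ^ 2 := by
    intro k f hf
    have h1 := Char.classInner_sum_smul_sum_smul (G := N) (fun ψ => (k ψ : ℂ)) (fun ψ => (k ψ : ℂ))
    rw [← hf, Cfsg.classInner, inv_mul_eq_iff_eq_mul₀ (Nat.cast_ne_zero.mpr Nat.card_pos.ne')] at h1
    simp only [map_natCast, Complex.mul_conj] at h1
    apply Complex.ofReal_injective
    push_cast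
    rw [h1]
    simp only [sq]
  let k : Cfsg.IrrCharacter N → ℕ := fun ψ => if ψ ∈ T then m ψ else 0
  have hπk : π = ∑ ψ, (k ψ : ℂ) • (ψ : N → ℂ) := by
    funext x
    simp only [π, k, Finset.sum_apply, Pi.smul_apply, smul_eq_mul]
    rw [← Finset.sum_subset (Finset.subset_univ T) fun ψ _ hψ => by simp [hψ]]
    exact Finset.sum_congr rfl fun ψ hψ => by rw [if_pos hψ]
  -- some constituent is nontrivial on `H`
  have hnt : (1 : ℝ) + ∑ ψ, (k ψ : ℝ) ^ 2 ≤ ∑ ψ, (m ψ : ℝ) ^ 2 := by
    obtain ⟨ψ₀, hψ₀T, hψ₀⟩ : ∃ ψ, ψ ∉ T ∧ m ψ ≠ 0 := by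
      by_contra hall
      push Not at hall
      obtain ⟨h, hh, hne⟩ := hker
      refine hne ?_
      rw [show χ h = χ ((⟨h, hHN hh⟩ : N) : G) from rfl, show χ 1 = χ ((1 : N) : G) from rfl,
        congrFun hm, congrFun hm]
      simp only [Finset.sum_apply, Pi.smul_apply, smul_eq_mul]
      refine Finset.sum_congr rfl fun ψ _ => ?_
      by_cases hψ : ψ ∈ T
      · simp only [T, Finset.mem_filter, Finset.mem_univ, true_and] at hψ
        rw [hψ ⟨⟨h, hHN hh⟩, hh⟩]
      · rw [hall ψ hψ, Nat.cast_zero, zero_mul, zero_mul]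
    rw [← Finset.add_sum_erase _ _ (Finset.mem_univ ψ₀),
      ← Finset.add_sum_erase _ (fun ψ => (m ψ : ℝ) ^ 2) (Finset.mem_univ ψ₀)]
    have h1 : (k ψ₀ : ℝ) = 0 := by simp [k, hψ₀T]
    have h2 : (1 : ℝ) ≤ (m ψ₀ : ℝ) := by exact_mod_cast Nat.pos_of_ne_zero hψ₀
    have h3 : ∑ ψ ∈ Finset.univ.erase ψ₀, (k ψ : ℝ) ^ 2 ≤ ∑ ψ ∈ Finset.univ.erase ψ₀, (m ψ : ℝ) ^ 2 := by
      refine Finset.sum_le_sum fun ψ _ => ?_
      simp only [k]
      split_ifs <;> simp [sq_nonneg]
    rw [h1]
    nlinarith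
  -- the elements meeting `H`
  let Bad : N → Prop := fun x => ∃ h ∈ H, (x : G) * h = h * x ∧ h ≠ 1
  have hsame : ∀ x : N, ¬ Bad x → χ (x : G) = π x := by
    intro x hx
    simp only [Bad, not_exists, not_and, not_not] at hx
    rw [congrFun hm x, Finset.sum_apply]
    simp only [Pi.smul_apply, smul_eq_mul, π]
    exact (Finset.sum_subset (Finset.subset_univ T)
      (fun ψ _ hψ => by rw [hvanish ψ hψ x fun h hh => hx h hh, mul_zero])).symm
  have hne1 : ∃ h ∈ H, h ≠ 1 := by
    obtain ⟨h, hh, hne⟩ := hker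
    exact ⟨h, hh, fun e => hne (by rw [e])⟩
  have hbadZ : ∀ x : N, (x : G) ∈ Z → Bad x := by
    intro x hx
    obtain ⟨h, hh, h1⟩ := hne1
    exact ⟨h, hh, (Subgroup.mem_center_iff.mp hx h).symm, h1⟩
  let S : Finset N := {x | Bad x ∧ (x : G) ∉ Z}
  let B : Finset N := {x | Bad x}
  let ZN : Finset N := {x | (x : G) ∈ Z}
  have hsplit : ∑ x ∈ B, Complex.normSq (χ (x : G)) - ∑ x ∈ B, Complex.normSq (π x) =
      ∑ x : N, Complex.normSq (χ (x : G)) - ∑ x : N, Complex.normSq (π x) := by
    rw [← Finset.sum_sub_distrib, ← Finset.sum_sub_distrib]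
    refine Finset.sum_subset (Finset.subset_univ B) fun x _ hx => ?_
    simp only [B, Finset.mem_filter, Finset.mem_univ, true_and] at hx
    rw [hsame x hx, sub_self]
  rw [hsq m _ hm, hsq k _ hπk] at hsplit
  have hZcard : ZN.card = Nat.card Z := by
    rw [← Nat.card_eq_finsetCard]
    exact Nat.card_congr
      { toFun := fun x => ⟨((x : N) : G), (Finset.mem_filter.mp x.2).2⟩
        invFun := fun z => ⟨⟨(z : G), hZN z.2⟩, Finset.mem_filter.mpr ⟨Finset.mem_univ _, z.2⟩⟩
        left_inv := fun x => rfl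
        right_inv := fun z => rfl }
  have hπB : (Nat.card H : ℝ) * Nat.card Z * (c : ℝ) ^ 2 ≤ ∑ x ∈ B, Complex.normSq (π x) := by
    let P : Finset N := (Finset.univ ×ˢ ZN).image fun p : A × N => (p.1 : N) * p.2
    have hPcard : P.card = Nat.card H * Nat.card Z := by
      rw [Finset.card_image_of_injOn, Finset.card_product, Finset.card_univ, hZcard,
        ← Nat.card_eq_fintype_card, Nat.card_congr (Subgroup.subgroupOfEquivOfLe hHN).toEquiv]
      rintro ⟨a, z⟩ hp ⟨a', z'⟩ hp' h
      simp only [Finset.coe_product, Set.mem_prod, Finset.mem_coe, ZN, Finset.mem_filter,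
        Finset.mem_univ, true_and] at hp hp'
      have h1 : ((a : N)⁻¹ * a' : N) = z * z'⁻¹ := by
        rw [eq_mul_inv_iff_mul_eq, mul_assoc, ← show (a : N) * z = a' * z' from h,
          inv_mul_cancel_left]
      have h2 : ((((a : N)⁻¹ * a' : N)) : G) ∈ H ⊓ Z := by
        refine ⟨H.mul_mem (H.inv_mem a.2) a'.2, ?_⟩
        rw [h1]
        exact Z.mul_mem hp (Z.inv_mem hp')
      rw [hZ, Subgroup.mem_bot] at h2
      have h3 : a = a' := Subtype.ext (inv_mul_eq_one.mp (Subtype.ext h2))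
      subst h3
      exact Prod.ext rfl (mul_left_cancel (h : (a : N) * z = a * z'))
    have hPB : P ⊆ B := by
      intro x hx
      simp only [P, Finset.mem_image, Finset.mem_product, Finset.mem_univ, true_and, ZN,
        Finset.mem_filter, Prod.exists] at hx
      obtain ⟨a, z, hz, rfl⟩ := hx
      obtain ⟨h, hh, h1⟩ := hne1
      simp only [B, Finset.mem_filter, Finset.mem_univ, true_and]
      refine ⟨h, hh, ?_, h1⟩
      show ((a : N) : G) * (z : G) * h = h * (((a : N) : G) * z)
      have h2 : ((a : N) : G) * h = h * ((a : N) : G) := hab ((a : N) : G) a.2 h hh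
      rw [mul_assoc, ← Subgroup.mem_center_iff.mp hz h, ← mul_assoc, h2, mul_assoc]
    refine le_trans (le_of_eq ?_) (Finset.sum_le_sum_of_subset_of_nonneg hPB
      fun x _ _ => Complex.normSq_nonneg _)
    rw [Finset.sum_congr rfl (g := fun _ => (c : ℝ) ^ 2), Finset.sum_const, nsmul_eq_mul, hPcard,
      Nat.cast_mul]
    intro x hx
    simp only [P, Finset.mem_image, Finset.mem_product, Finset.mem_univ, true_and, ZN,
      Finset.mem_filter, Prod.exists] at hx
    obtain ⟨a, z, hz, rfl⟩ := hx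
    exact hπHZ a z hz
  have hnormZ : ∀ z ∈ Z, Complex.normSq (χ z) = (d : ℝ) ^ 2 := by
    intro z hz
    have h2 := CharOver.apply_mul_central hχ hz z⁻¹
    rw [inv_mul_cancel, Char.IsIrrCharacter.apply_inv hχ, hd] at h2
    have h3 := congrArg Complex.normSq h2
    simp only [map_mul, Complex.normSq_conj, Complex.normSq_natCast] at h3
    rw [← (mul_self_inj (by positivity) (Complex.normSq_nonneg _)).mp h3]; ring
  have hBS : ∑ x ∈ B, Complex.normSq (χ (x : G)) =
      ∑ x ∈ S, Complex.normSq (χ (x : G)) + (Nat.card Z : ℝ) * (d : ℝ) ^ 2 := by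
    have hB : B = S ∪ ZN := by
      ext x
      simp only [B, S, ZN, Finset.mem_union, Finset.mem_filter, Finset.mem_univ, true_and]
      by_cases hx : (x : G) ∈ Z
      · simp [hbadZ x hx, hx]
      · simp [hx]
    rw [hB, Finset.sum_union, Finset.sum_congr rfl (s₁ := ZN) (g := fun _ => (d : ℝ) ^ 2)
      (fun x hx => hnormZ _ (Finset.mem_filter.mp hx).2), Finset.sum_const, nsmul_eq_mul, hZcard]
    rw [Finset.disjoint_left]
    intro x h1 h2
    exact (Finset.mem_filter.mp h1).2.2 (Finset.mem_filter.mp h2).2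
  -- distinct conjugates give disjoint sets
  let F : (G ⧸ N) × N → G := fun p => p.1.out * (p.2 : G) * p.1.out⁻¹
  haveI := Fintype.ofFinite (G ⧸ N)
  have hFinj : Set.InjOn F ↑((Finset.univ : Finset (G ⧸ N)) ×ˢ S) := by
    rintro ⟨q, x⟩ hp ⟨q', x'⟩ hp' he
    simp only [Finset.coe_product, Set.mem_prod, Finset.mem_coe, S, Finset.mem_filter,
      Finset.mem_univ, true_and] at hp hp'
    have hF : ∀ (t : G ⧸ N) (y : N), Bad y →
        Subgroup.centralizer ({F (t, y)} : Set G) ⊓ H.map (MulAut.conj t.out).toMonoidHom ≠ ⊥ := by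
      rintro t y ⟨h, hh, hcomm, h1⟩ hbot
      refine h1 ?_
      have hmem : t.out * h * t.out⁻¹ ∈ Subgroup.centralizer ({F (t, y)} : Set G) ⊓
          H.map (MulAut.conj t.out).toMonoidHom := by
        refine ⟨Subgroup.mem_centralizer_singleton_iff.mpr ?_, h, hh, rfl⟩
        show t.out * h * t.out⁻¹ * (t.out * y * t.out⁻¹) =
          t.out * y * t.out⁻¹ * (t.out * h * t.out⁻¹)
        calc t.out * h * t.out⁻¹ * (t.out * y * t.out⁻¹) = t.out * (h * y) * t.out⁻¹ := by group
          _ = t.out * ((y : G) * h) * t.out⁻¹ := by rw [hcomm]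
          _ = t.out * y * t.out⁻¹ * (t.out * h * t.out⁻¹) := by group
      rw [hbot, Subgroup.mem_bot] at hmem
      simpa [mul_inv_eq_one] using hmem
    have hnz : F (q, x) ∉ Subgroup.center G := by
      intro h
      refine hp.2 ?_
      have h2 : (x : G) = F (q, x) := by
        have := Subgroup.mem_center_iff.mp h q.out⁻¹
        calc (x : G) = q.out⁻¹ * F (q, x) * q.out := by simp [F, mul_assoc]
          _ = F (q, x) := by rw [this, inv_mul_cancel_right]
      rwa [← h2] at h
    have hsame := hone (F (q, x)) hnz q.out q'.out (hF q x hp.1) (he ▸ hF q' x' hp'.1)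
    have hmem : q.out⁻¹ * q'.out ∈ N := by
      refine Subgroup.mem_normalizer_iff.mpr fun h => ?_
      have key : ∀ g, g ∈ H ↔ q'.out * g * q'.out⁻¹ ∈ H.map (MulAut.conj q.out).toMonoidHom := by
        intro g
        rw [hsame]
        refine ⟨fun hg => ⟨g, hg, rfl⟩, ?_⟩
        rintro ⟨g', hg', hgg⟩
        rwa [(MulAut.conj q'.out).injective hgg] at hg'
      rw [key h]
      refine ⟨?_, fun hh => ⟨_, hh, by simp [mul_assoc]⟩⟩
      rintro ⟨g', hg', hgg⟩
      have : q.out⁻¹ * q'.out * h * (q.out⁻¹ * q'.out)⁻¹ = g' := by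
        simp only [MulEquiv.coe_toMonoidHom, MulAut.conj_apply] at hgg
        calc q.out⁻¹ * q'.out * h * (q.out⁻¹ * q'.out)⁻¹
            = q.out⁻¹ * (q'.out * h * q'.out⁻¹) * q.out := by group
          _ = g' := by rw [← hgg]; group
      rw [this]; exact hg'
    have hqq : q = q' := by
      rw [← QuotientGroup.out_eq' q, ← QuotientGroup.out_eq' q']
      exact QuotientGroup.eq.mpr hmem
    subst hqq
    exact Prod.ext rfl (Subtype.ext (by simpa [F] using he))
  have hG : ∑ g : G, Complex.normSq (χ g) = (Nat.card G : ℝ) := by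
    have h1 := Char.classInner_irr_self hχ
    rw [Cfsg.classInner, inv_mul_eq_iff_eq_mul₀ (Nat.cast_ne_zero.mpr Nat.card_pos.ne'), mul_one] at h1
    simp only [Complex.mul_conj] at h1
    apply Complex.ofReal_injective
    push_cast
    exact h1
  have hmain : (N.index : ℝ) * ∑ x ∈ S, Complex.normSq (χ (x : G)) + (Nat.card Z : ℝ) * (d : ℝ) ^ 2
      ≤ (Nat.card G : ℝ) := by
    rw [← hG]
    have h1 : (N.index : ℝ) * ∑ x ∈ S, Complex.normSq (χ (x : G)) =
        ∑ g ∈ ((Finset.univ : Finset (G ⧸ N)) ×ˢ S).image F, Complex.normSq (χ g) := by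
      rw [Finset.sum_image hFinj, Finset.sum_product]
      simp only [F]
      rw [Finset.sum_congr rfl fun (q : G ⧸ N) _ => Finset.sum_congr rfl fun (x : N) _ =>
        congrArg Complex.normSq (Char.IsIrrCharacter.isClassFunction hχ (x : G) q.out),
        Finset.sum_const, Finset.card_univ, nsmul_eq_mul, Subgroup.index, Nat.card_eq_fintype_card]
    rw [h1]
    let ZG : Finset G := {g | g ∈ Z}
    have hZG : (Nat.card Z : ℝ) * (d : ℝ) ^ 2 = ∑ g ∈ ZG, Complex.normSq (χ g) := by
      rw [Finset.sum_congr rfl (g := fun _ => (d : ℝ) ^ 2)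
        (fun g hg => hnormZ g (Finset.mem_filter.mp hg).2), Finset.sum_const, nsmul_eq_mul,
        Nat.subtype_card ZG fun g => by simp [ZG]]
    rw [hZG, ← Finset.sum_union]
    · exact Finset.sum_le_sum_of_subset_of_nonneg (Finset.subset_univ _)
        fun g _ _ => Complex.normSq_nonneg _
    · rw [Finset.disjoint_left]
      intro g hg hgZ
      obtain ⟨⟨q, x⟩, hqx, rfl⟩ := Finset.mem_image.mp hg
      refine (Finset.mem_filter.mp (Finset.mem_product.mp hqx).2).2.2 ?_
      have h2 : F (q, x) ∈ Z := (Finset.mem_filter.mp hgZ).2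
      have h3 : (x : G) = F (q, x) := by
        have := Subgroup.mem_center_iff.mp h2 q.out⁻¹
        calc (x : G) = q.out⁻¹ * F (q, x) * q.out := by simp [F, mul_assoc]
          _ = F (q, x) := by rw [this, inv_mul_cancel_right]
      rwa [← h3] at h2
  have hIN : (N.index : ℝ) * (Nat.card N : ℝ) = (Nat.card G : ℝ) := by
    exact_mod_cast N.index_mul_card
  have hge' : (d : ℝ) ^ 2 ≤ (Nat.card H : ℝ) * (c : ℝ) ^ 2 := by exact_mod_cast hge
  have hZ0 : (0 : ℝ) < (Nat.card Z : ℝ) * (d : ℝ) ^ 2 := by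
    have : d ≠ 0 := fun h => hd0 (by rw [hd, h, Nat.cast_zero])
    have := Nat.card_pos (α := Z)
    positivity
  have hSge : (Nat.card N : ℝ) ≤ ∑ x ∈ S, Complex.normSq (χ (x : G)) := by
    have h1 : (Nat.card Z : ℝ) * (d : ℝ) ^ 2 ≤ (Nat.card H : ℝ) * Nat.card Z * (c : ℝ) ^ 2 := by
      rw [mul_comm (Nat.card H : ℝ), mul_assoc]
      exact mul_le_mul_of_nonneg_left hge' (Nat.cast_nonneg _)
    have h2 : (Nat.card N : ℝ) * (1 + ∑ ψ, (k ψ : ℝ) ^ 2) ≤ (Nat.card N : ℝ) * ∑ ψ, (m ψ : ℝ) ^ 2 :=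
      mul_le_mul_of_nonneg_left hnt (Nat.cast_nonneg _)
    nlinarith [hsplit, hBS, hπB]
  have h5 := mul_le_mul_of_nonneg_left hSge (Nat.cast_nonneg N.index : (0 : ℝ) ≤ N.index)
  linarith

/-- The bound for a group generated by the conjugates of the subgroup. -/
theorem abelian_separated_succ_sq (H : Subgroup G) [Fintype H]
    (hab : ∀ a ∈ H, ∀ b ∈ H, a * b = b * a) (hZ : H ⊓ Subgroup.center G = ⊥)
    (hone : ∀ g : G, g ∉ Subgroup.center G → ∀ a b : G,
      Subgroup.centralizer ({g} : Set G) ⊓ H.map (MulAut.conj a).toMonoidHom ≠ ⊥ →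
      Subgroup.centralizer ({g} : Set G) ⊓ H.map (MulAut.conj b).toMonoidHom ≠ ⊥ →
      H.map (MulAut.conj a).toMonoidHom = H.map (MulAut.conj b).toMonoidHom)
    {χ : G → ℂ} (hχ : Cfsg.IsIrrCharacter G χ) {d : ℕ} (hd : χ 1 = d) (hd1 : d ≠ 1)
    (hgen : ∀ M : Subgroup G, M.Normal → H ≤ M → M = ⊤) :
    Nat.card H < (1 + d) ^ 2 := by
  classical
  by_contra hge
  push Not at hge
  have hd0 : 1 < d := by
    have h := Char.IsIrrCharacter.apply_one_ne_zero hχ
    rw [hd] at h
    have : d ≠ 0 := fun e => h (by rw [e, Nat.cast_zero])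
    omega
  -- `χ * conj χ`
  set Φ : G → ℂ := χ * fun g => conj (χ g) with hΦdef
  have hχc := Char.IsIrrCharacter.isCharacter hχ
  have hΦ : Cfsg.IsCharacter G Φ := Char.IsCharacter.mul hχc (Char.IsCharacter.conj_apply' hχc)
  obtain ⟨a, ha⟩ := Char.IsCharacter.exists_nat_combination hΦ
  have hψc : ∀ ψ : Cfsg.IrrCharacter G, ∃ c : ℕ,
      Cfsg.classInner (fun h : H => (ψ : G → ℂ) h) (fun _ => 1) = c := fun ψ =>
    Char.IsCharacter.exists_nat_classInner (by
      obtain ⟨n, ρ, hρ, he⟩ := ψ.2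
      rw [← he]
      exact Char.isCharacter_character (ρ.comp H.subtype)) Char.isIrrCharacter_principal
  choose cc hcc using hψc
  let one : Cfsg.IrrCharacter G := ⟨fun _ => 1, Char.isIrrCharacter_principal⟩
  have hker : ∀ ψ : Cfsg.IrrCharacter G, ψ ≠ one → ∃ h ∈ H, (ψ : G → ℂ) h ≠ (ψ : G → ℂ) 1 := by
    intro ψ hψ
    by_contra hall
    push Not at hall
    obtain ⟨n, ρ, hρ, he⟩ := ψ.2
    haveI := hρ
    let M : Subgroup G := MonoidHom.ker (ρ.asGroupHom)
    have hHM : H ≤ M := fun h hh => by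
      rw [MonoidHom.mem_ker]
      refine Units.ext ?_
      rw [Representation.asGroupHom_apply]
      refine (Char.character_eq_degree_iff ρ h).mp ?_
      rw [he, hall h hh, ← he, Representation.char_one]
    have hM := hgen M inferInstance hHM
    have hρ1 : ∀ g, ρ g = 1 := fun g => by
      have h1 : ρ.asGroupHom g = 1 := MonoidHom.mem_ker.mp
        (show g ∈ M by rw [hM]; exact Subgroup.mem_top g)
      have h2 := congrArg Units.val h1
      rwa [Representation.asGroupHom_apply] at h2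
    have hdim := CharKernel.finrank_eq_one_of_trivial ρ hρ1
    refine hψ (Subtype.ext (funext fun g => ?_))
    rw [← he, Representation.character, hρ1, LinearMap.trace_one, hdim, Nat.cast_one]
  have ha1 : a one = 1 := by
    have h1 : Cfsg.classInner Φ (one : G → ℂ) = (a one : ℂ) := by
      rw [ha, Char.classInner_sum_smul_irr (fun ψ => (a ψ : ℂ)) one]
    have h2 : Cfsg.classInner Φ (one : G → ℂ) = Cfsg.classInner χ χ := by
      simp [Cfsg.classInner, hΦdef, one]
    rw [h2, Char.classInner_irr_self hχ] at h1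
    exact_mod_cast h1.symm
  -- restrict to `H`
  obtain ⟨k, hk⟩ := Char.IsCharacter.exists_nat_combination (G := H) (χ := fun h : H => χ h) (by
    obtain ⟨n, ρ, hρ, rfl⟩ := hχ
    exact Char.isCharacter_character (ρ.comp H.subtype))
  have hlin : ∀ ξ : Cfsg.IrrCharacter H, (ξ : H → ℂ) 1 = 1 := fun ξ =>
    (CharOver.abelian_irr (fun x y => Subtype.ext (hab _ x.2 _ y.2)) ξ.2).1
  have hksum : ∑ ξ, k ξ = d := by
    have h1 := congrFun hk 1
    simp only [Finset.sum_apply, Pi.smul_apply, smul_eq_mul, hlin, mul_one, OneMemClass.coe_one,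
      hd] at h1
    exact_mod_cast h1.symm
  have hnorm : (∑ ψ, (a ψ : ℂ) * (cc ψ : ℂ)) = ∑ ξ, (k ξ : ℂ) * (k ξ : ℂ) := by
    have h1 := Char.classInner_sum_smul_sum_smul (G := H) (fun ξ => (k ξ : ℂ)) (fun ξ => (k ξ : ℂ))
    simp only [map_natCast] at h1
    rw [← h1, ← hk]
    have h2 : Cfsg.classInner (fun h : H => χ h) (fun h : H => χ h) =
        Cfsg.classInner (fun h : H => Φ h) (fun _ => 1) := by
      simp [Cfsg.classInner, hΦdef]
    rw [h2, show (fun h : H => Φ h) = ∑ ψ, (a ψ : ℂ) • (fun h : H => (ψ : G → ℂ) h) from by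
      funext h; simp [ha], Char.classInner_sum_left]
    refine Finset.sum_congr rfl fun ψ _ => ?_
    rw [Char.classInner_smul_left, hcc]
  have hone' : cc one = 1 := by
    have h1 := hcc one
    have h2 : Cfsg.classInner (fun h : H => (one : G → ℂ) h) (fun _ => 1) = 1 :=
      Char.classInner_irr_self (Char.isIrrCharacter_principal (G := H))
    rw [h2] at h1
    exact_mod_cast h1.symm
  have hdeg : d * d = ∑ ψ : Cfsg.IrrCharacter G, a ψ * Char.degree (ψ : G → ℂ) := by
    have h1 := congrFun ha 1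
    simp only [hΦdef, Pi.mul_apply, hd, Complex.conj_natCast, Finset.sum_apply, Pi.smul_apply,
      smul_eq_mul] at h1
    simp only [← Char.IsCharacter.degree_cast (Char.IsIrrCharacter.isCharacter (Subtype.prop _))]
      at h1
    exact_mod_cast h1
  have hsum : d ≤ ∑ ψ, a ψ * cc ψ := by
    have h1 : (∑ ψ, a ψ * cc ψ) = ∑ ξ, k ξ * k ξ := by exact_mod_cast hnorm
    rw [h1, ← hksum]
    exact Finset.sum_le_sum fun ξ _ => Nat.le_mul_self _
  have hdegone : Char.degree ((one : Cfsg.IrrCharacter G) : G → ℂ) = 1 := by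
    have h1 := Char.IsCharacter.degree_cast (Char.IsIrrCharacter.isCharacter one.2)
    exact_mod_cast h1.trans (show (one : G → ℂ) 1 = 1 from rfl)
  rw [← Finset.add_sum_erase _ _ (Finset.mem_univ one), ha1, hdegone, mul_one] at hdeg
  rw [← Finset.add_sum_erase _ _ (Finset.mem_univ one), ha1, hone', mul_one] at hsum
  -- every other constituent has degree above `(1 + d)` times its multiplicity on `H`
  have hbig : ∀ ψ ∈ Finset.univ.erase one,
      (1 + d) * (a ψ * cc ψ) + (if a ψ * cc ψ = 0 then 0 else 1) ≤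
        a ψ * Char.degree (ψ : G → ℂ) := by
    intro ψ hψ
    split_ifs with h0
    · rw [h0]; simp
    have h1 := abelian_separated_sq H hab hZ hone ψ.2 (hker ψ (Finset.mem_erase.mp hψ).1)
      (Char.IsCharacter.degree_cast (Char.IsIrrCharacter.isCharacter ψ.2)).symm (hcc ψ)
    have h2 : (1 + d) * cc ψ < Char.degree (ψ : G → ℂ) := by
      refine lt_of_pow_lt_pow_left' 2 (lt_of_le_of_lt ?_ h1)
      rw [mul_pow]
      exact Nat.mul_le_mul_right _ hge
    have ha0 : 0 < a ψ := Nat.pos_of_ne_zero (fun h => h0 (by rw [h, zero_mul]))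
    nlinarith
  have hsome : ∃ ψ ∈ Finset.univ.erase one, a ψ * cc ψ ≠ 0 := by
    by_contra hall
    push Not at hall
    rw [Finset.sum_eq_zero hall] at hsum
    omega
  have h1 := Finset.sum_le_sum hbig
  rw [Finset.sum_add_distrib, ← Finset.mul_sum] at h1
  have h2 : 1 ≤ ∑ ψ ∈ Finset.univ.erase one, (if a ψ * cc ψ = 0 then 0 else 1) := by
    obtain ⟨ψ, hψ, h0⟩ := hsome
    exact le_trans (by rw [if_neg h0]) (Finset.single_le_sum (f := fun ψ => if a ψ * cc ψ = 0 then 0 else 1)
      (fun _ _ => Nat.zero_le _) hψ)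
  obtain ⟨d', rfl⟩ := Nat.exists_eq_succ_of_ne_zero (show d ≠ 0 by omega)
  nlinarith

end CfsgLib.CharExt
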