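import Cfsg.Agent.Lib.CharExt.BergerBlock
import Cfsg.Agent.Lib.Solvable.Core
import Cfsg.Agent.Lib.Transfer.PGroup

/-!
# Berger's theorem on quasi-primitive characters
-/

set_option autoImplicit false

namespace CfsgLib.CharExt

open Module

universe u

variable {G : Type u} [Group G] [Fintype G]

omit [Fintype G] in
/-- A chief step above a normal subgroup with solvable quotient. -/
theorem exists_chief_step [Finite G] (L : Subgroup G) [L.Normal] (hsolv : Group.IsSolvable (G ⧸ L))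
    (hL : L ≠ ⊤) :
    ∃ K : Subgroup G, K.Normal ∧ L < K ∧
      (∀ N : Subgroup G, N.Normal → L ≤ N → N ≤ K → N = L ∨ N = K) ∧
      ∃ p : ℕ, p.Prime ∧ (∀ x ∈ K, x ^ p ∈ L) ∧ (∀ x ∈ K, ∀ y ∈ K, x * y * x⁻¹ * y⁻¹ ∈ L) ∧
        ∃ n : ℕ, L.relIndex K = p ^ n := by
  have : Nontrivial (G ⧸ L) := by
    obtain ⟨x, -, hx⟩ := SetLike.not_le_iff_exists.mp (fun h : ⊤ ≤ L => hL (top_le_iff.mp h))
    exact ⟨(x : G ⧸ L), 1, by simpa [QuotientGroup.eq_one_iff] using hx⟩
  obtain ⟨N, hN, hN0, -, hmin⟩ := Solvable.exists_minimal_normal_le (⊤ : Subgroup (G ⧸ L)) top_ne_bot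
  obtain ⟨hc, p, hp, hpow⟩ := Solvable.minimal_normal_elementary_abelian N hN0 hmin
  let K := N.comap (QuotientGroup.mk' L)
  have hsurj := QuotientGroup.mk'_surjective L
  have hLK : L ≤ K := fun x hx => by
    show (x : G ⧸ L) ∈ N
    rw [(QuotientGroup.eq_one_iff x).mpr hx]; exact N.one_mem
  refine ⟨K, inferInstance, lt_of_le_of_ne hLK fun e => hN0 ?_, ?_, p, hp, ?_, ?_, ?_⟩
  · rw [← Subgroup.map_comap_eq_self_of_surjective hsurj N,
      show N.comap (QuotientGroup.mk' L) = L from e.symm, QuotientGroup.map_mk'_self]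
  · intro X hX hLX hXK
    have h1 : (X.map (QuotientGroup.mk' L)).comap (QuotientGroup.mk' L) = X := by
      rw [Subgroup.comap_map_eq, QuotientGroup.ker_mk', sup_eq_left.mpr hLX]
    rcases hmin (X.map (QuotientGroup.mk' L)) (hX.map _ hsurj) (Subgroup.map_le_iff_le_comap.mpr hXK)
      with h | h
    · left
      rw [← h1, h, MonoidHom.comap_bot, QuotientGroup.ker_mk']
    · right
      rw [← h1, h]
  · intro x hx
    rw [← QuotientGroup.eq_one_iff, QuotientGroup.mk_pow]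
    exact hpow _ hx
  · intro x hx y hy
    rw [← QuotientGroup.eq_one_iff]
    have hab : (x : G ⧸ L) * (y : G ⧸ L) = (y : G ⧸ L) * (x : G ⧸ L) :=
      congrArg Subtype.val (hc.is_comm.comm (⟨_, hx⟩ : N) ⟨_, hy⟩)
    show (x : G ⧸ L) * (y : G ⧸ L) * (x : G ⧸ L)⁻¹ * (y : G ⧸ L)⁻¹ = 1
    rw [hab, mul_inv_cancel_right, mul_inv_cancel]
  · haveI := Fact.mk hp
    have hPG : IsPGroup p N := fun x => ⟨1, Subtype.ext (by rw [pow_one]; exact hpow _ x.2)⟩
    obtain ⟨n, hn⟩ := IsPGroup.iff_card.mp hPG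
    refine ⟨n, ?_⟩
    have h1 := Subgroup.relIndex_comap (⊥ : Subgroup (G ⧸ L)) (QuotientGroup.mk' L) K
    rw [MonoidHom.comap_bot, QuotientGroup.ker_mk', Subgroup.map_comap_eq_self_of_surjective hsurj,
      Subgroup.relIndex_bot_left] at h1
    rw [h1, hn]

/-- If an induced character is irreducible, so is the character it is induced from. -/
theorem isIrr_of_isIrr_indFun {H : Subgroup G} [Fintype H] {θ : H → ℂ}
    (hθ : Cfsg.IsCharacter H θ) (h : Cfsg.IsIrrCharacter G (Cfsg.indFun H θ)) :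
    Cfsg.IsIrrCharacter H θ := by
  set χ := Cfsg.indFun H θ
  have hcl := Char.IsIrrCharacter.isClassFunction h
  have h1 : Cfsg.classInner θ (fun x : H => χ x) ≠ 0 := by
    rw [← Char.classInner_indFun H θ χ hcl, Char.classInner_irr_self h]
    exact one_ne_zero
  obtain ⟨ψ, hψ1, hψ2⟩ := CharDeep.Cliff.exists_constituent hθ (fun x : H => χ x) h1
  have hindψ : Cfsg.IsCharacter G (Cfsg.indFun H (ψ : H → ℂ)) :=
    Char.IsCharacter.indFun H (Char.IsIrrCharacter.isCharacter ψ.2)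
  rw [← Char.classInner_indFun H (ψ : H → ℂ) χ hcl] at hψ2
  have h3 := (CharDeep.Cliff.degree_le_of_constituent hindψ h hψ2).1
  obtain ⟨h4, h5⟩ := CharDeep.Cliff.degree_le_of_constituent hθ ψ.2 hψ1
  have hidx : 0 < H.index := Nat.pos_of_ne_zero Subgroup.index_ne_zero_of_finite
  have e1 : Char.degree χ = H.index * Char.degree θ := by
    have := Char.IsCharacter.degree_cast (Char.IsIrrCharacter.isCharacter h)
    rw [show χ 1 = (H.index : ℂ) * θ 1 from Char.indFun_apply_one H θ,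
      ← Char.IsCharacter.degree_cast hθ] at this
    exact_mod_cast this
  have e2 : Char.degree (Cfsg.indFun H (ψ : H → ℂ)) = H.index * Char.degree (ψ : H → ℂ) := by
    have := Char.IsCharacter.degree_cast hindψ
    rw [Char.indFun_apply_one,
      ← Char.IsCharacter.degree_cast (Char.IsIrrCharacter.isCharacter ψ.2)] at this
    exact_mod_cast this
  rw [e1, e2] at h3
  rw [h5 (Nat.le_of_mul_le_mul_left h3 hidx)]
  exact ψ.2

/-- The restriction to every normal subgroup above `L` is homogeneous. -/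
def QuasiPrimitiveOver (L : Subgroup G) (χ : G → ℂ) : Prop :=
  ∀ M : Subgroup G, M.Normal → L ≤ M → ∃ (φ : M → ℂ) (e : ℕ),
    Cfsg.IsIrrCharacter M φ ∧ (fun m : M => χ m) = (e : ℂ) • φ

theorem not_induced_aux {d : ℕ} (ρ : Representation ℂ G (Fin d → ℂ)) [ρ.IsIrreducible] :
    ∀ (N : ℕ) (L : Subgroup G) [L.Normal], L.index ≤ N → Group.IsSolvable (G ⧸ L) →
      QuasiPrimitiveOver L ρ.character → ∀ H : Subgroup G, L ≤ H → H ≠ ⊤ →
      ∀ θ : H → ℂ, Cfsg.IsCharacter H θ → Cfsg.indFun H θ ≠ ρ.character := by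
  classical
  intro N
  induction N with
  | zero =>
    intro L _ hN
    exact absurd (Nat.le_zero.mp hN) Subgroup.index_ne_zero_of_finite
  | succ N ih =>
  intro L _ hN hsolv hqp H₀ hLH₀ hH₀ θ₀ hθ₀ hind₀
  -- a maximal subgroup above `H₀`
  obtain ⟨H, hmax, hH₀H⟩ := (eq_top_or_exists_le_coatom H₀).resolve_left hH₀
  have := Fintype.ofFinite H
  obtain ⟨θ, hθ, hind⟩ : ∃ θ : H → ℂ, Cfsg.IsCharacter H θ ∧ Cfsg.indFun H θ = ρ.character := by
    refine ⟨_, Char.IsCharacter.indFun _ ?_, (Char.indFun_indFun H₀ H hH₀H θ₀).trans hind₀⟩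
    obtain ⟨n, τ₀, rfl⟩ := hθ₀
    exact Char.isCharacter_character (τ₀.comp (Subgroup.subgroupOfEquivOfLe hH₀H).toMonoidHom)
  have hθirr := isIrr_of_isIrr_indFun hθ (hind ▸ Char.isIrrCharacter_character ρ)
  obtain ⟨dθ, τ, hτ, rfl⟩ := hθirr
  -- its core
  let L₁ := H.normalCore
  have hLL₁ : L ≤ L₁ := Subgroup.normal_le_normalCore.mpr (hLH₀.trans hH₀H)
  have hL₁H : L₁ ≤ H := H.normalCore_le
  haveI := hsolv
  have hsolv₁ : Group.IsSolvable (G ⧸ L₁) :=
    solvable_of_surjective (f := QuotientGroup.map L L₁ (MonoidHom.id G) hLL₁) (fun x => by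
      obtain ⟨g, rfl⟩ := QuotientGroup.mk_surjective x
      exact ⟨g, rfl⟩)
  have hcore : ∀ X : Subgroup G, X.Normal → X ≤ H → X ≤ L₁ :=
    fun X hX h => Subgroup.normal_le_normalCore.mpr h
  obtain ⟨K, hK, hL₁K, hKmin, p, hp, hKpow, hKcomm, n, hn⟩ :=
    exists_chief_step L₁ hsolv₁ fun e => hmax.1 (top_le_iff.mp (e ▸ hL₁H))
  have hKH : ¬ K ≤ H := fun h => hL₁K.not_ge (hcore K hK h)
  have htop : H ⊔ K = ⊤ := hmax.2 _ (left_lt_sup.mpr hKH)
  have hinf : H ⊓ K = L₁ := by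
    refine le_antisymm (hcore _ ⟨fun x hx g => ?_⟩ inf_le_left) (le_inf hL₁H hL₁K.le)
    have hg : g ∈ H ⊔ K := htop ▸ Subgroup.mem_top g
    rw [Subgroup.mem_sup_of_normal_right] at hg
    obtain ⟨h, hh, k, hk, rfl⟩ := hg
    have h1 : k * x * k⁻¹ ∈ H ⊓ K := by
      rw [show k * x * k⁻¹ = (k * x * k⁻¹ * x⁻¹) * x by group]
      have hc := hKcomm k hk x hx.2
      exact ⟨H.mul_mem (hL₁H hc) hx.1, K.mul_mem (hL₁K.le hc) hx.2⟩
    rw [show h * k * x * (h * k)⁻¹ = h * (k * x * k⁻¹) * h⁻¹ by group]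
    exact ⟨H.mul_mem (H.mul_mem hh h1.1) (H.inv_mem hh), hK.conj_mem _ h1.2 h⟩
  have := Fintype.ofFinite L₁
  have := Fintype.ofFinite K
  obtain ⟨φ, a, hφ, hφres⟩ := hqp L₁ inferInstance hLL₁
  obtain ⟨η, c, hη, hηres⟩ := hqp K hK (hLL₁.trans hL₁K.le)
  obtain ⟨dφ, φr, hφr, rfl⟩ := hφ
  obtain ⟨dη, σ, hσ, rfl⟩ := hη
  have hdeg : ρ.character 1 = (H.index : ℂ) * τ.character 1 := by
    rw [← hind, Char.indFun_apply_one]
  obtain ⟨π, hπ, hπ0⟩ : ∃ π ∈ homSpace (ρ.comp H.subtype) τ, π ≠ 0 := by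
    refine Submodule.exists_mem_ne_zero_of_ne_bot fun h => ?_
    have h1 := finrank_homSpace (ρ.comp H.subtype) τ
    rw [h, finrank_bot, Nat.cast_zero,
      show Representation.character (ρ.comp H.subtype) = fun x : H => ρ.character x from rfl,
      ← Char.classInner_indFun H τ.character ρ.character
        (fun g x => Representation.char_conj ρ g x), hind,
      Char.classInner_irr_self (Char.isIrrCharacter_character ρ)] at h1
    exact one_ne_zero h1.symm
  -- the chief step above `K`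
  by_cases hKtop : K = ⊤
  · obtain ⟨he, -⟩ := fully_ramified hL₁K.le hL₁H φr σ ρ τ π hπ hπ0 htop hinf hφres hηres hdeg
    set e := finrank ℂ (multSpace hL₁K.le φr σ)
    -- a simple solvable quotient has prime order
    have hprime : L₁.relIndex K = p := by
      subst hKtop
      obtain ⟨x, -, hx⟩ := SetLike.exists_of_lt hL₁K
      let X := L₁ ⊔ Subgroup.zpowers x
      have hXn : X.Normal := ⟨fun y hy g => by
        rw [show g * y * g⁻¹ = (g * y * g⁻¹ * y⁻¹) * y by group]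
        exact X.mul_mem (Subgroup.mem_sup_left (hKcomm g (Subgroup.mem_top _) y (Subgroup.mem_top _))) hy⟩
      have hX : X = ⊤ := (hKmin X hXn le_sup_left le_top).resolve_left fun e' =>
        hx (e' ▸ Subgroup.mem_sup_right (Subgroup.mem_zpowers x))
      have h1 : Subgroup.zpowers (x : G ⧸ L₁) = ⊤ := by
        have := congrArg (Subgroup.map (QuotientGroup.mk' L₁)) hX
        rwa [Subgroup.map_sup, QuotientGroup.map_mk'_self, bot_sup_eq, MonoidHom.map_zpowers,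
          Subgroup.map_top_of_surjective _ (QuotientGroup.mk'_surjective L₁)] at this
      rw [Subgroup.relIndex_top_right, Subgroup.index, ← Subgroup.card_top (G := G ⧸ L₁), ← h1,
        Nat.card_zpowers]
      haveI := Fact.mk hp
      refine orderOf_eq_prime ?_ fun h => hx ((QuotientGroup.eq_one_iff x).mp h)
      rw [← QuotientGroup.mk_pow, QuotientGroup.eq_one_iff]
      exact hKpow x (Subgroup.mem_top _)
    rw [hprime] at he
    rw [← he] at hp
    exact Nat.Prime.not_prime_pow le_rfl hp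
  have hsolvK : Group.IsSolvable (G ⧸ K) :=
    solvable_of_surjective (f := QuotientGroup.map L K (MonoidHom.id G) (hLL₁.trans hL₁K.le))
      (fun x => by
        obtain ⟨g, rfl⟩ := QuotientGroup.mk_surjective x
        exact ⟨g, rfl⟩)
  obtain ⟨M, hM, hKM, -, r, hr, hMpow, hMcomm, m, hm⟩ := exists_chief_step K hsolvK hKtop
  let M₁ := M ⊓ H
  have hdecM : ∀ x ∈ M, ∃ h ∈ M₁, ∃ k ∈ K, x = h * k := by
    intro x hx
    have hg : x ∈ H ⊔ K := htop ▸ Subgroup.mem_top x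
    rw [Subgroup.mem_sup_of_normal_right] at hg
    obtain ⟨h, hh, k, hk, rfl⟩ := hg
    refine ⟨h, ⟨?_, hh⟩, k, hk, rfl⟩
    simpa using M.mul_mem hx (M.inv_mem (hKM.le hk))
  have hconj : ∀ h ∈ H, ∀ x ∈ M₁, h * x * h⁻¹ ∈ M₁ := fun h hh x hx =>
    ⟨hM.conj_mem x hx.1 h, H.mul_mem (H.mul_mem hh hx.2) (H.inv_mem hh)⟩
  have hinL : ∀ y ∈ K, y ∈ H → y ∈ L₁ := fun y hyK hyH => hinf ▸ (⟨hyH, hyK⟩ : y ∈ H ⊓ K)
  have hcomm : ∀ x ∈ M₁, ∀ y ∈ M₁, x * y * x⁻¹ * y⁻¹ ∈ L₁ := fun x hx y hy =>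
    hinL _ (hMcomm x hx.1 y hy.1)
      (H.mul_mem (H.mul_mem (H.mul_mem hx.2 hy.2) (H.inv_mem hx.2)) (H.inv_mem hy.2))
  have hpow : ∀ x ∈ M₁, x ^ r ∈ L₁ := fun x hx => hinL _ (hMpow x hx.1) (H.pow_mem hx.2 r)
  have hM₁L : ¬ M₁ ≤ L₁ := by
    intro hle
    refine hKM.not_ge fun x hx => ?_
    obtain ⟨h, hh, k, hk, rfl⟩ := hdecM x hx
    exact K.mul_mem (hL₁K.le (hle hh)) hk
  have hnc : ∃ x ∈ M₁, ∃ k ∈ K, x * k * x⁻¹ * k⁻¹ ∉ L₁ := by
    by_contra hall
    push Not at hall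
    refine hM₁L (hcore M₁ ⟨fun x hx g => ?_⟩ inf_le_right)
    have hg : g ∈ H ⊔ K := htop ▸ Subgroup.mem_top g
    rw [Subgroup.mem_sup_of_normal_right] at hg
    obtain ⟨h, hh, k, hk, rfl⟩ := hg
    rw [show h * k * x * (h * k)⁻¹ = h * ((x * k * x⁻¹ * k⁻¹)⁻¹ * x) * h⁻¹ by group]
    refine hconj h hh _ (M₁.mul_mem (M₁.inv_mem ?_) hx)
    exact ⟨hKM.le (hL₁K.le (hall x hx k hk)), hL₁H (hall x hx k hk)⟩
  have hrp : r ≠ p := by
    rintro rfl
    haveI := Fact.mk hp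
    let q := QuotientGroup.mk' L₁
    have hcardM : Nat.card (M.map q) = r ^ (n + m) := by
      have h1 := Subgroup.relIndex_comap (⊥ : Subgroup (G ⧸ L₁)) q M
      rw [MonoidHom.comap_bot, QuotientGroup.ker_mk', Subgroup.relIndex_bot_left] at h1
      rw [← h1, pow_add, ← hn, ← hm, Subgroup.relIndex_mul_relIndex _ _ _ hL₁K.le hKM.le]
    haveI : Group.IsNilpotent (M.map q) := (IsPGroup.of_card hcardM).isNilpotent
    haveI : (K.map q).Normal := hK.map _ (QuotientGroup.mk'_surjective L₁)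
    let N₁ : Subgroup (M.map q) := (K.map q).subgroupOf (M.map q)
    haveI : N₁.Normal := Subgroup.normal_subgroupOf
    have hN₁ : N₁ ≠ ⊥ := by
      obtain ⟨x, hx, hxL⟩ := SetLike.exists_of_lt hL₁K
      intro h
      have h2 : (⟨q x, Subgroup.mem_map_of_mem q (hKM.le hx)⟩ : M.map q) ∈ N₁ :=
        Subgroup.mem_subgroupOf.mpr (Subgroup.mem_map_of_mem q hx)
      rw [h, Subgroup.mem_bot] at h2
      exact hxL ((QuotientGroup.eq_one_iff x).mp (congrArg Subtype.val h2))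
    obtain ⟨z, hz, hz1⟩ := (Subgroup.ne_bot_iff_exists_ne_one (H := N₁ ⊓ Subgroup.center _)).mp
      (Transfer.inf_center_ne_bot hN₁) |> fun ⟨a, ha⟩ => (⟨a.1, a.2, fun h => ha (Subtype.ext h)⟩ :
        ∃ z, z ∈ N₁ ⊓ Subgroup.center (M.map q) ∧ z ≠ 1)
    obtain ⟨k₀, hk₀, hk₀z⟩ := Subgroup.mem_subgroupOf.mp hz.1
    let Z : Subgroup G := K ⊓ (Subgroup.centralizer ((M.map q : Subgroup (G ⧸ L₁)) : Set (G ⧸ L₁))).comap q
    haveI : (M.map q).Normal := hM.map _ (QuotientGroup.mk'_surjective L₁)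
    have hZn : Z.Normal := by
      have h1 : ((Subgroup.centralizer
          ((M.map q : Subgroup (G ⧸ L₁)) : Set (G ⧸ L₁))).comap q).Normal := inferInstance
      exact Subgroup.normal_inf_normal _ _
    have hLZ : L₁ ≤ Z := fun x hx => ⟨hL₁K.le hx, by
      show q x ∈ Subgroup.centralizer _
      rw [show q x = 1 from (QuotientGroup.eq_one_iff x).mpr hx]
      exact one_mem _⟩
    have hk₀Z : k₀ ∈ Z := ⟨hk₀, by
      show q k₀ ∈ Subgroup.centralizer _
      rw [hk₀z, Subgroup.mem_centralizer_iff]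
      intro y hy
      exact congrArg Subtype.val (Subgroup.mem_center_iff.mp hz.2 ⟨y, hy⟩)⟩
    have hZK : Z = K := (hKmin Z hZn hLZ inf_le_left).resolve_left fun e => hz1 (Subtype.ext (by
      rw [← hk₀z]
      exact (QuotientGroup.eq_one_iff k₀).mpr (e ▸ hk₀Z)))
    obtain ⟨x, hx, k, hk, hxk⟩ := hnc
    refine hxk ((QuotientGroup.eq_one_iff _).mp ?_)
    have hkZ : k ∈ Z := hZK.symm ▸ hk
    have h := Subgroup.mem_centralizer_iff.mp (Subgroup.mem_comap.mp hkZ.2) (q x)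
      (Subgroup.mem_map_of_mem q hx.1)
    show q x * q k * (q x)⁻¹ * (q k)⁻¹ = 1
    rw [h, mul_inv_cancel_right, mul_inv_cancel]
  have hcop : Nat.Coprime (L₁.relIndex K) r := by
    rw [hn]
    exact Nat.Coprime.pow_left _ ((Nat.coprime_primes hp hr).mpr (Ne.symm hrp))
  obtain ⟨T, hKT, hMT, hT, ξ, hξ, hξind⟩ := exists_induced_over φr σ ρ τ π hπ hπ0 htop hinf
    hφres hηres hdeg hL₁K.le hL₁H M₁ hconj inf_le_right hcomm hr.ne_zero hpow hcop hnc
  have hMT' : M ≤ T := fun x hx => by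
    obtain ⟨h, hh, k, hk, rfl⟩ := hdecM x hx
    exact T.mul_mem (hMT hh) (hKT hk)
  have hLM : L < M := lt_of_le_of_lt hLL₁ (hL₁K.trans hKM)
  have hidx : M.index ≤ N := Nat.lt_succ_iff.mp ((Subgroup.index_strictAnti hLM).trans_le hN)
  have hsolvM : Group.IsSolvable (G ⧸ M) :=
    solvable_of_surjective (f := QuotientGroup.map L M (MonoidHom.id G) hLM.le) (fun x => by
      obtain ⟨g, rfl⟩ := QuotientGroup.mk_surjective x
      exact ⟨g, rfl⟩)
  exact ih M hidx hsolvM (fun X hX hMX => hqp X hX (hLM.le.trans hMX)) T hMT' hT ξ hξ hξind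

/-- A character quasi-primitive over `L`, with solvable `G ⧸ L`, is not induced from a proper
subgroup containing `L`. -/
theorem not_induced_of_quasiPrimitive {χ : G → ℂ} (hχ : Cfsg.IsIrrCharacter G χ)
    (L : Subgroup G) [L.Normal] (hsolv : Group.IsSolvable (G ⧸ L))
    (hqp : QuasiPrimitiveOver L χ) (H : Subgroup G) (hLH : L ≤ H) (hH : H ≠ ⊤) (θ : H → ℂ)
    (hθ : Cfsg.IsCharacter H θ) : Cfsg.indFun H θ ≠ χ := by
  obtain ⟨d, ρ, hρ, rfl⟩ := hχ
  exact not_induced_aux ρ L.index L le_rfl hsolv hqp H hLH hH θ hθ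

end CfsgLib.CharExt
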