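import Cfsg.Agent.Lib.Char.Induced
import Cfsg.Agent.Lib.Char.Normal
import Cfsg.Agent.Lib.CharDeep.Clifford
import Mathlib.LinearAlgebra.Eigenspace.Pi
import Mathlib.LinearAlgebra.Eigenspace.Triangularizable
import Mathlib.LinearAlgebra.Determinant

/-!
# Auxiliary lemmas for Berger's theorem
-/

set_option autoImplicit false

open scoped ComplexConjugate

namespace CfsgLib.CharExt

open Module

universe u v

section Lin

variable {U : Type v} [AddCommGroup U] [Module ℂ U]

theorem pow_mul_eq_smul {a b : Module.End ℂ U} {c : ℂ} (h : a * b = c • (b * a)) :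
    ∀ n : ℕ, a ^ n * b = c ^ n • (b * a ^ n)
  | 0 => by simp
  | n + 1 => by
    rw [pow_succ', mul_assoc, pow_mul_eq_smul h n, mul_smul_comm, ← mul_assoc, h, smul_mul_assoc,
      smul_smul, mul_assoc, pow_succ]

theorem eq_one_of_scalar_commutator [FiniteDimensional ℂ U] [Nontrivial U] {a b : Module.End ℂ U}
    (ha : IsUnit a) (hb : IsUnit b) {c : ℂ} (h : a * b = c • (b * a)) {r : ℕ} {s : ℂ}
    (hr : a ^ r = s • 1) (hcop : Nat.Coprime (finrank ℂ U) r) : c = 1 := by
  have h1 : c ^ finrank ℂ U = 1 := by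
    have h2 := congrArg LinearMap.det h
    rw [map_mul, LinearMap.det_smul, map_mul, mul_comm (LinearMap.det b)] at h2
    have h3 : LinearMap.det a * LinearMap.det b ≠ 0 :=
      mul_ne_zero (LinearMap.isUnit_det a ha).ne_zero (LinearMap.isUnit_det b hb).ne_zero
    exact mul_right_cancel₀ h3 (h2.symm.trans (one_mul _).symm)
  have h2 : c ^ r = 1 := by
    have h3 := pow_mul_eq_smul h r
    have hs : s ≠ 0 := by
      rintro rfl
      rw [zero_smul] at hr
      exact (hr ▸ ha.pow r).ne_zero rfl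
    rw [hr, smul_mul_assoc, one_mul, mul_smul_comm, mul_one, smul_smul] at h3
    exact mul_right_cancel₀ hs ((smul_left_injective ℂ hb.ne_zero h3).symm.trans (one_mul s).symm)
  have h3 : orderOf c = 1 := Nat.eq_one_of_dvd_coprimes hcop
    (orderOf_dvd_of_pow_eq_one h1) (orderOf_dvd_of_pow_eq_one h2)
  exact orderOf_eq_one_iff.mp h3

theorem pow_apply_of_jordan {a : Module.End ℂ U} {μ : ℂ} {v w : U} (hv : a v = μ • v + w)
    (hw : a w = μ • w) : ∀ n : ℕ, (a ^ (n + 1)) v = μ ^ (n + 1) • v + ((n + 1 : ℂ) * μ ^ n) • w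
  | 0 => by simpa using hv
  | n + 1 => by
    rw [pow_succ', Module.End.mul_apply, pow_apply_of_jordan hv hw n, map_add, map_smul, map_smul,
      hv, hw, smul_add, smul_smul, smul_smul, add_assoc, ← add_smul]
    congr 2 <;> push_cast <;> ring

/-- An endomorphism with one eigenvalue whose power is a nonzero scalar is scalar. -/
theorem eq_smul_one_of_pow_eq_smul {a : Module.End ℂ U} {μ s : ℂ} {r : ℕ} (hr : r ≠ 0)
    (hs : s ≠ 0) (hpow : a ^ r = s • 1) (htop : a.maxGenEigenspace μ = ⊤) : a = μ • 1 := by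
  refine LinearMap.ext fun v => ?_
  have hstep : ∀ u : U, ((a - μ • (1 : Module.End ℂ U)) ^ 2) u = 0 →
      (a - μ • (1 : Module.End ℂ U)) u = 0 := by
    intro u hu
    set w := (a - μ • (1 : Module.End ℂ U)) u with hw
    have hv : a u = μ • u + w := by simp [hw]
    have hw' : a w = μ • w := by
      have : (a - μ • (1 : Module.End ℂ U)) w = 0 := by rw [hw, ← Module.End.mul_apply, ← sq, hu]
      simpa [sub_eq_zero] using this
    obtain ⟨n, rfl⟩ := Nat.exists_eq_succ_of_ne_zero hr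
    have h1 := pow_apply_of_jordan hv hw' n
    have h2 : (a ^ (n + 1)) w = μ ^ (n + 1) • w := by
      have := pow_apply_of_jordan (w := 0) (v := w) (μ := μ) (a := a) (by simpa using hw') (by simp) n
      simpa using this
    rw [hpow] at h1 h2
    simp only [LinearMap.smul_apply, Module.End.one_apply] at h1 h2
    by_contra h0
    have hs' : s = μ ^ (n + 1) := smul_left_injective ℂ h0 h2
    rw [← hs', left_eq_add] at h1
    rcases smul_eq_zero.mp h1 with h | h
    · rcases mul_eq_zero.mp h with h' | h'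
      · exact Nat.cast_add_one_ne_zero n h'
      · exact hs (by rw [hs', pow_succ, h', zero_mul])
    · exact h0 h
  have hall : ∀ (k : ℕ) (u : U), ((a - μ • (1 : Module.End ℂ U)) ^ k) u = 0 →
      (a - μ • (1 : Module.End ℂ U)) u = 0 := by
    intro k
    induction k with
    | zero => intro u hu; rw [show u = 0 from hu, map_zero]
    | succ k ih =>
      intro u hu
      rw [pow_succ, Module.End.mul_apply] at hu
      refine hstep u ?_
      rw [sq, Module.End.mul_apply]
      exact ih _ hu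
  have hv : v ∈ a.maxGenEigenspace μ := htop ▸ Submodule.mem_top
  rw [Module.End.mem_maxGenEigenspace] at hv
  obtain ⟨k, hk⟩ := hv
  simpa [sub_eq_zero] using hall k v hk

/-- A semiconjugacy moves generalised eigenspaces. -/
theorem map_maxGenEigenspace_of_semiconj {a a' h : Module.End ℂ U} {c μ : ℂ} (hc : c ≠ 0)
    (hh : h * a = (c • a') * h) {v : U} (hv : v ∈ a.maxGenEigenspace μ) :
    h v ∈ a'.maxGenEigenspace (μ / c) := by
  rw [Module.End.mem_maxGenEigenspace] at hv ⊢
  obtain ⟨k, hk⟩ := hv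
  refine ⟨k, ?_⟩
  have h0 : SemiconjBy h (a - μ • 1) (c • (a' - (μ / c) • 1)) := by
    show h * (a - μ • 1) = c • (a' - (μ / c) • 1) * h
    rw [mul_sub, hh, mul_smul_comm, mul_one, smul_sub, sub_mul, smul_smul, mul_div_cancel₀ μ hc,
      smul_mul_assoc, smul_mul_assoc, one_mul]
  have h1 := LinearMap.congr_fun (h0.pow_right k).eq v
  rw [Module.End.mul_apply, Module.End.mul_apply, hk, map_zero, smul_pow, LinearMap.smul_apply]
    at h1
  exact (smul_eq_zero.mp h1.symm).resolve_left (pow_ne_zero k hc)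

theorem finrank_iSup_range_le {V : Type*} [AddCommGroup V] [Module ℂ V] [FiniteDimensional ℂ V]
    [FiniteDimensional ℂ U] (W : Submodule ℂ (U →ₗ[ℂ] V)) :
    finrank ℂ (⨆ w : W, LinearMap.range (w : U →ₗ[ℂ] V) : Submodule ℂ V)
      ≤ finrank ℂ W * finrank ℂ U := by
  classical
  let b := Module.finBasis ℂ W
  let F : (Fin (finrank ℂ W) → U) →ₗ[ℂ] V :=
    ∑ i, (b i : U →ₗ[ℂ] V) ∘ₗ LinearMap.proj i
  have hle : (⨆ w : W, LinearMap.range (w : U →ₗ[ℂ] V)) ≤ LinearMap.range F := by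
    refine iSup_le fun w => ?_
    rintro _ ⟨u, rfl⟩
    refine ⟨fun i => b.repr w i • u, ?_⟩
    simp only [F, LinearMap.sum_apply, LinearMap.comp_apply, LinearMap.proj_apply, map_smul]
    conv_rhs => rw [← b.sum_repr w]
    simp only [Submodule.coe_sum, Submodule.coe_smul, LinearMap.sum_apply, LinearMap.smul_apply]
  refine (Submodule.finrank_mono hle).trans ((LinearMap.finrank_range_le F).trans ?_)
  rw [Module.finrank_pi_fintype, Finset.sum_const, Finset.card_univ, Fintype.card_fin, smul_eq_mul]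

theorem sum_finrank_le [FiniteDimensional ℂ U] {ι : Type*} [Fintype ι] {p : ι → Submodule ℂ U}
    (hp : iSupIndep p) : ∑ i, finrank ℂ (p i) ≤ finrank ℂ U := by
  classical
  refine le_trans (le_of_eq ?_) (LinearMap.finrank_le_finrank_of_injective hp.dfinsupp_lsum_injective)
  exact (Module.finrank_directSum ℂ fun i => p i).symm

end Lin

section Char

variable {G : Type u} [Group G] [Fintype G]

/-- A constituent of the restriction of `Ψ` restricts to a multiple when `Ψ` does. -/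
theorem res_eq_smul_of_constituent {X : Type*} [Group X] [Fintype X] (j : X →* G) {Ψ θ : G → ℂ}
    (hΨ : Cfsg.IsCharacter G Ψ) (hθ : Cfsg.IsIrrCharacter G θ)
    (hcon : Cfsg.classInner Ψ θ ≠ 0) {φ : X → ℂ} (hφ : Cfsg.IsIrrCharacter X φ) {a : ℂ}
    (hres : (fun x : X => Ψ (j x)) = a • φ) :
    ∃ f : ℕ, (fun x : X => θ (j x)) = (f : ℂ) • φ := by
  classical
  have hcomp : ∀ η : G → ℂ, Cfsg.IsCharacter G η → Cfsg.IsCharacter X (fun x => η (j x)) := by
    rintro η ⟨d, ρ, rfl⟩
    exact Char.isCharacter_character (ρ.comp j)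
  obtain ⟨m, hm⟩ := Char.IsCharacter.exists_nat_combination hΨ
  have hm0 : m ⟨θ, hθ⟩ ≠ 0 := fun h => hcon (by
    rw [hm, Char.classInner_sum_smul_irr (fun ψ => (m ψ : ℂ)) ⟨θ, hθ⟩, h, Nat.cast_zero])
  have hθX : Cfsg.IsCharacter X (fun x : X => θ (j x)) :=
    hcomp θ (Char.IsIrrCharacter.isCharacter hθ)
  obtain ⟨k, hk⟩ := Char.IsCharacter.exists_nat_combination hθX
  refine ⟨k ⟨φ, hφ⟩, ?_⟩
  conv_lhs => rw [hk]
  refine Finset.sum_eq_single (⟨φ, hφ⟩ : Cfsg.IrrCharacter X) (fun ξ _ hξ => ?_) (by simp)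
  have hnat : ∀ ψ : Cfsg.IrrCharacter G,
      ∃ i : ℕ, Cfsg.classInner (fun x : X => (ψ : G → ℂ) (j x)) (ξ : X → ℂ) = i := fun ψ =>
    Char.IsCharacter.exists_nat_classInner
      (hcomp _ (Char.IsIrrCharacter.isCharacter ψ.2)) ξ.2
  choose J hj using hnat
  have h0 : Cfsg.classInner (fun x : X => Ψ (j x)) (ξ : X → ℂ) = 0 := by
    rw [hres, Char.classInner_smul_left, Char.classInner_irr_of_ne hφ ξ.2
      (fun e => hξ (Subtype.ext e.symm)), mul_zero]
  have h1 : Cfsg.classInner (fun x : X => Ψ (j x)) (ξ : X → ℂ) = ∑ ψ, ((m ψ * J ψ : ℕ) : ℂ) := by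
    rw [show (fun x : X => Ψ (j x)) = ∑ ψ, (m ψ : ℂ) • (fun x : X => (ψ : G → ℂ) (j x)) from by
      funext x; simp [hm], Char.classInner_sum_left]
    refine Finset.sum_congr rfl fun ψ _ => ?_
    rw [Char.classInner_smul_left, hj, Nat.cast_mul]
  rw [h0, ← Nat.cast_sum, eq_comm, Nat.cast_eq_zero, Finset.sum_eq_zero_iff] at h1
  have h2 : J ⟨θ, hθ⟩ = 0 :=
    (mul_eq_zero.mp (h1 ⟨θ, hθ⟩ (Finset.mem_univ _))).resolve_left hm0
  have h3 := hj ⟨θ, hθ⟩
  rw [show (fun x : X => ((⟨θ, hθ⟩ : Cfsg.IrrCharacter G) : G → ℂ) (j x)) = fun x : X => θ (j x) from rfl,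
    hk, Char.classInner_sum_smul_irr (fun ψ => (k ψ : ℂ)) ξ, h2] at h3
  have h4 : k ξ = 0 := by exact_mod_cast h3
  rw [h4, Nat.cast_zero, zero_smul]

end Char

end CfsgLib.CharExt
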