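import Cfsg.Agent.Lib.CharExt.BergerSpaces
import Cfsg.Agent.Lib.Char.Induced

/-!
# A block system over a complemented fully ramified section
-/

set_option autoImplicit false

open scoped ComplexConjugate

namespace CfsgLib.CharExt

open Module

universe u v

variable {G : Type u} [Group G] [Fintype G] {L K H : Subgroup G} [L.Normal] [K.Normal]
  (hLK : L ≤ K) (hLH : L ≤ H)
  {Uf : Type v} [AddCommGroup Uf] [Module ℂ Uf] [FiniteDimensional ℂ Uf]
  {U : Type v} [AddCommGroup U] [Module ℂ U] [FiniteDimensional ℂ U]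
  {V : Type v} [AddCommGroup V] [Module ℂ V] [FiniteDimensional ℂ V]
  {V₀ : Type v} [AddCommGroup V₀] [Module ℂ V₀] [FiniteDimensional ℂ V₀]
  (φr : Representation ℂ L Uf) [φr.IsIrreducible] (σ : Representation ℂ K U) [σ.IsIrreducible]
  (ρ : Representation ℂ G V) [ρ.IsIrreducible] (τ : Representation ℂ H V₀) [τ.IsIrreducible]

/-- The space of maps from `σ` into `ρ`. -/
abbrev upSpace : Submodule ℂ (U →ₗ[ℂ] V) := homSpace σ (ρ.comp K.subtype)

/-- The space of maps from `φr` into `τ`. -/
abbrev lowSpace : Submodule ℂ (Uf →ₗ[ℂ] V₀) := homSpace φr (τ.comp (Subgroup.inclusion hLH))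

variable (π : V →ₗ[ℂ] V₀) (hπ : π ∈ homSpace (ρ.comp H.subtype) τ)

include hπ in
omit [Fintype G] [FiniteDimensional ℂ Uf] [FiniteDimensional ℂ U] [FiniteDimensional ℂ V]
  [FiniteDimensional ℂ V₀] [φr.IsIrreducible] [σ.IsIrreducible] [ρ.IsIrreducible]
  [τ.IsIrreducible] [L.Normal] [K.Normal] in
theorem down_mem (w : upSpace σ ρ) (y : multSpace hLK φr σ) :
    π ∘ₗ (w : U →ₗ[ℂ] V) ∘ₗ (y : Uf →ₗ[ℂ] U) ∈ lowSpace hLH φr τ := by
  rw [mem_homSpace]
  intro l v
  simp only [LinearMap.comp_apply]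
  rw [mem_homSpace.mp y.2]
  refine (congrArg π (mem_homSpace.mp w.2 (Subgroup.inclusion hLK l) _)).trans ?_
  exact mem_homSpace.mp hπ (Subgroup.inclusion hLH l) _

/-- Composition with the projection to `τ`. -/
def down : upSpace σ ρ →ₗ[ℂ] (multSpace hLK φr σ →ₗ[ℂ] lowSpace hLH φr τ) where
  toFun w :=
    { toFun := fun y => ⟨_, down_mem hLK hLH φr σ ρ τ π hπ w y⟩
      map_add' := fun a b => Subtype.ext (LinearMap.ext fun v => by simp)
      map_smul' := fun c a => Subtype.ext (LinearMap.ext fun v => by simp) }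
  map_add' a b := LinearMap.ext fun y => Subtype.ext (LinearMap.ext fun v => by simp)
  map_smul' c a := LinearMap.ext fun y => Subtype.ext (LinearMap.ext fun v => by simp)

theorem down_apply (w : upSpace σ ρ) (y : multSpace hLK φr σ) (v : Uf) :
    ((down hLK hLH φr σ ρ τ π hπ w y : lowSpace hLH φr τ) : Uf →ₗ[ℂ] V₀) v =
      π ((w : U →ₗ[ℂ] V) ((y : Uf →ₗ[ℂ] U) v)) := rfl

theorem down_injective [Nontrivial (multSpace hLK φr σ)] (hπ0 : π ≠ 0) (htop : H ⊔ K = ⊤)
    (hφ : ∀ (k : K) (n : L),
      φr.character (MulAut.conjNormal (H := L) (k : G) n) = φr.character n) :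
    Function.Injective (down hLK hLH φr σ ρ τ π hπ) := by
  refine (injective_iff_map_eq_zero _).mpr fun w hw => ?_
  have h1 : ∀ u : U, π ((w : U →ₗ[ℂ] V) u) = 0 := by
    intro u
    have hu : u ∈ ⨆ y : multSpace hLK φr σ, LinearMap.range (y : Uf →ₗ[ℂ] U) := by
      rw [iSup_range_eq_top hLK φr σ hφ]; exact Submodule.mem_top
    refine Submodule.iSup_induction _ (motive := fun z => π ((w : U →ₗ[ℂ] V) z) = 0) hu ?_ ?_ ?_
    · rintro y _ ⟨v, rfl⟩
      rw [← down_apply hLK hLH φr σ ρ τ π hπ w y v, hw]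
      rfl
    · simp
    · intro a b ha hb; rw [map_add, map_add, ha, hb, add_zero]
  let Z : Submodule ℂ V := ⨅ k : K, LinearMap.ker (π ∘ₗ ρ (k : G))
  have hZ : ∀ v, v ∈ Z ↔ ∀ k : K, π (ρ (k : G) v) = 0 := fun v => by
    simp [Z, Submodule.mem_iInf]
  have hinv : ∀ g : G, ∀ v ∈ Z, ρ g v ∈ Z := by
    intro g v hv
    rw [hZ] at hv ⊢
    intro k
    have hg : g ∈ H ⊔ K := htop ▸ Subgroup.mem_top g
    rw [Subgroup.mem_sup_of_normal_right] at hg
    obtain ⟨h, hh, j, hj, rfl⟩ := hg
    have e : (k : G) * (h * j) = h * (h⁻¹ * k * h * j) := by group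
    rw [← Module.End.mul_apply, ← map_mul, e, map_mul, Module.End.mul_apply]
    refine (mem_homSpace.mp hπ ⟨h, hh⟩ _).trans ?_
    have hmem : h⁻¹ * (k : G) * h * j ∈ K :=
      K.mul_mem (by simpa using ‹K.Normal›.conj_mem _ k.2 h⁻¹) hj
    rw [show π (ρ (h⁻¹ * (k : G) * h * j) v) = 0 from hv ⟨_, hmem⟩, map_zero]
  have hbot : Z = ⊥ := by
    refine (CharKernel.eq_bot_or_eq_top ρ Z hinv).resolve_right fun ht => hπ0 ?_
    refine LinearMap.ext fun v => ?_
    have := (hZ v).mp (ht ▸ Submodule.mem_top) 1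
    simpa using this
  refine Subtype.ext (LinearMap.ext fun u => ?_)
  have hmem : (w : U →ₗ[ℂ] V) u ∈ Z := (hZ _).mpr fun k => by
    rw [← h1 (σ k u)]
    exact (congrArg π (mem_homSpace.mp w.2 k u)).symm
  rw [hbot, Submodule.mem_bot] at hmem
  simpa using hmem

variable [Fintype L] [Fintype K] [Fintype H]

/-- The numerical facts of the fully ramified section. -/
theorem fully_ramified (hπ0 : π ≠ 0) (htop : H ⊔ K = ⊤) (hinf : H ⊓ K = L) {a c : ℂ}
    (hρL : (fun l : L => ρ.character l) = a • φr.character)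
    (hρK : (fun k : K => ρ.character k) = c • σ.character)
    (hdeg : ρ.character 1 = (H.index : ℂ) * τ.character 1) :
    finrank ℂ (multSpace hLK φr σ) ^ 2 = L.relIndex K ∧
    Function.Surjective (down hLK hLH φr σ ρ τ π hπ) ∧
    0 < finrank ℂ (lowSpace hLH φr τ) ∧
    finrank ℂ V = finrank ℂ (upSpace σ ρ) * finrank ℂ U ∧
    (∀ (g : G) (n : L), φr.character (MulAut.conjNormal (H := L) g n) = φr.character n) ∧
    (∀ (g : G) (n : K), σ.character (MulAut.conjNormal (H := K) g n) = σ.character n) ∧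
    (∑ x : L, σ.character (Subgroup.inclusion hLK x) * conj (σ.character (Subgroup.inclusion hLK x)))
      = (Nat.card L : ℂ) * L.relIndex K := by
  classical
  set Y := multSpace hLK φr σ
  set B := lowSpace hLH φr τ
  have hφirr : Cfsg.IsIrrCharacter L φr.character := Char.isIrrCharacter_character φr
  have hV : 0 < finrank ℂ V := Char.finrank_pos_of_isIrreducible ρ
  have hχ1 : ρ.character 1 ≠ 0 := by
    rw [Representation.char_one]; exact Nat.cast_ne_zero.mpr hV.ne'
  have ha : a ≠ 0 := by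
    rintro rfl
    exact hχ1 (by simpa using congrFun hρL 1)
  have hc : c ≠ 0 := by
    rintro rfl
    exact hχ1 (by simpa using congrFun hρK 1)
  have hinvφ : ∀ (g : G) (n : L),
      φr.character (MulAut.conjNormal (H := L) g n) = φr.character n := by
    intro g n
    have h1 := congrFun hρL (MulAut.conjNormal (H := L) g n)
    have h2 := congrFun hρL n
    simp only [MulAut.conjNormal_apply, Representation.char_conj, Pi.smul_apply, smul_eq_mul]
      at h1 h2
    exact mul_left_cancel₀ ha (h1.symm.trans h2)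
  have hinvσ : ∀ (g : G) (n : K),
      σ.character (MulAut.conjNormal (H := K) g n) = σ.character n := by
    intro g n
    have h1 := congrFun hρK (MulAut.conjNormal (H := K) g n)
    have h2 := congrFun hρK n
    simp only [MulAut.conjNormal_apply, Representation.char_conj, Pi.smul_apply, smul_eq_mul]
      at h1 h2
    exact mul_left_cancel₀ hc (h1.symm.trans h2)
  -- the restriction of `σ`
  have hηL : (fun l : L => σ.character (Subgroup.inclusion hLK l)) =
      (finrank ℂ Y : ℂ) • φr.character := by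
    have h1 : (fun l : L => σ.character (Subgroup.inclusion hLK l)) =
        (a / c) • φr.character := by
      funext l
      have h1 := congrFun hρL l
      have h2 := congrFun hρK (Subgroup.inclusion hLK l)
      simp only [Pi.smul_apply, smul_eq_mul, Subgroup.coe_inclusion] at h1 h2 ⊢
      rw [h2] at h1
      field_simp
      linear_combination h1
    have h2 := finrank_homSpace φr (σ.comp (Subgroup.inclusion hLK))
    rw [show (Representation.character (σ.comp (Subgroup.inclusion hLK))) =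
        fun l : L => σ.character (Subgroup.inclusion hLK l) from rfl,
      h1, Char.classInner_smul_left, Char.classInner_irr_self hφirr, mul_one] at h2
    rw [h1, h2]
  -- the restriction of `τ`
  have hcon : Cfsg.classInner (Representation.character (ρ.comp H.subtype)) τ.character ≠ 0 := by
    rw [← finrank_homSpace τ (ρ.comp H.subtype), Nat.cast_ne_zero, finrank_homSpace_comm]
    intro h
    exact hπ0 (congrArg Subtype.val (Module.finrank_zero_iff.mp h |>.elim
      (⟨π, hπ⟩ : homSpace (ρ.comp H.subtype) τ) 0))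
  obtain ⟨f, hf⟩ := res_eq_smul_of_constituent (Subgroup.inclusion hLH)
    (Char.isCharacter_character (ρ.comp H.subtype)) (Char.isIrrCharacter_character τ) hcon hφirr
    (a := a) hρL
  have hfB : f = finrank ℂ B := by
    have h2 := finrank_homSpace φr (τ.comp (Subgroup.inclusion hLH))
    rw [show (Representation.character (τ.comp (Subgroup.inclusion hLH))) =
        fun l : L => τ.character (Subgroup.inclusion hLH l) from rfl,
      hf, Char.classInner_smul_left, Char.classInner_irr_self hφirr, mul_one] at h2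
    exact_mod_cast h2.symm
  have hU : finrank ℂ U = finrank ℂ Y * finrank ℂ Uf := by
    have h1 := congrFun hηL 1
    simp only [map_one, Representation.char_one, Pi.smul_apply, smul_eq_mul] at h1
    exact_mod_cast h1
  have hV₀ : finrank ℂ V₀ = finrank ℂ B * finrank ℂ Uf := by
    have h1 := congrFun hf 1
    simp only [map_one, Representation.char_one, Pi.smul_apply, smul_eq_mul] at h1
    rw [← hfB]
    exact_mod_cast h1
  have hW : finrank ℂ V = finrank ℂ (upSpace σ ρ) * finrank ℂ U := by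
    have h1 : (finrank ℂ (upSpace σ ρ) : ℂ) = c := by
      rw [finrank_homSpace, show (Representation.character (ρ.comp K.subtype)) = fun k : K => ρ.character k from rfl,
        hρK, Char.classInner_smul_left,
        Char.classInner_irr_self (Char.isIrrCharacter_character σ), mul_one]
    have h2 := congrFun hρK 1
    simp only [OneMemClass.coe_one, Representation.char_one, Pi.smul_apply, smul_eq_mul, ← h1] at h2
    exact_mod_cast h2
  have hidx : H.index = L.relIndex K := by
    have hcard : ∀ X : Subgroup G, L ≤ X → Nat.card L * L.relIndex X = Nat.card X := by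
      intro X hX
      rw [Subgroup.relIndex, ← Nat.card_congr (Subgroup.subgroupOfEquivOfLe hX).toEquiv]
      exact (L.subgroupOf X).card_mul_index
    have h1 : K.index = L.relIndex H := by
      have := Subgroup.relIndex_sup_right H K
      rw [htop, Subgroup.relIndex_top_right] at this
      rw [this, ← hinf, inf_comm, Subgroup.inf_relIndex_right]
    have h2 := hcard H hLH
    have h3 := hcard K hLK
    have h4 := K.card_mul_index
    rw [← H.card_mul_index, h1, ← h2, ← h3] at h4
    have hpos : 0 < Nat.card L * L.relIndex H := h2 ▸ Nat.card_pos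
    refine Nat.eq_of_mul_eq_mul_left hpos ?_
    rw [← h4]; ring
  have hVq : finrank ℂ V = L.relIndex K * finrank ℂ V₀ := by
    rw [Representation.char_one, Representation.char_one, hidx] at hdeg
    exact_mod_cast hdeg
  have hUf : 0 < finrank ℂ Uf := Char.finrank_pos_of_isIrreducible φr
  have hYpos : 0 < finrank ℂ Y :=
    Nat.pos_of_ne_zero fun h => by
      have := Char.finrank_pos_of_isIrreducible σ
      rw [hU, h, zero_mul] at this
      exact lt_irrefl 0 this
  have hBpos : 0 < finrank ℂ B :=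
    Nat.pos_of_ne_zero fun h => by
      have := Char.finrank_pos_of_isIrreducible τ
      rw [hV₀, h, zero_mul] at this
      exact lt_irrefl 0 this
  haveI : Nontrivial Y := Module.nontrivial_of_finrank_pos hYpos
  have hinj := down_injective hLK hLH φr σ ρ τ π hπ hπ0 htop fun k n => hinvφ (k : G) n
  have hle : finrank ℂ (upSpace σ ρ) ≤ finrank ℂ Y * finrank ℂ B := by
    have := LinearMap.finrank_le_finrank_of_injective hinj
    rwa [Module.finrank_linearMap] at this
  -- compare norms on `L` and `K`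
  have hsumL : (∑ x : L, σ.character (Subgroup.inclusion hLK x) *
      conj (σ.character (Subgroup.inclusion hLK x))) = (Nat.card L : ℂ) * (finrank ℂ Y ^ 2 : ℕ) := by
    have h1 := sum_character_mul_conj φr
    have h2 : ∀ x : L, σ.character (Subgroup.inclusion hLK x) *
        conj (σ.character (Subgroup.inclusion hLK x)) =
        (finrank ℂ Y : ℂ) ^ 2 * (φr.character x * conj (φr.character x)) := by
      intro x
      rw [congrFun hηL x, Pi.smul_apply, smul_eq_mul, map_mul, map_natCast]
      ring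
    rw [Finset.sum_congr rfl fun x _ => h2 x, ← Finset.mul_sum, h1, finrank_homSpace φr φr,
      Char.classInner_irr_self hφirr, Nat.cast_pow]
    ring
  have hle2 : finrank ℂ Y ^ 2 ≤ L.relIndex K := by
    have h1 := sum_character_mul_conj σ
    rw [finrank_homSpace, Char.classInner_irr_self (Char.isIrrCharacter_character σ), mul_one] at h1
    have h2 : ((Nat.card L * finrank ℂ Y ^ 2 : ℕ) : ℝ) ≤ (Nat.card K : ℝ) := by
      have e1 : (((Nat.card L * finrank ℂ Y ^ 2 : ℕ) : ℝ) : ℂ) =
          ((∑ x : L, Complex.normSq (σ.character (Subgroup.inclusion hLK x)) : ℝ) : ℂ) := by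
        rw [Complex.ofReal_sum, Complex.ofReal_natCast, Nat.cast_mul, ← hsumL]
        exact Finset.sum_congr rfl fun x _ => Complex.mul_conj _
      have e2 : ((Nat.card K : ℝ) : ℂ) = ((∑ x : K, Complex.normSq (σ.character x) : ℝ) : ℂ) := by
        rw [Complex.ofReal_sum, Complex.ofReal_natCast, ← h1]
        exact Finset.sum_congr rfl fun x _ => Complex.mul_conj _
      rw [Complex.ofReal_inj.mp e1, Complex.ofReal_inj.mp e2,
        ← Finset.sum_image (f := fun x : K => Complex.normSq (σ.character x))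
          (fun x _ y _ h => Subgroup.inclusion_injective hLK h)]
      exact Finset.sum_le_sum_of_subset_of_nonneg (Finset.subset_univ _)
        fun x _ _ => Complex.normSq_nonneg _
    have h3 : Nat.card L * finrank ℂ Y ^ 2 ≤ Nat.card K := by exact_mod_cast h2
    have h4 : Nat.card L * L.relIndex K = Nat.card K := by
      rw [Subgroup.relIndex, ← Nat.card_congr (Subgroup.subgroupOfEquivOfLe hLK).toEquiv]
      exact (L.subgroupOf K).card_mul_index
    rw [← h4] at h3
    exact Nat.le_of_mul_le_mul_left h3 Nat.card_pos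
  have hchain : L.relIndex K * finrank ℂ B * finrank ℂ Uf =
      finrank ℂ (upSpace σ ρ) * finrank ℂ Y * finrank ℂ Uf := by
    rw [mul_assoc (L.relIndex K), ← hV₀, ← hVq, hW, hU, mul_assoc]
  have hchain' := Nat.eq_of_mul_eq_mul_right hUf hchain
  have heq : finrank ℂ Y ^ 2 = L.relIndex K := by
    refine le_antisymm hle2 (Nat.le_of_mul_le_mul_right ?_ hBpos)
    rw [hchain']
    calc finrank ℂ (upSpace σ ρ) * finrank ℂ Y ≤ finrank ℂ Y * finrank ℂ B * finrank ℂ Y :=
          Nat.mul_le_mul_right _ hle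
      _ = finrank ℂ Y ^ 2 * finrank ℂ B := by ring
  refine ⟨heq, ?_, hBpos, hW, hinvφ, hinvσ, ?_⟩
  · refine (LinearMap.injective_iff_surjective_of_finrank_eq_finrank
      (V₂ := ↥Y →ₗ[ℂ] ↥B) ?_).mp hinj
    rw [Module.finrank_linearMap]
    rw [← heq] at hchain'
    exact Nat.eq_of_mul_eq_mul_right hYpos (by rw [← hchain']; ring)
  · rw [hsumL, heq]

/-- A fully ramified section below an abelian group of coprime exponent acting nontrivially on
it makes the representation induced from a proper subgroup above that group. -/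
theorem exists_induced_over (hπ : π ∈ homSpace (ρ.comp H.subtype) τ) (hπ0 : π ≠ 0)
    (htop : H ⊔ K = ⊤) (hinf : H ⊓ K = L) {a c : ℂ}
    (hρL : (fun l : L => ρ.character l) = a • φr.character)
    (hρK : (fun k : K => ρ.character k) = c • σ.character)
    (hdeg : ρ.character 1 = (H.index : ℂ) * τ.character 1)
    (hLK' : L ≤ K) (hLH' : L ≤ H)
    (M₁ : Subgroup G) (hconj : ∀ h ∈ H, ∀ x ∈ M₁, h * x * h⁻¹ ∈ M₁) (hM₁ : M₁ ≤ H)
    (hcomm : ∀ x ∈ M₁, ∀ y ∈ M₁, x * y * x⁻¹ * y⁻¹ ∈ L)
    {r : ℕ} (hr : r ≠ 0) (hpow : ∀ x ∈ M₁, x ^ r ∈ L) (hcop : Nat.Coprime (L.relIndex K) r)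
    (hnc : ∃ x ∈ M₁, ∃ k ∈ K, x * k * x⁻¹ * k⁻¹ ∉ L) :
    ∃ T : Subgroup G, K ≤ T ∧ M₁ ≤ T ∧ T ≠ ⊤ ∧
      ∃ ξ : T → ℂ, Cfsg.IsCharacter T ξ ∧ Cfsg.indFun T ξ = ρ.character := by
  classical
  obtain ⟨he, hsurj, hB, hV, hinvφ, hinvσ, hsumL⟩ :=
    fully_ramified hLK' hLH' φr σ ρ τ π hπ hπ0 htop hinf hρL hρK hdeg
  let Y := multSpace hLK' φr σ
  have hYpos : 0 < finrank ℂ Y := by
    refine Nat.pos_of_ne_zero fun h => ?_
    rw [h, zero_pow two_ne_zero] at he
    exact Subgroup.index_ne_zero_of_finite he.symm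
  haveI : Nontrivial Y := Module.nontrivial_of_finrank_pos hYpos
  haveI : Nontrivial (lowSpace hLH' φr τ) := Module.nontrivial_of_finrank_pos hB
  have hinvK : ∀ (k : K) (n : L),
      φr.character (MulAut.conjNormal (H := L) (k : G) n) = φr.character n :=
    fun k n => hinvφ (k : G) n
  let D := down hLK' hLH' φr σ ρ τ π hπ
  choose lift hlift using fun g : G => exists_pair φr σ g (hinvφ g) (hinvσ g)
  let pr : pairs φr σ →* G :=
    ((proj σ).comp (MonoidHom.fst (cover σ) (cover φr))).comp (pairs φr σ).subtype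
  have hpr : ∀ p : pairs φr σ, pr p = p.1.1.1.1 := fun _ => rfl
  let A : pairs φr σ →* Module.End ℂ Y := act hLK' φr σ
  have hscal : ∀ p q : pairs φr σ, pr p * (pr q)⁻¹ ∈ L → ∃ d : ℂ, d ≠ 0 ∧ A p = d • A q :=
    fun p q h => act_eq_smul_of_fst_eq hLK' φr σ p q h
  have hAu : ∀ g, IsUnit (A (lift g)) := fun g => act_isUnit hLK' φr σ _
  -- the operators of `M₁` commute
  have hcommA : ∀ x y : M₁, Commute (A (lift (x : G))) (A (lift (y : G))) := by
    intro x y
    obtain ⟨d, -, hd⟩ := hscal (lift (x : G) * lift (y : G)) (lift (y : G) * lift (x : G)) (by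
      rw [map_mul, map_mul, hpr, hpr, hlift, hlift, mul_inv_rev, ← mul_assoc]
      exact hcomm x x.2 y y.2)
    simp only [map_mul] at hd
    obtain ⟨s, -, hs⟩ := act_eq_scalar_of_mem hLK' φr σ (lift (x : G) ^ r) (by
      rw [← hpr, map_pow, hpr, hlift]; exact hpow x x.2)
    rw [map_pow] at hs
    have hd1 : d = 1 := eq_one_of_scalar_commutator (hAu _) (hAu _) hd hs
      (Nat.Coprime.coprime_dvd_left (dvd_pow_self _ two_ne_zero) (he ▸ hcop))
    rw [hd1, one_smul] at hd
    exact hd
  let fM : M₁ → Module.End ℂ Y := fun x => A (lift (x : G))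
  let Yw : (M₁ → ℂ) → Submodule ℂ Y := fun lam => ⨅ x, (fM x).maxGenEigenspace (lam x)
  have hYind : iSupIndep Yw :=
    Module.End.independent_iInf_maxGenEigenspace_of_forall_mapsTo fM
      fun i j μ => Module.End.mapsTo_maxGenEigenspace_of_comm (hcommA j i) μ
  have hYtop : ⨆ lam, Yw lam = ⊤ :=
    Module.End.iSup_iInf_maxGenEigenspace_eq_top_of_iSup_maxGenEigenspace_eq_top_of_commute fM
      (fun i j _ => hcommA i j) fun i => Module.End.iSup_maxGenEigenspace_eq_top _
  have heqw : ∀ {lam mu : M₁ → ℂ} {y : Y}, y ≠ 0 → y ∈ Yw lam → y ∈ Yw mu → lam = mu := by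
    intro lam mu y hy h1 h2
    by_contra hne
    exact hy (Submodule.disjoint_def.mp (hYind.pairwiseDisjoint hne) y h1 h2)
  -- the action of `H` on the weights
  have hmove : ∀ (h : H) (lam : M₁ → ℂ), ∃ mu : M₁ → ℂ,
      ∀ y ∈ Yw lam, A (lift (h : G)) y ∈ Yw mu := by
    intro h lam
    have hz : ∀ z : M₁, (h : G)⁻¹ * z * h ∈ M₁ := fun z => by
      have := hconj _ (H.inv_mem h.2) z z.2
      rwa [inv_inv] at this
    have hsc : ∀ z : M₁, ∃ d : ℂ, d ≠ 0 ∧
        A (lift (h : G)) * fM ⟨_, hz z⟩ = (d • fM z) * A (lift (h : G)) := by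
      intro z
      obtain ⟨d, hd0, hd⟩ := hscal (lift (h : G) * lift ((h : G)⁻¹ * z * h))
        (lift (z : G) * lift (h : G)) (by
          simp only [map_mul]
          simp only [hpr, hlift]
          rw [show (h : G) * ((h : G)⁻¹ * z * h) * ((z : G) * h)⁻¹ = 1 by group]
          exact L.one_mem)
      simp only [map_mul] at hd
      exact ⟨d, hd0, by rw [smul_mul_assoc]; exact hd⟩
    choose d hd0 hd using hsc
    refine ⟨fun z => lam ⟨_, hz z⟩ / d z, fun y hy => ?_⟩
    rw [Submodule.mem_iInf] at hy ⊢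
    exact fun z => map_maxGenEigenspace_of_semiconj (hd0 z) (hd z) (hy ⟨_, hz z⟩)
  choose cw hcw using hmove
  have hback : ∀ (h : H) (y : Y), ∃ d : ℂ, d ≠ 0 ∧
      A (lift ((h⁻¹ : H) : G)) (A (lift (h : G)) y) = d • y := by
    intro h y
    obtain ⟨d, hd0, hd⟩ := act_eq_scalar_of_mem hLK' φr σ
      (lift ((h⁻¹ : H) : G) * lift (h : G)) (by
        rw [← hpr, map_mul, hpr, hpr, hlift, hlift, Subgroup.coe_inv, inv_mul_cancel]
        exact L.one_mem)
    refine ⟨d, hd0, ?_⟩
    rw [map_mul] at hd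
    exact (LinearMap.congr_fun hd y).trans (by simp)
  have hcwinv : ∀ (h : H) (lam : M₁ → ℂ), Yw lam ≠ ⊥ → cw h⁻¹ (cw h lam) = lam := by
    intro h lam hne
    obtain ⟨y, hy, hy0⟩ := Submodule.exists_mem_ne_zero_of_ne_bot hne
    obtain ⟨d, hd0, hd⟩ := hback h y
    refine (heqw hy0 hy ?_).symm
    have := hcw h⁻¹ _ _ (hcw h lam y hy)
    rwa [hd, Submodule.smul_mem_iff _ hd0] at this
  -- the corresponding pieces of the space of maps
  let Wl : (M₁ → ℂ) → Submodule ℂ (upSpace σ ρ) := fun lam =>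
    { carrier := {w | ∀ mu, mu ≠ lam → ∀ y ∈ Yw mu, D w y = 0}
      zero_mem' := fun mu _ y _ => by simp
      add_mem' := fun ha hb mu hmu y hy => by
        rw [map_add, LinearMap.add_apply, ha mu hmu y hy, hb mu hmu y hy, add_zero]
      smul_mem' := fun s w hw mu hmu y hy => by
        rw [map_smul, LinearMap.smul_apply, hw mu hmu y hy, smul_zero] }
  have hDzero : ∀ w, (∀ lam, ∀ y ∈ Yw lam, D w y = 0) → w = 0 := by
    intro w hw
    have h0 : D w = 0 := by
      refine LinearMap.ext fun y => ?_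
      have hy : y ∈ ⨆ lam, Yw lam := hYtop ▸ Submodule.mem_top
      exact (iSup_le fun lam => fun z hz => LinearMap.mem_ker.mpr (hw lam z hz) :
        ⨆ lam, Yw lam ≤ LinearMap.ker (D w)) hy
    exact down_injective hLK' hLH' φr σ ρ τ π hπ hπ0 htop hinvK (h0.trans (map_zero D).symm)
  have hWind : iSupIndep Wl := by
    intro lam
    rw [Submodule.disjoint_def]
    intro w hw hw'
    refine hDzero w fun mu y hy => ?_
    by_cases hmu : mu = lam
    · subst hmu
      have hle : (⨆ nu, ⨆ (_ : nu ≠ mu), Wl nu) ≤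
          LinearMap.ker ((LinearMap.applyₗ y).comp D) :=
        iSup₂_le fun nu hnu z hz => LinearMap.mem_ker.mpr (hz mu (Ne.symm hnu) y hy)
      exact LinearMap.mem_ker.mp (hle hw')
    · exact hw mu hmu y hy
  let Vl : (M₁ → ℂ) → Submodule ℂ V := fun lam =>
    ⨆ w : ↥((Wl lam).map (upSpace σ ρ).subtype), LinearMap.range (w : U →ₗ[ℂ] V)
  have hVle : ∀ lam, finrank ℂ (Vl lam) ≤ finrank ℂ (Wl lam) * finrank ℂ U := fun lam => by
    refine (finrank_iSup_range_le _).trans (le_of_eq ?_)
    rw [Submodule.finrank_map_subtype_eq]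
  have hVmem : ∀ {lam : M₁ → ℂ} {w : upSpace σ ρ}, w ∈ Wl lam → ∀ u, (w : U →ₗ[ℂ] V) u ∈ Vl lam :=
    fun {lam w} hw u => Submodule.mem_iSup_of_mem
      (⟨(w : U →ₗ[ℂ] V), Submodule.mem_map_of_mem hw⟩ :
        ↥((Wl lam).map (upSpace σ ρ).subtype)) ⟨u, rfl⟩
  have hVmap : ∀ (lam : M₁ → ℂ) (g : G) (X : Submodule ℂ V),
      (∀ w ∈ Wl lam, ∀ u, ρ g ((w : U →ₗ[ℂ] V) u) ∈ X) → (Vl lam).map (ρ g) ≤ X := by
    intro lam g X h
    rw [Submodule.map_iSup]
    refine iSup_le ?_
    rintro ⟨_, w, hw, rfl⟩ _ ⟨_, ⟨u, rfl⟩, rfl⟩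
    exact h w hw u
  have hVH : ∀ (h : H) (lam : M₁ → ℂ), (Vl lam).map (ρ (h : G)) ≤ Vl (cw h lam) := by
    intro h lam
    refine hVmap lam _ _ fun w hw u => ?_
    let S : (Module.End ℂ U)ˣ := (lift (h : G)).1.1.1.2
    have hS : Intertwines σ (h : G) (S : Module.End ℂ U) := by
      have := (lift (h : G)).1.1.2
      rw [mem_cover, hlift] at this
      exact this
    let w' : upSpace σ ρ := ⟨ρ (h : G) ∘ₗ (w : U →ₗ[ℂ] V) ∘ₗ ((S⁻¹ : (Module.End ℂ U)ˣ) : Module.End ℂ U),
      mem_homSpace.mpr fun k v => by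
        have h1 := LinearMap.congr_fun (Intertwines.inv σ hS k) v
        simp only [Module.End.mul_apply] at h1
        simp only [LinearMap.comp_apply]
        rw [h1, mem_homSpace.mp w.2]
        show ρ (h : G) (ρ (MulAut.conjNormal (H := K) (h : G)⁻¹ k : G) _) = ρ (k : G) _
        rw [← Module.End.mul_apply, ← Module.End.mul_apply, ← map_mul, ← map_mul]
        congr 2
        simp [mul_assoc]⟩
    have hw' : w' ∈ Wl (cw h lam) := by
      intro nu hnu y' hy'
      obtain ⟨d, hd0, hd⟩ := hback h⁻¹ y'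
      rw [inv_inv] at hd
      set y := A (lift ((h⁻¹ : H) : G)) y' with hydef
      have hzero : D w' (A (lift (h : G)) y) = 0 := by
        by_cases hlam : cw h⁻¹ nu = lam
        · have hy : y ∈ Yw lam := hlam ▸ hcw h⁻¹ nu y' hy'
          have h1 := hcw h lam y hy
          rw [hd, Submodule.smul_mem_iff _ hd0] at h1
          by_cases hy0 : y' = 0
          · rw [hd, hy0, smul_zero, map_zero]
          · exact absurd (heqw hy0 hy' h1) hnu
        · have h1 := hw _ hlam y (hcw h⁻¹ nu y' hy')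
          refine Subtype.ext (LinearMap.ext fun v => ?_)
          show π (ρ (h : G) ((w : U →ₗ[ℂ] V) (((S⁻¹ : (Module.End ℂ U)ˣ) : Module.End ℂ U)
            ((S : Module.End ℂ U) ((y : Uf →ₗ[ℂ] U)
              ((((lift (h : G)).1.2.1.2⁻¹ : (Module.End ℂ Uf)ˣ) : Module.End ℂ Uf) v)))))) = 0
          rw [← Module.End.mul_apply (f := ((S⁻¹ : (Module.End ℂ U)ˣ) : Module.End ℂ U)),
            Units.inv_mul, Module.End.one_apply]
          refine (mem_homSpace.mp hπ h _).trans ?_
          rw [← down_apply hLK' hLH' φr σ ρ τ π hπ w y]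
          show τ h ((D w y : Uf →ₗ[ℂ] V₀) _) = 0
          rw [h1]
          simp
      rw [hd, map_smul] at hzero
      exact (smul_eq_zero.mp hzero).resolve_left hd0
    have := hVmem hw' ((S : Module.End ℂ U) u)
    simp only [w', LinearMap.comp_apply] at this
    rwa [← Module.End.mul_apply (f := ((S⁻¹ : (Module.End ℂ U)ˣ) : Module.End ℂ U)),
      Units.inv_mul, Module.End.one_apply] at this
  have hVK : ∀ (k : K) (lam : M₁ → ℂ), (Vl lam).map (ρ (k : G)) ≤ Vl lam := by
    intro k lam
    refine hVmap lam _ _ fun w hw u => ?_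
    rw [show ρ (k : G) ((w : U →ₗ[ℂ] V) u) = (w : U →ₗ[ℂ] V) (σ k u) from
      (mem_homSpace.mp w.2 k u).symm]
    exact hVmem hw _
  have hcancel : ∀ (g : G) (X X' : Submodule ℂ V), X.map (ρ g) ≤ X' → X'.map (ρ g⁻¹) ≤ X →
      X.map (ρ g) = X' := by
    intro g X X' h1 h2
    refine le_antisymm h1 fun v hv => ⟨ρ g⁻¹ v, h2 ⟨v, hv, rfl⟩, ?_⟩
    rw [← Module.End.mul_apply, ← map_mul, mul_inv_cancel, map_one, Module.End.one_apply]
  have hVHeq : ∀ (h : H) (lam : M₁ → ℂ), Yw lam ≠ ⊥ →
      (Vl lam).map (ρ (h : G)) = Vl (cw h lam) := by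
    intro h lam hne
    refine hcancel _ _ _ (hVH h lam) ?_
    have := hVH h⁻¹ (cw h lam)
    rwa [hcwinv h lam hne] at this
  have hVKeq : ∀ (k : K) (lam : M₁ → ℂ), (Vl lam).map (ρ (k : G)) = Vl lam :=
    fun k lam => hcancel _ _ _ (hVK k lam) (hVK k⁻¹ lam)
  -- two weights occur
  obtain ⟨lam₀, hlam₀, mu₀, hmu₀, hne₀⟩ :
      ∃ lam₀, Yw lam₀ ≠ ⊥ ∧ ∃ mu₀, Yw mu₀ ≠ ⊥ ∧ mu₀ ≠ lam₀ := by
    obtain ⟨lam₀, hlam₀⟩ : ∃ lam, Yw lam ≠ ⊥ := by
      by_contra hall
      push Not at hall
      have : (⊥ : Submodule ℂ Y) = ⊤ := by rw [← hYtop]; simp [hall]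
      exact bot_ne_top this
    refine ⟨lam₀, hlam₀, ?_⟩
    by_contra hall
    push Not at hall
    have htop0 : Yw lam₀ = ⊤ := by
      refine eq_top_iff.mpr (hYtop ▸ iSup_le fun mu => ?_)
      by_cases h : mu = lam₀
      · rw [h]
      · rw [show Yw mu = ⊥ from by_contra fun h' => h (hall mu h')]; exact bot_le
    have hscalar : ∀ x : M₁, fM x = lam₀ x • 1 := by
      intro x
      obtain ⟨s, hs0, hs⟩ := act_eq_scalar_of_mem hLK' φr σ (lift (x : G) ^ r) (by
        rw [← hpr, map_pow, hpr, hlift]; exact hpow x x.2)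
      rw [map_pow] at hs
      refine eq_smul_one_of_pow_eq_smul hr hs0 hs (eq_top_iff.mpr ?_)
      rw [← htop0]
      exact iInf_le _ x
    obtain ⟨x, hx, k, hk, hxk⟩ := hnc
    let lx := lift x
    let lk := lift k
    have h1 : A (lx * lk) = A (lk * lx) := by
      rw [map_mul, map_mul]
      show fM ⟨x, hx⟩ * A lk = A lk * fM ⟨x, hx⟩
      rw [hscalar, smul_mul_assoc, mul_smul_comm, one_mul, mul_one]
    have h2 : A (lx * lk * (lk * lx)⁻¹) = (1 : ℂ) • 1 := by
      rw [one_smul, map_mul, h1, ← map_mul, mul_inv_cancel, map_one]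
    have hd : x * k * x⁻¹ * k⁻¹ ∈ K :=
      K.mul_mem (‹K.Normal›.conj_mem k hk x) (K.inv_mem hk)
    have hprd : pr (lx * lk * (lk * lx)⁻¹) = x * k * x⁻¹ * k⁻¹ := by
      rw [map_mul, map_inv, map_mul, map_mul, hpr, hpr, hlift, hlift, mul_inv_rev, ← mul_assoc]
    have hcd := comm_of_act_scalar hLK' φr σ hinvK (lx * lk * (lk * lx)⁻¹) ⟨_, hd⟩ hprd h2
    -- the subgroup of `K` centralising the commutant
    let C := homSpace (σ.comp (Subgroup.inclusion hLK')) (σ.comp (Subgroup.inclusion hLK'))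
    let Z : Subgroup K :=
      { carrier := {j | ∀ b ∈ C, ∀ u, b (σ j u) = σ j (b u)}
        one_mem' := fun b _ u => by simp
        mul_mem' := fun {i j} hi hj b hb u => by
          rw [map_mul, Module.End.mul_apply, Module.End.mul_apply, hi b hb, hj b hb]
        inv_mem' := fun {i} hi b hb u => by
          have h := hi b hb (σ i⁻¹ u)
          rw [← Module.End.mul_apply (f := σ i), ← map_mul, mul_inv_cancel, map_one,
            Module.End.one_apply] at h
          have h2 := congrArg (σ i⁻¹) h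
          rw [← Module.End.mul_apply (f := σ i⁻¹) (g := σ i), ← map_mul, inv_mul_cancel, map_one,
            Module.End.one_apply] at h2
          exact h2.symm }
    have hLZ : L.subgroupOf K ≤ Z := by
      intro j hj b hb u
      exact mem_homSpace.mp hb ⟨(j : G), hj⟩ u
    have hfC : (finrank ℂ C : ℂ) = L.relIndex K := by
      have h1 := sum_character_mul_conj (σ.comp (Subgroup.inclusion hLK'))
      exact (mul_left_cancel₀ (Nat.cast_ne_zero.mpr Nat.card_pos.ne') (hsumL.symm.trans h1)).symm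
    have hcardZ : Nat.card Z ≤ Nat.card (L.subgroupOf K) := by
      have hCle : C ≤ homSpace (σ.comp Z.subtype) (σ.comp Z.subtype) :=
        fun b hb => mem_homSpace.mpr fun j u => j.2 b hb u
      have h1 := sum_character_mul_conj (σ.comp Z.subtype)
      have h2 := sum_character_mul_conj σ
      rw [finrank_homSpace, Char.classInner_irr_self (Char.isIrrCharacter_character σ), mul_one]
        at h2
      set dZ := finrank ℂ (homSpace (σ.comp Z.subtype) (σ.comp Z.subtype))
      have e1 : ((∑ x : Z, Complex.normSq (σ.character (x : K)) : ℝ) : ℂ) =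
          (((Nat.card Z * dZ : ℕ) : ℝ) : ℂ) := by
        rw [Complex.ofReal_sum, Complex.ofReal_natCast, Nat.cast_mul, ← h1]
        exact Finset.sum_congr rfl fun x _ => (Complex.mul_conj _).symm
      have e2 : ((∑ x : K, Complex.normSq (σ.character x) : ℝ) : ℂ) = ((Nat.card K : ℝ) : ℂ) := by
        rw [Complex.ofReal_sum, Complex.ofReal_natCast, ← h2]
        exact Finset.sum_congr rfl fun x _ => (Complex.mul_conj _).symm
      have h3 : ((Nat.card Z * dZ : ℕ) : ℝ) ≤ (Nat.card K : ℝ) := by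
        rw [← Complex.ofReal_inj.mp e1, ← Complex.ofReal_inj.mp e2,
          ← Finset.sum_image (f := fun x : K => Complex.normSq (σ.character x))
            (fun x _ y _ h => Subtype.ext h)]
        exact Finset.sum_le_sum_of_subset_of_nonneg (Finset.subset_univ _)
          fun x _ _ => Complex.normSq_nonneg _
      have h4 : Nat.card Z * dZ ≤ Nat.card K := by exact_mod_cast h3
      have h5 : L.relIndex K ≤ dZ := by
        have : finrank ℂ C = L.relIndex K := by exact_mod_cast hfC
        rw [← this]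
        exact Submodule.finrank_mono hCle
      refine Nat.le_of_mul_le_mul_right ((Nat.mul_le_mul_left _ h5).trans (h4.trans (le_of_eq ?_)))
        (Nat.pos_of_ne_zero Subgroup.index_ne_zero_of_finite)
      exact ((L.subgroupOf K).card_mul_index).symm
    have hZeq : L.subgroupOf K = Z := Subgroup.eq_of_le_of_card_ge hLZ hcardZ
    refine hxk ?_
    have : (⟨_, hd⟩ : K) ∈ Z := fun b hb u => hcd b hb u
    rw [← hZeq] at this
    exact this
  obtain ⟨b₀, hb₀⟩ := exists_ne (0 : lowSpace hLH' φr τ)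
  have hW0 : ∃ w ∈ Wl lam₀, w ≠ 0 := by
    obtain ⟨y₀, hy₀, hy₀0⟩ := Submodule.exists_mem_ne_zero_of_ne_bot hlam₀
    have hnot : y₀ ∉ ⨆ nu, ⨆ (_ : nu ≠ lam₀), Yw nu := fun h =>
      hy₀0 (Submodule.disjoint_def.mp (hYind lam₀) y₀ hy₀ h)
    obtain ⟨f, hf, hfp⟩ := Submodule.exists_dual_map_eq_bot_of_notMem hnot inferInstance
    obtain ⟨w, hw⟩ := hsurj (f.smulRight b₀)
    refine ⟨w, fun nu hnu y hy => ?_, fun h => ?_⟩
    · show D w y = 0
      rw [hw, LinearMap.smulRight_apply]
      have : f y ∈ (⨆ nu, ⨆ (_ : nu ≠ lam₀), Yw nu).map f :=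
        Submodule.mem_map_of_mem (Submodule.mem_iSup_of_mem nu (Submodule.mem_iSup_of_mem hnu hy))
      rw [hfp, Submodule.mem_bot] at this
      rw [this, zero_smul]
    · rw [h, map_zero] at hw
      have := LinearMap.congr_fun hw y₀
      rw [LinearMap.zero_apply, LinearMap.smulRight_apply, eq_comm, smul_eq_zero] at this
      exact this.elim hf hb₀
  have hWtop : Wl lam₀ ≠ ⊤ := by
    intro ht
    obtain ⟨y₀, hy₀, hy₀0⟩ := Submodule.exists_mem_ne_zero_of_ne_bot hmu₀
    obtain ⟨f, hf, -⟩ := Submodule.exists_dual_map_eq_bot_of_notMem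
      (p := (⊥ : Submodule ℂ Y)) (by rwa [Submodule.mem_bot]) inferInstance
    obtain ⟨w, hw⟩ := hsurj (f.smulRight b₀)
    have h1 : D w y₀ = 0 := (ht ▸ Submodule.mem_top : w ∈ Wl lam₀) mu₀ hne₀ y₀ hy₀
    rw [show D w = f.smulRight b₀ from hw, LinearMap.smulRight_apply, smul_eq_zero] at h1
    exact h1.elim hf hb₀
  let X := Vl lam₀
  let T : Subgroup G :=
    { carrier := {g | X.map (ρ g) = X}
      one_mem' := by
        show X.map (ρ 1) = X
        rw [map_one]; exact Submodule.map_id X
      mul_mem' := fun {g g'} hg hg' => by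
        show X.map (ρ (g * g')) = X
        rw [map_mul, Module.End.mul_eq_comp, Submodule.map_comp, hg', hg]
      inv_mem' := fun {g} hg => by
        show X.map (ρ g⁻¹) = X
        conv_lhs => rw [← show X.map (ρ g) = X from hg]
        rw [← Submodule.map_comp, ← Module.End.mul_eq_comp, ← map_mul, inv_mul_cancel, map_one]
        exact Submodule.map_id X }
  have hXinv : ∀ g ∈ T, ∀ v ∈ X, ρ g v ∈ X := fun g hg v hv => by
    exact (show X.map (ρ g) = X from hg).le (Submodule.mem_map_of_mem hv)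
  have hXne : X ≠ ⊥ := by
    obtain ⟨w, hw, hw0⟩ := hW0
    intro h
    refine hw0 (Subtype.ext (LinearMap.ext fun u => ?_))
    have := hVmem hw u
    rw [show Vl lam₀ = ⊥ from h, Submodule.mem_bot] at this
    simpa using this
  have hU : 0 < finrank ℂ U := Char.finrank_pos_of_isIrreducible σ
  have hTtop : T ≠ ⊤ := by
    intro ht
    have hX := (CharKernel.eq_bot_or_eq_top ρ X fun g => hXinv g (ht ▸ Subgroup.mem_top g)).resolve_left
      hXne
    refine hWtop (Submodule.eq_top_of_finrank_eq (le_antisymm (Submodule.finrank_le _) ?_))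
    refine Nat.le_of_mul_le_mul_right ?_ hU
    rw [← hV, ← finrank_top ℂ V, ← hX]
    exact hVle lam₀
  have hKT : K ≤ T := fun k hk => hVKeq ⟨k, hk⟩ lam₀
  have hMT : M₁ ≤ T := by
    intro x hx
    have h1 : cw ⟨x, hM₁ hx⟩ lam₀ = lam₀ := by
      obtain ⟨y, hy, hy0⟩ := Submodule.exists_mem_ne_zero_of_ne_bot hlam₀
      have hAy : A (lift x) y ∈ Yw lam₀ := by
        rw [Submodule.mem_iInf] at hy ⊢
        exact fun z => Module.End.mapsTo_maxGenEigenspace_of_comm
          (hcommA z ⟨x, hx⟩) (lam₀ z) (hy z)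
      refine heqw ?_ (hcw ⟨x, hM₁ hx⟩ lam₀ y hy) hAy
      intro h0
      refine hy0 ?_
      obtain ⟨d, hd0, hd⟩ := hback ⟨x, hM₁ hx⟩ y
      rw [show A (lift ((⟨x, hM₁ hx⟩ : H) : G)) y = 0 from h0, map_zero] at hd
      exact (smul_eq_zero.mp hd.symm).resolve_left hd0
    show X.map (ρ x) = X
    have := hVHeq ⟨x, hM₁ hx⟩ lam₀ hlam₀
    rwa [h1] at this
  refine ⟨T, hKT, hMT, hTtop, ?_⟩
  -- the index bound
  have hbound : T.index * finrank ℂ X ≤ finrank ℂ V := by
    have hdec : ∀ q : G ⧸ T, ∃ h : H, X.map (ρ q.out) = Vl (cw h lam₀) := by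
      intro q
      have hg : q.out ∈ H ⊔ K := htop ▸ Subgroup.mem_top _
      rw [Subgroup.mem_sup_of_normal_right] at hg
      obtain ⟨h, hh, k, hk, hhk⟩ := hg
      refine ⟨⟨h, hh⟩, ?_⟩
      rw [← hhk, map_mul, Module.End.mul_eq_comp, Submodule.map_comp]
      show ((Vl lam₀).map (ρ k)).map (ρ h) = _
      rw [show (Vl lam₀).map (ρ k) = Vl lam₀ from hVKeq ⟨k, hk⟩ lam₀]
      exact hVHeq ⟨h, hh⟩ lam₀ hlam₀
    choose hh hhmap using hdec
    have hinj : Function.Injective fun q : G ⧸ T => cw (hh q) lam₀ := by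
      intro q q' hqq
      have h1 : X.map (ρ q.out) = X.map (ρ q'.out) := by rw [hhmap, hhmap]; exact congrArg Vl hqq
      have h2 : q.out⁻¹ * q'.out ∈ T := by
        show X.map (ρ (q.out⁻¹ * q'.out)) = X
        rw [map_mul, Module.End.mul_eq_comp, Submodule.map_comp, ← h1, ← Submodule.map_comp,
          ← Module.End.mul_eq_comp, ← map_mul, inv_mul_cancel, map_one]
        exact Submodule.map_id X
      rw [← QuotientGroup.out_eq' q, ← QuotientGroup.out_eq' q']
      exact QuotientGroup.eq.mpr h2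
    have := Fintype.ofFinite (G ⧸ T)
    calc T.index * finrank ℂ X = ∑ q : G ⧸ T, finrank ℂ X := by
          rw [Finset.sum_const, Finset.card_univ, smul_eq_mul, Subgroup.index,
            Nat.card_eq_fintype_card]
      _ ≤ ∑ q : G ⧸ T, finrank ℂ (Wl (cw (hh q) lam₀)) * finrank ℂ U := by
          refine Finset.sum_le_sum fun q _ => ?_
          refine le_trans (le_of_eq ?_) (hVle _)
          have hinjρ : Function.Injective (ρ q.out) := fun v v' h => by
            have := congrArg (ρ q.out⁻¹) h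
            simpa [← Module.End.mul_apply, ← map_mul] using this
          rw [← hhmap]
          exact (Submodule.equivMapOfInjective (ρ q.out) hinjρ X).finrank_eq
      _ ≤ finrank ℂ V := by
          rw [← Finset.sum_mul, hV]
          exact Nat.mul_le_mul_right _ (sum_finrank_le (hWind.comp hinj))
  let ξr : Representation ℂ T X :=
    { toFun := fun g => (ρ (g : G)).restrict (hXinv g g.2)
      map_one' := LinearMap.ext fun v => Subtype.ext (by simp)
      map_mul' := fun g g' => LinearMap.ext fun v => Subtype.ext (by simp) }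
  have := Fintype.ofFinite T
  have hξ : Cfsg.IsCharacter T ξr.character := Char.isCharacter_character ξr
  refine ⟨ξr.character, hξ, ?_⟩
  have hne : Cfsg.classInner (Cfsg.indFun T ξr.character) ρ.character ≠ 0 := by
    rw [Char.classInner_indFun T ξr.character ρ.character (fun g h => Representation.char_conj ρ g h)]
    rw [show (fun t : T => ρ.character t) = Representation.character (ρ.comp T.subtype) from rfl,
      ← finrank_homSpace (ρ.comp T.subtype) ξr, Nat.cast_ne_zero, finrank_homSpace_comm]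
    intro h
    refine hXne ?_
    have h2 : (⟨X.subtype, mem_homSpace.mpr fun t v => rfl⟩ :
        homSpace ξr (ρ.comp T.subtype)) = 0 := (Module.finrank_zero_iff.mp h).elim _ _
    have h1 : X.subtype = 0 := congrArg Subtype.val h2
    exact eq_bot_iff.mpr fun v hv =>
      (Submodule.mem_bot ℂ).mpr (LinearMap.congr_fun h1 ⟨v, hv⟩)
  have hθ : Cfsg.IsCharacter G (Cfsg.indFun T ξr.character) := Char.IsCharacter.indFun T hξ
  refine (CharDeep.Cliff.degree_le_of_constituent hθ (Char.isIrrCharacter_character ρ) hne).2 ?_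
  have h1 : ((Char.degree (Cfsg.indFun T ξr.character) : ℕ) : ℂ) = (T.index * finrank ℂ X : ℕ) := by
    rw [Char.IsCharacter.degree_cast hθ, Char.indFun_apply_one, Representation.char_one,
      Nat.cast_mul]
  have h2 : Char.degree ρ.character = finrank ℂ V := Char.degree_character ρ
  rw [Nat.cast_inj] at h1
  omega

end CfsgLib.CharExt
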