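import Cfsg.Agent.Lib.Char.Orth

/-!
# Spaces of intertwining maps as submodules
-/

set_option autoImplicit false

open scoped ComplexConjugate

namespace CfsgLib.CharExt

open Module

universe u v w

variable {X : Type u} [Group X] {U : Type v} [AddCommGroup U] [Module ℂ U]
  {V : Type w} [AddCommGroup V] [Module ℂ V]

/-- The intertwining maps from `σ` to `ρ`, as a submodule. -/
def homSpace (σ : Representation ℂ X U) (ρ : Representation ℂ X V) :
    Submodule ℂ (U →ₗ[ℂ] V) where
  carrier := {w | ∀ x, w ∘ₗ σ x = ρ x ∘ₗ w}
  zero_mem' x := by rw [LinearMap.zero_comp, LinearMap.comp_zero]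
  add_mem' {a b} ha hb x := by
    rw [LinearMap.add_comp, LinearMap.comp_add, ha x, hb x]
  smul_mem' c a ha x := by rw [LinearMap.smul_comp, LinearMap.comp_smul, ha x]

theorem mem_homSpace {σ : Representation ℂ X U} {ρ : Representation ℂ X V} {w : U →ₗ[ℂ] V} :
    w ∈ homSpace σ ρ ↔ ∀ x u, w (σ x u) = ρ x (w u) :=
  ⟨fun h x u => LinearMap.congr_fun (h x) u, fun h x => LinearMap.ext (h x)⟩

/-- The submodule of intertwining maps is the space of intertwining maps. -/
def homSpaceEquiv (σ : Representation ℂ X U) (ρ : Representation ℂ X V) :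
    homSpace σ ρ ≃ₗ[ℂ] Representation.IntertwiningMap σ ρ where
  toFun w := ⟨w.1, w.2⟩
  invFun f := ⟨f.toLinearMap, f.isIntertwining'⟩
  map_add' _ _ := rfl
  map_smul' _ _ := rfl
  left_inv _ := rfl
  right_inv _ := rfl

variable [Fintype X] [FiniteDimensional ℂ U] [FiniteDimensional ℂ V]

/-- The dimension of the intertwining maps is the inner product of the characters. -/
theorem finrank_homSpace (σ : Representation ℂ X U) (ρ : Representation ℂ X V) :
    (finrank ℂ (homSpace σ ρ) : ℂ) = Cfsg.classInner ρ.character σ.character := by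
  rw [Char.classInner_character ρ σ, (homSpaceEquiv σ ρ).finrank_eq]

theorem finrank_homSpace_comm (σ : Representation ℂ X U) (ρ : Representation ℂ X V) :
    finrank ℂ (homSpace σ ρ) = finrank ℂ (homSpace ρ σ) := by
  have h := finrank_homSpace σ ρ
  rw [← Char.classInner_conj_symm σ.character ρ.character, ← finrank_homSpace ρ σ,
    map_natCast] at h
  exact_mod_cast h

/-- The squared absolute values of a character sum to the order times the commutant dimension. -/
theorem sum_character_mul_conj (σ : Representation ℂ X U) :
    ∑ x : X, σ.character x * conj (σ.character x)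
      = (Nat.card X : ℂ) * finrank ℂ (homSpace σ σ) := by
  rw [finrank_homSpace, Cfsg.classInner, ← mul_assoc,
    mul_inv_cancel₀ (Nat.cast_ne_zero.mpr Nat.card_pos.ne'), one_mul]

end CfsgLib.CharExt
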