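import Cfsg.Agent.Lib.CharExt.Intertwine
import Cfsg.Agent.Lib.CharExt.HomSpace
import Cfsg.Agent.Lib.CharExt.BergerAux

/-!
# Multiplicity spaces over a fully ramified section

`L ≤ K` are normal in `G`, `φ` and `σ` are invariant representations of `L` and `K`, and the
pairs of intertwiners act on the multiplicity space of `φ` in `σ`.
-/

set_option autoImplicit false

open scoped ComplexConjugate

namespace CfsgLib.CharExt

open Module

universe u v

variable {G : Type u} [Group G] {L K : Subgroup G} [L.Normal] [K.Normal] (hLK : L ≤ K)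
  {Uf : Type v} [AddCommGroup Uf] [Module ℂ Uf] {U : Type v} [AddCommGroup U] [Module ℂ U]
  (φr : Representation ℂ L Uf) (σ : Representation ℂ K U)

/-- The pairs of intertwiners over the same element. -/
def pairs : Subgroup (cover σ × cover φr) where
  carrier := {p | p.1.1.1 = p.2.1.1}
  one_mem' := rfl
  mul_mem' := fun {a b} ha hb => by
    show a.1.1.1 * b.1.1.1 = a.2.1.1 * b.2.1.1
    rw [ha, hb]
  inv_mem' := fun {a} ha => by
    show a.1.1.1⁻¹ = a.2.1.1⁻¹
    rw [ha]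

/-- The multiplicity space of `φr` in `σ`. -/
abbrev multSpace : Submodule ℂ (Uf →ₗ[ℂ] U) :=
  homSpace φr (σ.comp (Subgroup.inclusion hLK))

theorem act_mem (p : pairs φr σ) (y : multSpace hLK φr σ) :
    (((p.1.1.1.2 : (Module.End ℂ U)ˣ) : Module.End ℂ U)) ∘ₗ (y : Uf →ₗ[ℂ] U) ∘ₗ
      (((p.1.2.1.2⁻¹ : (Module.End ℂ Uf)ˣ) : Module.End ℂ Uf)) ∈ multSpace hLK φr σ := by
  rw [mem_homSpace]
  intro l v
  have hT := LinearMap.congr_fun (Intertwines.inv φr p.1.2.2 l) v
  simp only [Module.End.mul_apply] at hT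
  simp only [LinearMap.comp_apply]
  rw [hT, mem_homSpace.mp y.2]
  have he : MulAut.conjNormal (H := K) p.1.1.1.1
      (Subgroup.inclusion hLK (MulAut.conjNormal (H := L) p.1.2.1.1⁻¹ l)) =
        Subgroup.inclusion hLK l := by
    refine Subtype.ext ?_
    rw [show p.1.1.1.1 = p.1.2.1.1 from p.2]
    simp [mul_assoc]
  have hS := LinearMap.congr_fun
    (p.1.1.2 (Subgroup.inclusion hLK (MulAut.conjNormal (H := L) p.1.2.1.1⁻¹ l)))
    ((y : Uf →ₗ[ℂ] U) ((((p.1.2.1.2⁻¹ : (Module.End ℂ Uf)ˣ) : Module.End ℂ Uf)) v))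
  simp only [Module.End.mul_apply, he] at hS
  exact hS

/-- The action of the pairs on the multiplicity space. -/
def act : pairs φr σ →* Module.End ℂ (multSpace hLK φr σ) where
  toFun p :=
    { toFun := fun y => ⟨_, act_mem hLK φr σ p y⟩
      map_add' := fun a b => Subtype.ext (LinearMap.ext fun v => by simp)
      map_smul' := fun c a => Subtype.ext (LinearMap.ext fun v => by simp) }
  map_one' := LinearMap.ext fun y => Subtype.ext (LinearMap.ext fun v => by simp)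
  map_mul' p q := LinearMap.ext fun y => Subtype.ext (LinearMap.ext fun v => by
    simp [Module.End.mul_apply])

theorem act_apply (p : pairs φr σ) (y : multSpace hLK φr σ) (v : Uf) :
    ((act hLK φr σ p y : multSpace hLK φr σ) : Uf →ₗ[ℂ] U) v =
      ((p.1.1.1.2 : (Module.End ℂ U)ˣ) : Module.End ℂ U) ((y : Uf →ₗ[ℂ] U)
        (((p.1.2.1.2⁻¹ : (Module.End ℂ Uf)ˣ) : Module.End ℂ Uf) v)) := rfl

theorem act_apply' (p : pairs φr σ) (y : multSpace hLK φr σ) (v : Uf) :
    ((act hLK φr σ p y : multSpace hLK φr σ) : Uf →ₗ[ℂ] U)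
        ((p.1.2.1.2 : Module.End ℂ Uf) v) =
      ((p.1.1.1.2 : (Module.End ℂ U)ˣ) : Module.End ℂ U) ((y : Uf →ₗ[ℂ] U) v) := by
  rw [act_apply]
  congr 2
  rw [← Module.End.mul_apply, Units.inv_mul, Module.End.one_apply]

theorem act_isUnit (p : pairs φr σ) : IsUnit (act hLK φr σ p) :=
  IsUnit.map (act hLK φr σ) (Group.isUnit p)

/-- The pair over an element of `L`. -/
def pairOfL (l : L) : pairs φr σ :=
  ⟨(base σ (Subgroup.inclusion hLK l), base φr l), rfl⟩

theorem act_pairOfL (l : L) : act hLK φr σ (pairOfL hLK φr σ l) = 1 := by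
  refine LinearMap.ext fun y => Subtype.ext (LinearMap.ext fun v => ?_)
  obtain ⟨w, rfl⟩ : ∃ w, ((pairOfL hLK φr σ l).1.2.1.2 : Module.End ℂ Uf) w = v :=
    ⟨((((pairOfL hLK φr σ l).1.2.1.2)⁻¹ : (Module.End ℂ Uf)ˣ) : Module.End ℂ Uf) v, by
      rw [← Module.End.mul_apply, Units.mul_inv, Module.End.one_apply]⟩
  rw [act_apply']
  show ((base σ (Subgroup.inclusion hLK l)).1.2 : Module.End ℂ U) ((y : Uf →ₗ[ℂ] U) w) =
    (y : Uf →ₗ[ℂ] U) (((base φr l).1.2 : Module.End ℂ Uf) w)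
  rw [base_val, base_val, mem_homSpace.mp y.2]
  rfl

section Irreducible

variable [φr.IsIrreducible] [σ.IsIrreducible] [FiniteDimensional ℂ Uf] [FiniteDimensional ℂ U]

theorem act_eq_scalar_of_one (p : pairs φr σ) (hp : p.1.1.1.1 = 1) :
    ∃ c : ℂ, c ≠ 0 ∧ act hLK φr σ p = c • 1 := by
  obtain ⟨a, ha⟩ := exists_scal_of_fst_eq_one σ p.1.1 hp
  obtain ⟨b, hb⟩ := exists_scal_of_fst_eq_one φr p.1.2 (by rw [← p.2]; exact hp)
  refine ⟨(a : ℂ) * (b⁻¹ : ℂˣ), mul_ne_zero a.ne_zero (Units.ne_zero _),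
    LinearMap.ext fun y => Subtype.ext (LinearMap.ext fun v => ?_)⟩
  rw [act_apply, ha, hb, scal_val,
    show ((((scal φr b).1.2)⁻¹ : (Module.End ℂ Uf)ˣ) : Module.End ℂ Uf) =
      algebraMap ℂ _ ((b⁻¹ : ℂˣ) : ℂ) from rfl,
    Module.algebraMap_end_apply, Module.algebraMap_end_apply, map_smul, smul_smul]
  rfl

theorem act_eq_scalar_of_mem (p : pairs φr σ) (hp : p.1.1.1.1 ∈ L) :
    ∃ c : ℂ, c ≠ 0 ∧ act hLK φr σ p = c • 1 := by
  obtain ⟨c, hc, h⟩ := act_eq_scalar_of_one hLK φr σ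
    (p * (pairOfL hLK φr σ ⟨_, hp⟩)⁻¹) (mul_inv_cancel p.1.1.1.1)
  refine ⟨c, hc, ?_⟩
  calc act hLK φr σ p
      = act hLK φr σ (p * (pairOfL hLK φr σ ⟨_, hp⟩)⁻¹) * act hLK φr σ (pairOfL hLK φr σ ⟨_, hp⟩) := by
        rw [← map_mul, inv_mul_cancel_right]
    _ = c • 1 := by rw [h, act_pairOfL, mul_one]

theorem act_eq_smul_of_fst_eq (p q : pairs φr σ) (hpq : p.1.1.1.1 * q.1.1.1.1⁻¹ ∈ L) :
    ∃ c : ℂ, c ≠ 0 ∧ act hLK φr σ p = c • act hLK φr σ q := by
  obtain ⟨c, hc, h⟩ := act_eq_scalar_of_mem hLK φr σ (p * q⁻¹) hpq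
  refine ⟨c, hc, ?_⟩
  calc act hLK φr σ p = act hLK φr σ (p * q⁻¹) * act hLK φr σ q := by
        rw [← map_mul, inv_mul_cancel_right]
    _ = c • act hLK φr σ q := by rw [h, smul_mul_assoc, one_mul]

variable [Finite L] [Finite K]

/-- Pairs exist over every element fixing both characters. -/
theorem exists_pair (g : G)
    (hφ : ∀ n : L, φr.character (MulAut.conjNormal (H := L) g n) = φr.character n)
    (hσ : ∀ n : K, σ.character (MulAut.conjNormal (H := K) g n) = σ.character n) :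
    ∃ p : pairs φr σ, p.1.1.1.1 = g := by
  obtain ⟨S, hS⟩ := exists_intertwines σ g hσ
  obtain ⟨T, hT⟩ := exists_intertwines φr g hφ
  exact ⟨⟨(⟨(g, S), hS⟩, ⟨(g, T), hT⟩), rfl⟩, rfl⟩

/-- The multiplicity space spans `U` when it is nonzero and `φr` is invariant. -/
theorem iSup_range_eq_top [Nontrivial (multSpace hLK φr σ)]
    (hφ : ∀ (k : K) (n : L),
      φr.character (MulAut.conjNormal (H := L) (k : G) n) = φr.character n) :
    ⨆ y : multSpace hLK φr σ, LinearMap.range (y : Uf →ₗ[ℂ] U) = ⊤ := by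
  set S : Submodule ℂ U := ⨆ y : multSpace hLK φr σ, LinearMap.range (y : Uf →ₗ[ℂ] U)
  refine (CharKernel.eq_bot_or_eq_top σ S fun k u hu => ?_).resolve_left fun hbot => ?_
  · obtain ⟨T, hT⟩ := exists_intertwines φr (k : G) (hφ k)
    let p : pairs φr σ := ⟨(base σ k, ⟨((k : G), T), hT⟩), rfl⟩
    refine Submodule.iSup_induction _ (motive := fun z => σ k z ∈ S) hu ?_ ?_ ?_
    · rintro y _ ⟨w, rfl⟩
      refine Submodule.mem_iSup_of_mem (act hLK φr σ p y) ⟨(T : Module.End ℂ Uf) w, ?_⟩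
      have := act_apply' hLK φr σ p y w
      rw [show ((p.1.1.1.2 : (Module.End ℂ U)ˣ) : Module.End ℂ U) = σ k from base_val σ k] at this
      exact this
    · simp
    · intro a b ha hb; rw [map_add]; exact S.add_mem ha hb
  · obtain ⟨y, hy⟩ := exists_ne (0 : multSpace hLK φr σ)
    refine hy (Subtype.ext (LinearMap.range_eq_bot.mp ?_))
    exact eq_bot_iff.mpr (hbot ▸ le_iSup (fun y : multSpace hLK φr σ =>
      LinearMap.range (y : Uf →ₗ[ℂ] U)) y)

/-- An element of `K` acting by a scalar commutes with the commutant of `L`. -/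
theorem comm_of_act_scalar [Nontrivial (multSpace hLK φr σ)]
    (hφ : ∀ (k : K) (n : L),
      φr.character (MulAut.conjNormal (H := L) (k : G) n) = φr.character n)
    (p : pairs φr σ) (k : K) (hp : p.1.1.1.1 = (k : G)) {c : ℂ} (hc : act hLK φr σ p = c • 1)
    (a : U →ₗ[ℂ] U) (ha : a ∈ homSpace (σ.comp (Subgroup.inclusion hLK))
      (σ.comp (Subgroup.inclusion hLK))) (u : U) : a (σ k u) = σ k (a u) := by
  obtain ⟨b, hb⟩ := exists_scal_of_fst_eq_one σ (p.1.1 * (base σ k)⁻¹)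
    (by show p.1.1.1.1 * (k : G)⁻¹ = 1; rw [hp, mul_inv_cancel])
  rw [mul_inv_eq_iff_eq_mul] at hb
  have hS : ((p.1.1.1.2 : (Module.End ℂ U)ˣ) : Module.End ℂ U) = (b : ℂ) • σ k := by
    rw [hb]
    show (((scal σ b).1.2 : (Module.End ℂ U)ˣ) : Module.End ℂ U) *
      (((base σ k).1.2 : (Module.End ℂ U)ˣ) : Module.End ℂ U) = _
    rw [scal_val, base_val, ← Algebra.smul_def]
  have key : ∀ (y : multSpace hLK φr σ) (v : Uf),
      (b : ℂ) • σ k ((y : Uf →ₗ[ℂ] U) v) =
        c • (y : Uf →ₗ[ℂ] U) ((p.1.2.1.2 : Module.End ℂ Uf) v) := by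
    intro y v
    have h := act_apply' hLK φr σ p y v
    rw [hc, hS] at h
    simpa using h.symm
  have hu : u ∈ ⨆ y : multSpace hLK φr σ, LinearMap.range (y : Uf →ₗ[ℂ] U) := by
    rw [iSup_range_eq_top hLK φr σ hφ]; exact Submodule.mem_top
  refine Submodule.iSup_induction _ (motive := fun z => a (σ k z) = σ k (a z)) hu ?_ ?_ ?_
  · rintro y _ ⟨v, rfl⟩
    let ay : multSpace hLK φr σ := ⟨a ∘ₗ (y : Uf →ₗ[ℂ] U), mem_homSpace.mpr fun l w => by
      rw [LinearMap.comp_apply, mem_homSpace.mp y.2, mem_homSpace.mp ha]; rfl⟩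
    refine smul_right_injective U b.ne_zero ?_
    show (b : ℂ) • a (σ k _) = (b : ℂ) • σ k (a _)
    rw [← map_smul a, key, map_smul]
    exact (key ay v).symm
  · simp
  · intro x y hx hy; rw [map_add, map_add, map_add, hx, hy, map_add]

end Irreducible

end CfsgLib.CharExt
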