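import Cfsg.Agent.Lib.CharDeep.Induction
import Cfsg.Agent.Lib.Char.Twist
import Cfsg.Agent.Lib.Char.Induced
import Cfsg.Agent.Lib.RealChar.OrbitSum

/-!
# Dade's lemma: invariant characters are detected on elementary subgroups
-/

set_option autoImplicit false

open scoped ComplexConjugate

namespace CfsgLib.CharExt

universe u

variable {G : Type u} [Group G] [Fintype G]

/-- The average of `|θ|²` against an induced function, for invariant `θ`. -/
theorem sum_indFun_mul_normal (N E : Subgroup G) [N.Normal] (ψ : E → ℂ) (w : N → ℂ)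
    (hw : ∀ (g : G) (n : N), w (MulAut.conjNormal (H := N) g n) = w n) [Fintype N]
    [Fintype ↥(E ⊓ N)] :
    (Nat.card N : ℂ)⁻¹ * ∑ n : N, Cfsg.indFun E ψ n * w n =
      ((E ⊔ N).index : ℂ) * ((Nat.card ↥(E ⊓ N) : ℂ)⁻¹ *
        ∑ y : ↥(E ⊓ N), ψ ⟨(y : G), y.2.1⟩ * w ⟨(y : G), y.2.2⟩) := by
  classical
  have hinner : ∀ x : G, ∑ n : N, Cfsg.extendByZero E ψ (x⁻¹ * n * x) * w n =
      ∑ n : N, Cfsg.extendByZero E ψ n * w n := by
    intro x
    refine Fintype.sum_equiv (MulAut.conjNormal (H := N) x⁻¹).toEquiv _ _ fun n => ?_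
    show _ = Cfsg.extendByZero E ψ ((MulAut.conjNormal (H := N) x⁻¹ n : N) : G) *
      w (MulAut.conjNormal (H := N) x⁻¹ n)
    rw [hw, MulAut.conjNormal_apply, inv_inv]
  have hrestr : ∑ n : N, Cfsg.extendByZero E ψ n * w n =
      ∑ y : ↥(E ⊓ N), ψ ⟨(y : G), y.2.1⟩ * w ⟨(y : G), y.2.2⟩ := by
    rw [← Finset.sum_subset (Finset.subset_univ (Finset.univ.filter fun n : N => (n : G) ∈ E))]
    · symm
      refine Finset.sum_bij (fun y _ => (⟨(y : G), y.2.2⟩ : N)) (fun y _ => ?_) ?_ ?_ ?_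
      · exact Finset.mem_filter.mpr ⟨Finset.mem_univ _, y.2.1⟩
      · intro a _ b _ h
        exact Subtype.ext (congrArg (fun z : N => (z : G)) h)
      · intro n hn
        exact ⟨⟨(n : G), (Finset.mem_filter.mp hn).2, n.2⟩, Finset.mem_univ _, rfl⟩
      · intro y _
        rw [Char.extendByZero_apply_mem E ψ (x := (y : G)) y.2.1]
    · intro n _ hn
      rw [Char.extendByZero_of_notMem E ψ fun h => hn (Finset.mem_filter.mpr
        ⟨Finset.mem_univ _, h⟩), zero_mul]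
  simp_rw [Char.indFun_apply, mul_assoc ((Nat.card E : ℂ)⁻¹), Finset.sum_mul]
  rw [← Finset.mul_sum, Finset.sum_comm, Finset.sum_congr rfl fun x _ => hinner x, hrestr,
    Finset.sum_const, Finset.card_univ, nsmul_eq_mul, ← Nat.card_eq_fintype_card]
  -- the cardinalities
  have hEN : Nat.card ↥(E ⊔ N) * Nat.card ↥(E ⊓ N) = Nat.card E * Nat.card N := by
    have h1 := (N.subgroupOf E).index_mul_card
    have h2 := (N.subgroupOf (E ⊔ N)).index_mul_card
    have h3 : N.relIndex (E ⊔ N) = N.relIndex E := Subgroup.relIndex_sup_right _ _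
    have h4 : Nat.card (N.subgroupOf E) = Nat.card ↥(E ⊓ N) := by
      rw [← Subgroup.inf_subgroupOf_left N E]
      exact Nat.card_congr (Subgroup.subgroupOfEquivOfLe inf_le_left).toEquiv
    rw [Nat.card_congr (Subgroup.subgroupOfEquivOfLe (le_sup_right : N ≤ E ⊔ N)).toEquiv] at h2
    rw [← h2, ← h1, h4, show (N.subgroupOf (E ⊔ N)).index = (N.subgroupOf E).index from h3]
    ring
  have hG : (Nat.card G : ℂ) = ((E ⊔ N).index : ℂ) * Nat.card ↥(E ⊔ N) := by
    exact_mod_cast (E ⊔ N).index_mul_card.symm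
  have hEN' : (Nat.card ↥(E ⊔ N) : ℂ) * Nat.card ↥(E ⊓ N) = (Nat.card E : ℂ) * Nat.card N := by
    exact_mod_cast hEN
  have e1 : (Nat.card E : ℂ) ≠ 0 := Nat.cast_ne_zero.mpr Nat.card_pos.ne'
  have e2 : (Nat.card N : ℂ) ≠ 0 := Nat.cast_ne_zero.mpr Nat.card_pos.ne'
  have e3 : (Nat.card ↥(E ⊓ N) : ℂ) ≠ 0 := Nat.cast_ne_zero.mpr Nat.card_pos.ne'
  rw [hG]
  field_simp
  linear_combination ((E ⊔ N).index : ℂ) *
    (∑ y : ↥(E ⊓ N), ψ ⟨(y : G), y.2.1⟩ * w ⟨(y : G), y.2.2⟩) * hEN'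

/-- Dade's lemma. -/
theorem exists_elementary_detection (p : ℕ) (hp : p.Prime) (N : Subgroup G) [hN : N.Normal]
    (hind : ∃ k : ℕ, N.index = p ^ k) (θ : N → ℂ) (hθ : Cfsg.IsIrrCharacter N θ)
    (hinv : ∀ (g : G) (n : N), θ (MulAut.conjNormal (H := N) g n) = θ n) :
    ∃ (E : Subgroup G) (φ : ↥(E ⊓ N) → ℂ), Cfsg.IsElementary p E ∧ E ⊔ N = ⊤ ∧
      Cfsg.IsIrrCharacter ↥(E ⊓ N) φ ∧
      (∀ g ∈ E, ∀ x y : ↥(E ⊓ N), (y : G) = g * x * g⁻¹ → φ y = φ x) ∧
      ∃ m : ℕ, ¬ p ∣ m ∧ ∀ [Fintype ↥(E ⊓ N)],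
        Cfsg.classInner (fun y : ↥(E ⊓ N) => θ ⟨(y : G), y.2.2⟩) φ = (m : ℂ) := by
  classical
  have : Fact p.Prime := ⟨hp⟩
  obtain ⟨k, hk⟩ := hind
  obtain ⟨m, l, hm, hl, heq⟩ := CharDeep.Ind.brauer_local G p hp
  let w : N → ℂ := fun n => θ n * conj (θ n)
  have hw : ∀ (g : G) (n : N), w (MulAut.conjNormal (H := N) g n) = w n := fun g n => by
    simp only [w, hinv g n]
  let F : (G → ℂ) → ℂ := fun f => (Nat.card N : ℂ)⁻¹ * ∑ n : N, f n * w n
  have hF1 : F (fun _ => (m : ℂ)) = m := by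
    have h := Char.classInner_irr_self hθ
    simp only [F, ← Finset.mul_sum]
    rw [mul_left_comm]
    exact (congrArg ((m : ℂ) * ·) h).trans (mul_one _)
  -- each term contributes an integer; some term gives one prime to `p`
  obtain ⟨t, ht, z, hz, hzp⟩ : ∃ t ∈ l, ∃ z : ℤ,
      F (Cfsg.indFun t.1 t.2.1) = z ∧ ¬ (p : ℤ) ∣ z := by
    by_contra hcon
    push Not at hcon
    have hint : ∀ t ∈ l, ∃ z : ℤ, F (Cfsg.indFun t.1 t.2.1) = z := by
      intro t ht
      obtain ⟨n, hn⟩ := Char.IsCharacter.exists_nat_classInner' (G := ↥(t.1 ⊓ N))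
        (Char.IsCharacter.mul
          (Char.IsCharacter.comp (hl t ht).2 (Subgroup.inclusion (inf_le_left : t.1 ⊓ N ≤ t.1)))
          (Char.IsCharacter.comp (Char.IsIrrCharacter.isCharacter hθ)
            (Subgroup.inclusion (inf_le_right : t.1 ⊓ N ≤ N))))
        (Char.IsCharacter.comp (Char.IsIrrCharacter.isCharacter hθ)
          (Subgroup.inclusion (inf_le_right : t.1 ⊓ N ≤ N)))
      refine ⟨((t.1 ⊔ N).index : ℤ) * n, ?_⟩
      simp only [F]
      rw [sum_indFun_mul_normal N t.1 t.2.1 w hw]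
      push_cast
      rw [← hn]
      simp only [Cfsg.classInner, Pi.mul_apply, w]
      congr 2
      exact Finset.sum_congr rfl fun y _ => (mul_assoc _ _ _).symm
    have hsum : ∀ k : List ((E : Subgroup G) × ((E → ℂ) × ℤ)),
        (∀ t ∈ k, t ∈ l) →
        ∃ z : ℤ, (p : ℤ) ∣ z ∧
          F ((k.map fun t => (t.2.2 : ℂ) • Cfsg.indFun t.1 t.2.1).sum) = z := by
      intro k
      induction k with
      | nil => intro _; exact ⟨0, dvd_zero _, by simp [F]⟩
      | cons s k ih =>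
        intro hk
        obtain ⟨z, hz, hz'⟩ := ih fun t ht => hk t (List.mem_cons_of_mem _ ht)
        obtain ⟨a, ha⟩ := hint s (hk s List.mem_cons_self)
        refine ⟨s.2.2 * a + z, dvd_add ((hcon s (hk s List.mem_cons_self) a ha).mul_left _) hz, ?_⟩
        push_cast
        rw [← hz', ← ha, List.map_cons, List.sum_cons]
        simp only [F, Pi.add_apply, Pi.smul_apply, smul_eq_mul, add_mul, Finset.sum_add_distrib,
          mul_add, Finset.mul_sum]
        congr 1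
        exact Finset.sum_congr rfl fun n _ => by ring
    obtain ⟨z, hz, hz'⟩ := hsum l fun _ h => h
    rw [← heq, hF1] at hz'
    exact hm ((show m = z by exact_mod_cast hz') ▸ hz)
  obtain ⟨hel, hψ⟩ := hl t ht
  set E := t.1 with hEdef
  set ψ := t.2.1
  let K : Subgroup G := E ⊓ N
  let θK : K → ℂ := fun y => θ ⟨(y : G), y.2.2⟩
  have hθK : Cfsg.IsCharacter K θK :=
    Char.IsCharacter.comp (Char.IsIrrCharacter.isCharacter hθ)
      (Subgroup.inclusion (inf_le_right : K ≤ N))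
  let fK : K → ℂ := fun y => ψ ⟨(y : G), y.2.1⟩ * θK y
  have hfK : Cfsg.IsCharacter K fK :=
    Char.IsCharacter.mul (Char.IsCharacter.comp hψ (Subgroup.inclusion (inf_le_left : K ≤ E))) hθK
  obtain ⟨X, hX⟩ := Char.IsCharacter.exists_nat_classInner' hfK hθK
  have hzX : z = ((E ⊔ N).index : ℤ) * X := by
    have h1 : F (Cfsg.indFun E ψ) = ((E ⊔ N).index : ℂ) * (X : ℂ) := by
      simp only [F]
      rw [sum_indFun_mul_normal N E ψ w hw, ← hX]
      simp only [Cfsg.classInner, fK, θK, w]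
      congr 2
      exact Finset.sum_congr rfl fun y _ => (mul_assoc _ _ _).symm
    rw [hz] at h1
    exact_mod_cast h1
  have htop : E ⊔ N = ⊤ := by
    have hdvd : (E ⊔ N).index ∣ p ^ k := hk ▸ Subgroup.index_dvd_of_le le_sup_right
    obtain ⟨j, -, hj⟩ := (Nat.dvd_prime_pow hp).mp hdvd
    rcases Nat.eq_zero_or_pos j with rfl | hjp
    · exact Subgroup.index_eq_one.mp (by simpa using hj)
    · exfalso
      refine hzp (hzX ▸ Dvd.dvd.mul_right ?_ _)
      rw [hj]
      exact_mod_cast dvd_pow_self p hjp.ne'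
  have hpX : ¬ (p : ℤ) ∣ X := fun h => hzp (hzX ▸ h.mul_left _)
  -- conjugation by `E` on the irreducible characters of `K`
  have hmem : ∀ g ∈ E, ∀ y : K, g * (y : G) * g⁻¹ ∈ K := fun g hg y =>
    ⟨E.mul_mem (E.mul_mem hg y.2.1) (E.inv_mem hg), hN.conj_mem _ y.2.2 g⟩
  let c : E → (K ≃* K) := fun g =>
    { toFun := fun y => ⟨(g : G) * y * (g : G)⁻¹, hmem g g.2 y⟩
      invFun := fun y => ⟨(g : G)⁻¹ * y * (g : G), by
        simpa using hmem (g : G)⁻¹ (E.inv_mem g.2) y⟩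
      left_inv := fun y => Subtype.ext (by group)
      right_inv := fun y => Subtype.ext (by group)
      map_mul' := fun a b => Subtype.ext (by
        show (g : G) * ((a : G) * b) * (g : G)⁻¹ =
          (g : G) * a * (g : G)⁻¹ * ((g : G) * b * (g : G)⁻¹)
        group) }
  have hc : ∀ (g : E) (y : K), ((c g y : K) : G) = (g : G) * y * (g : G)⁻¹ := fun g y => rfl
  have hirr : ∀ (g : E) (φ : Cfsg.IrrCharacter K), Cfsg.IsIrrCharacter K ((φ : K → ℂ) ∘ c g) :=
    fun g φ => CharTwist.isIrrCharacter_comp_equiv φ.2 (c g)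
  let π : E →* Equiv.Perm (Cfsg.IrrCharacter K) :=
    MonoidHom.toHomPerm
      { toFun := fun g φ => ⟨(φ : K → ℂ) ∘ c g⁻¹, hirr g⁻¹ φ⟩
        map_one' := by
          funext φ
          refine Subtype.ext (funext fun y => ?_)
          show (φ : K → ℂ) (c 1⁻¹ y) = (φ : K → ℂ) y
          exact congrArg (φ : K → ℂ) (Subtype.ext (by rw [hc]; simp))
        map_mul' := fun g h => by
          funext φ
          refine Subtype.ext (funext fun y => ?_)
          show (φ : K → ℂ) (c (g * h)⁻¹ y) = (φ : K → ℂ) (c h⁻¹ (c g⁻¹ y))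
          exact congrArg (φ : K → ℂ) (Subtype.ext (by rw [hc, hc, hc]; simp [mul_assoc])) }
  have hπ : ∀ (g : E) (φ : Cfsg.IrrCharacter K) (y : K),
      ((π g φ : Cfsg.IrrCharacter K) : K → ℂ) y = (φ : K → ℂ) (c g⁻¹ y) := fun g φ y => rfl
  have hR : IsPGroup p π.range := by
    obtain ⟨x, hx, -, j, hj⟩ := hel
    have : (Subgroup.zpowers x).Normal :=
      ⟨fun a ha g => by
        rw [Subgroup.mem_center_iff.mp (Subgroup.zpowers_le.mpr hx ha) g, mul_inv_cancel_right]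
        exact ha⟩
    have hxfix : π x = 1 := by
      refine Equiv.ext fun φ => Subtype.ext (funext fun y => ?_)
      rw [hπ]
      show (φ : K → ℂ) (c x⁻¹ y) = (φ : K → ℂ) y
      refine congrArg (φ : K → ℂ) (Subtype.ext ?_)
      have := congrArg (fun q : E => (q : G))
        (Subgroup.mem_center_iff.mp (Subgroup.inv_mem _ hx) ⟨(y : G), y.2.1⟩)
      simp only [Subgroup.coe_mul] at this
      rw [hc, ← this, mul_inv_cancel_right]
    rintro ⟨_, g, rfl⟩
    refine ⟨j, Subtype.ext ?_⟩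
    obtain ⟨i, hi⟩ := Subgroup.mem_zpowers_iff.mp ((Subgroup.zpowers x).pow_index_mem g)
    rw [hj] at hi
    show π g ^ p ^ j = 1
    rw [← map_pow, ← hi, map_zpow, hxfix, one_zpow]
  -- the weights
  choose a ha using fun φ : Cfsg.IrrCharacter K => Char.IsCharacter.exists_nat_classInner hfK φ.2
  choose b hb using fun φ : Cfsg.IrrCharacter K => Char.IsCharacter.exists_nat_classInner hθK φ.2
  have hXsum : ((X : ℤ) : ℂ) = ∑ φ, (((a φ : ℤ) * b φ : ℤ) : ℂ) := by
    rw [Int.cast_natCast, ← hX, Char.IsCharacter.eq_sum_classInner hfK,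
      Char.IsCharacter.eq_sum_classInner hθK, Char.classInner_sum_smul_sum_smul]
    refine Finset.sum_congr rfl fun φ _ => ?_
    rw [ha, hb]
    simp
  have hfix_inner : ∀ (f : K → ℂ), (∀ (g : E) (y : K), f (c g y) = f y) →
      ∀ (g : E) (φ : Cfsg.IrrCharacter K),
      Cfsg.classInner f (π g φ : Cfsg.IrrCharacter K) = Cfsg.classInner f φ := by
    intro f hf g φ
    unfold Cfsg.classInner
    congr 1
    refine Fintype.sum_equiv (c g⁻¹).toEquiv _ _ fun y => ?_
    show _ = f (c g⁻¹ y) * conj ((φ : K → ℂ) (c g⁻¹ y))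
    rw [hf, hπ]
  have hθc : ∀ (g : E) (y : K), θK (c g y) = θK y := fun g y =>
    hinv (g : G) ⟨(y : G), y.2.2⟩
  have hfc : ∀ (g : E) (y : K), fK (c g y) = fK y := by
    intro g y
    simp only [fK, hθc]
    congr 1
    exact Char.IsCharacter.isClassFunction hψ ⟨(y : G), y.2.1⟩ g
  have hinvw : ∀ (r : π.range) (φ : Cfsg.IrrCharacter K),
      ((a (r • φ) : ℤ) * b (r • φ)) = (a φ : ℤ) * b φ := by
    rintro ⟨_, g, rfl⟩ φ
    show ((a (π g φ) : ℤ) * b (π g φ)) = (a φ : ℤ) * b φ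
    have e1 : (a (π g φ) : ℂ) = a φ := by rw [← ha, ← ha, hfix_inner fK hfc]
    have e2 : (b (π g φ) : ℂ) = b φ := by rw [← hb, ← hb, hfix_inner θK hθc]
    rw [Nat.cast_inj.mp e1, Nat.cast_inj.mp e2]
  have hdvd := RealChar.dvd_sum_sub_sum_fixed (R := ℤ) hR
    (fun φ : Cfsg.IrrCharacter K => (a φ : ℤ) * b φ) hinvw
  obtain ⟨φ, hφ⟩ : ∃ φ : MulAction.fixedPoints π.range (Cfsg.IrrCharacter K),
      ¬ (p : ℤ) ∣ (a φ : ℤ) * b φ := by
    by_contra h
    push Not at h
    have hs : (p : ℤ) ∣ ∑ φ : MulAction.fixedPoints π.range (Cfsg.IrrCharacter K),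
        (a φ : ℤ) * b φ := Finset.dvd_sum fun φ _ => h φ
    refine hpX ?_
    have hX' : (X : ℤ) = ∑ φ, (a φ : ℤ) * b φ := by exact_mod_cast hXsum
    rw [hX']
    exact (dvd_sub_left hs).mp hdvd
  refine ⟨E, ((φ : Cfsg.IrrCharacter K) : K → ℂ), hel, htop, (φ : Cfsg.IrrCharacter K).2, ?_,
    b φ, fun h => hφ (dvd_mul_of_dvd_right (Int.natCast_dvd_natCast.mpr h) _), ?_⟩
  · intro g hg x y hxy
    have hf : π (⟨g, hg⟩ : E) (φ : Cfsg.IrrCharacter K) = φ :=
      φ.2 ⟨π ⟨g, hg⟩, ⟨_, rfl⟩⟩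
    have := congrFun (congrArg Subtype.val hf) y
    rw [hπ] at this
    rw [← this]
    refine congrArg ((φ : Cfsg.IrrCharacter K) : K → ℂ) (Subtype.ext ?_)
    rw [hc, hxy]
    push_cast
    group
  · intro hfin
    rw [← hb]
    unfold Cfsg.classInner
    congr 1
    exact Finset.sum_congr (by ext; simp) fun y _ => rfl

end CfsgLib.CharExt
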