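import Cfsg.Agent.Lib.CharExt.Intertwine
import Cfsg.Agent.Lib.CharExt.Dade
import Cfsg.Agent.Lib.CharDeep.LinearExt
import Cfsg.Agent.Lib.Char.CentralOver

/-!
# Extension over a `p`-quotient with central Sylow intersection
-/

set_option autoImplicit false

open scoped ComplexConjugate

namespace CfsgLib.CharExt

open Module

universe u v

section General

variable {G : Type u} [Group G] {N : Subgroup G} [N.Normal]
  {U : Type v} [AddCommGroup U] [Module ℂ U] [FiniteDimensional ℂ U]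
  (σ : Representation ℂ N U) [σ.IsIrreducible]

/-- If `σ` has `m`-dimensional eigenspace for an `E`-invariant linear character of `E ⊓ N`
extendible to `E`, and `E N = G`, then the exponent `m` is split. -/
theorem splits_of_eigenspace (E : Subgroup G) (htop : E ⊔ N = ⊤) (F : E →* ℂˣ)
    (W : Submodule ℂ U)
    (hW : ∀ v, v ∈ W ↔ ∀ (y : N) (hy : (y : G) ∈ E), σ y v = (F ⟨(y : G), hy⟩ : ℂ) • v) :
    Splits σ (finrank ℂ W : ℤ) := by
  classical
  let H : Subgroup (cover σ) := E.comap (proj σ)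
  have hpres : ∀ (h : H), ∀ v ∈ W,
      (((h : cover σ).1.2 : (Module.End ℂ U)ˣ) : Module.End ℂ U) v ∈ W := by
    intro h v hv
    rw [hW]
    intro y hy
    set g := h.1.1.1
    set S : Module.End ℂ U := (((h : cover σ).1.2 : (Module.End ℂ U)ˣ) : Module.End ℂ U)
    have hg : g ∈ E := h.2
    set y' := MulAut.conjNormal (H := N) g⁻¹ y with hy'def
    have hy'E : (y' : G) ∈ E := by
      rw [hy'def, MulAut.conjNormal_apply, inv_inv]
      exact E.mul_mem (E.mul_mem (E.inv_mem hg) hy) hg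
    have hback : MulAut.conjNormal (H := N) g y' = y := by
      rw [hy'def, ← MulAut.mul_apply, ← map_mul, mul_inv_cancel, map_one, MulAut.one_apply]
    have hS : S * σ y' = σ y * S := hback ▸ (h : cover σ).2 y'
    have h2 : σ y (S v) = S (σ y' v) := (LinearMap.congr_fun hS v).symm
    rw [h2, (hW v).mp hv y' hy'E, map_smul]
    have he : (⟨(y' : G), hy'E⟩ : E) = (⟨g, hg⟩ : E)⁻¹ * ⟨(y : G), hy⟩ * ⟨g, hg⟩ := by
      refine Subtype.ext ?_
      simp [hy'def, MulAut.conjNormal_apply]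
    have hF' : F ⟨(y' : G), hy'E⟩ = F ⟨(y : G), hy⟩ := by
      rw [he, map_mul, map_mul, map_inv, mul_comm, mul_inv_cancel_left]
    rw [hF']
  let D : H →* ℂ :=
    { toFun := fun h => LinearMap.det (LinearMap.restrict _ (hpres h))
      map_one' := by
        convert LinearMap.det_id (M := W) using 2
        exact LinearMap.ext fun v => Subtype.ext rfl
      map_mul' := fun a b => by
        rw [← LinearMap.det_comp]
        exact congrArg LinearMap.det (LinearMap.ext fun v => Subtype.ext rfl) }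
  set m := finrank ℂ W
  let q : H →* E := ((proj σ).comp H.subtype).codRestrict E fun h => h.2
  let ψ : H →* ℂˣ := D.toHomUnits * ((F.comp q) ^ m)⁻¹
  have hscalH : ∀ c : ℂˣ, scal σ c ∈ H := fun c => E.one_mem
  have hψscal : ∀ c : ℂˣ, ψ ⟨scal σ c, hscalH c⟩ = c ^ m := by
    intro c
    have hq : q ⟨scal σ c, hscalH c⟩ = 1 := Subtype.ext rfl
    have hD : D ⟨scal σ c, hscalH c⟩ = (c : ℂ) ^ m := by
      show LinearMap.det (LinearMap.restrict _ (hpres ⟨scal σ c, hscalH c⟩)) = _
      rw [show LinearMap.restrict _ (hpres ⟨scal σ c, hscalH c⟩) =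
        (c : ℂ) • (LinearMap.id : W →ₗ[ℂ] W) from LinearMap.ext fun v => Subtype.ext (by
          simp [LinearMap.restrict_apply, scal_val, Algebra.algebraMap_eq_smul_one]),
        LinearMap.det_smul, LinearMap.det_id, mul_one]
    refine Units.ext ?_
    simp only [ψ, MonoidHom.mul_apply, MonoidHom.inv_apply, MonoidHom.pow_apply,
      MonoidHom.comp_apply, hq, map_one, one_pow, inv_one, mul_one, Units.val_pow_eq_pow_val]
    exact hD
  have hψbase : ∀ (y : N) (hy : base σ y ∈ H), ψ ⟨base σ y, hy⟩ = 1 := by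
    intro y hy
    have hyE : (y : G) ∈ E := hy
    have hq : q ⟨base σ y, hy⟩ = ⟨(y : G), hyE⟩ := rfl
    have hD : D ⟨base σ y, hy⟩ = (F ⟨(y : G), hyE⟩ : ℂ) ^ m := by
      show LinearMap.det (LinearMap.restrict _ (hpres ⟨base σ y, hy⟩)) = _
      rw [show LinearMap.restrict _ (hpres ⟨base σ y, hy⟩) =
        (F ⟨(y : G), hyE⟩ : ℂ) • (LinearMap.id : W →ₗ[ℂ] W) from LinearMap.ext fun v => Subtype.ext (by
          simp only [LinearMap.restrict_apply, base_val, LinearMap.smul_apply, LinearMap.id_apply,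
            Submodule.coe_smul]
          exact (hW v).mp v.2 y hyE),
        LinearMap.det_smul, LinearMap.det_id, mul_one]
    simp only [ψ, MonoidHom.mul_apply, MonoidHom.inv_apply, MonoidHom.pow_apply,
      MonoidHom.comp_apply, hq]
    rw [mul_inv_eq_one]
    exact Units.ext (hD.trans (Units.val_pow_eq_pow_val _ _).symm)
  have hdec : ∀ p : cover σ, ∃ (n : N) (h : H), p = base σ n * h := by
    intro p
    have hmem : p.1.1 ∈ N ⊔ E := by rw [sup_comm, htop]; exact Subgroup.mem_top _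
    rw [Subgroup.mem_sup_of_normal_left] at hmem
    obtain ⟨n, hn, e, he, hne⟩ := hmem
    refine ⟨⟨n, hn⟩, ⟨(base σ ⟨n, hn⟩)⁻¹ * p, ?_⟩, (mul_inv_cancel_left _ _).symm⟩
    show n⁻¹ * p.1.1 ∈ E
    rw [← hne, inv_mul_cancel_left]
    exact he
  choose nn hh hp using hdec
  have huniq : ∀ (p : cover σ) (n : N) (h : H), p = base σ n * h → ψ (hh p) = ψ h := by
    intro p n h hph
    have h1 : base σ ((nn p)⁻¹ * n) = ((hh p * h⁻¹ : H) : cover σ) := by
      rw [map_mul, map_inv, Subgroup.coe_mul, Subgroup.coe_inv, inv_mul_eq_iff_eq_mul,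
        ← mul_assoc, ← hp, hph, mul_inv_cancel_right]
    have h2 : base σ ((nn p)⁻¹ * n) ∈ H := h1 ▸ (hh p * h⁻¹).2
    have h3 := hψbase _ h2
    rw [show (⟨base σ ((nn p)⁻¹ * n), h2⟩ : H) = hh p * h⁻¹ from Subtype.ext h1, map_mul, map_inv,
      mul_inv_eq_one] at h3
    exact h3
  refine ⟨{ toFun := fun p => ψ (hh p)
            map_one' := (huniq 1 1 1 (by simp)).trans (map_one ψ)
            map_mul' := fun a b => ?_ }, fun c => ?_, fun n => ?_⟩
  · refine (huniq (a * b)
      (nn a * MulAut.conjNormal (H := N) ((hh a : cover σ).1.1) (nn b)) (hh a * hh b) ?_).trans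
        (map_mul ψ _ _)
    rw [map_mul, ← conj_base, Subgroup.coe_mul]
    conv_lhs => rw [hp a, hp b]
    group
  · rw [zpow_natCast]
    exact (huniq (scal σ c) 1 ⟨scal σ c, hscalH c⟩ (by simp)).trans (hψscal c)
  · exact (huniq (base σ n) n 1 (by simp)).trans (map_one ψ)

end General

section CentralSylow

variable {G : Type u} [Group G] [Fintype G]

/-- An element of order prime to `p` lies in a normal subgroup of `p`-power index. -/
theorem mem_of_coprime_order {p k : ℕ} (N : Subgroup G) [N.Normal] (hk : N.index = p ^ k) (x : G)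
    (hx : Nat.Coprime (orderOf x) p) : x ∈ N := by
  rw [← QuotientGroup.eq_one_iff, ← orderOf_eq_one_iff]
  refine Nat.eq_one_of_dvd_coprimes (hx.pow_right k)
    (orderOf_map_dvd (QuotientGroup.mk' N) x) ?_
  rw [← hk]
  exact orderOf_dvd_natCard (x : G ⧸ N)

/-- A Sylow subgroup and a central element of order prime to `p` with `p`-power index generate. -/
theorem sylow_sup_zpowers {p j : ℕ} [Fact p.Prime] {E : Type*} [Group E] [Finite E] (Q : Sylow p E)
    {x : E} (hx : x ∈ Subgroup.center E) (hj : (Subgroup.zpowers x).index = p ^ j) :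
    (Q : Subgroup E) ⊔ Subgroup.zpowers x = ⊤ := by
  have h1 : ((Q : Subgroup E) ⊔ Subgroup.zpowers x).index ∣ (Q : Subgroup E).index :=
    Subgroup.index_dvd_of_le le_sup_left
  have h2 : ((Q : Subgroup E) ⊔ Subgroup.zpowers x).index ∣ p ^ j :=
    hj ▸ Subgroup.index_dvd_of_le le_sup_right
  have h3 : Nat.Coprime (Q : Subgroup E).index (p ^ j) :=
    Nat.Coprime.pow_right j
      ((Fact.out : p.Prime).coprime_iff_not_dvd.mpr Q.not_dvd_index).symm
  exact Subgroup.index_eq_one.mp (Nat.eq_one_of_dvd_coprimes h3 h1 h2)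

/-- Extension of linear characters through an abelian group. -/
theorem exists_ext_through_abelian {A : Type*} {R : Type u} {P : Type*} [Group A] [CommGroup R]
    [Finite R] [Group P] (φ : A →* P) (i : R →* P) (B : Subgroup A) (ψ : B →* R)
    (hψ : Function.Injective ψ) (hcomp : ∀ b : B, i (ψ b) = φ b)
    (hlin : ∀ lam : R →* ℂˣ, ∃ μ : P →* ℂˣ, ∀ r : R, μ (i r) = lam r) (ν₀ : B →* ℂˣ) :
    ∃ ν : A →* ℂˣ, ∀ b : B, ν b = ν₀ b := by
  let e := MonoidHom.ofInjective hψ
  obtain ⟨l₁, hl₁⟩ := MonoidHom.domRestrict_surjective ℂ ψ.range (ν₀.comp e.symm.toMonoidHom)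
  obtain ⟨μ, hμ⟩ := hlin l₁
  refine ⟨μ.comp φ, fun b => ?_⟩
  have h := DFunLike.congr_fun hl₁ (e b)
  rw [MonoidHom.comp_apply, ← hcomp, hμ]
  exact h.trans (congrArg ν₀ (e.symm_apply_apply b))

/-- Extension over a `p`-quotient when the Sylow intersection is central and its linear characters
extend. -/
theorem exists_extension_central_sylow (p : ℕ) [Fact p.Prime] (N : Subgroup G) [hN : N.Normal]
    (hind : ∃ k : ℕ, N.index = p ^ k) (P : Sylow p G)
    (hcent : ∀ x ∈ (P : Subgroup G) ⊓ N, ∀ y ∈ (P : Subgroup G), x * y = y * x)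
    (hlin : ∀ lam : ↥((P : Subgroup G) ⊓ N) →* ℂˣ, ∃ μ : ↥(P : Subgroup G) →* ℂˣ,
      ∀ x : ↥((P : Subgroup G) ⊓ N), μ ⟨(x : G), x.2.1⟩ = lam x)
    {U : Type v} [AddCommGroup U] [Module ℂ U] [FiniteDimensional ℂ U]
    (σ : Representation ℂ N U) [σ.IsIrreducible]
    (hinv : ∀ (g : G) (n : N), σ.character (MulAut.conjNormal (H := N) g n) = σ.character n) :
    ∃ ρ : Representation ℂ G U, ∀ n : N, ρ (n : G) = σ n := by
  classical
  have hp : p.Prime := Fact.out
  obtain ⟨E, φ, hel, htop, hφ, -, m, hm, hmφ⟩ :=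
    exists_elementary_detection p hp N hind σ.character (Char.isIrrCharacter_character σ) hinv
  obtain ⟨k, hk⟩ := hind
  obtain ⟨x, hx, hxcop, j, hj⟩ := hel
  have hxN : (x : G) ∈ N := mem_of_coprime_order N hk _ (by rwa [Subgroup.orderOf_coe])
  -- a Sylow subgroup of `E`, conjugate into `P`
  obtain ⟨Q⟩ : Nonempty (Sylow p E) := inferInstance
  obtain ⟨Q', hQ'⟩ := (Q.2.map E.subtype).exists_le_sylow
  obtain ⟨g, hg⟩ := MulAction.exists_smul_eq G P Q'
  have hconjQ : ∀ q : E, q ∈ (Q : Subgroup E) → g⁻¹ * (q : G) * g ∈ (P : Subgroup G) := by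
    intro q hq
    have h1 : (q : G) ∈ (Q' : Subgroup G) := hQ' ⟨q, hq, rfl⟩
    rw [← hg] at h1
    rw [Sylow.smul_def] at h1
    obtain ⟨z, hz, hzq⟩ := h1
    rw [← hzq]
    show g⁻¹ * (MulAut.conj g z) * g ∈ (P : Subgroup G)
    rw [MulAut.conj_apply, mul_assoc, inv_mul_cancel_right, ← mul_assoc, inv_mul_cancel, one_mul]
    exact hz
  have hQx : (Q : Subgroup E) ⊔ Subgroup.zpowers x = ⊤ := sylow_sup_zpowers Q hx hj
  have hcentE : ∀ y : ↥(E ⊓ N), (⟨(y : G), y.2.1⟩ : E) ∈ Subgroup.center E := by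
    intro y
    have hnorm : (Subgroup.zpowers x).Normal :=
      ⟨fun a ha c => by
        rw [Subgroup.mem_center_iff.mp (Subgroup.zpowers_le.mpr hx ha) c, mul_inv_cancel_right]
        exact ha⟩
    have hy : (⟨(y : G), y.2.1⟩ : E) ∈ (Q : Subgroup E) ⊔ Subgroup.zpowers x := by
      rw [hQx]; exact Subgroup.mem_top _
    rw [Subgroup.mem_sup_of_normal_right] at hy
    obtain ⟨q, hq, a, ha, hqa⟩ := hy
    rw [← hqa]
    refine Subgroup.mul_mem _ ?_ (Subgroup.zpowers_le.mpr hx ha)
    have hqN : (q : G) ∈ N := by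
      have h1 : q = (⟨(y : G), y.2.1⟩ : E) * a⁻¹ := eq_mul_inv_of_mul_eq hqa
      rw [h1]
      refine N.mul_mem y.2.2 (N.inv_mem ?_)
      obtain ⟨i, rfl⟩ := Subgroup.mem_zpowers_iff.mp ha
      push_cast
      exact zpow_mem hxN i
    rw [Subgroup.mem_center_iff]
    intro e
    have he : e ∈ (Q : Subgroup E) ⊔ Subgroup.zpowers x := by rw [hQx]; exact Subgroup.mem_top _
    rw [Subgroup.mem_sup_of_normal_right] at he
    obtain ⟨q₁, hq₁, a₁, ha₁, rfl⟩ := he
    have hcomm : q₁ * q = q * q₁ := by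
      have hq' : g⁻¹ * (q : G) * g ∈ (P : Subgroup G) ⊓ N :=
        ⟨hconjQ q hq, by simpa using hN.conj_mem _ hqN g⁻¹⟩
      have h := hcent _ hq' _ (hconjQ q₁ hq₁)
      refine Subtype.ext ?_
      push_cast
      calc (q₁ : G) * q = g * ((g⁻¹ * q₁ * g) * (g⁻¹ * q * g)) * g⁻¹ := by group
        _ = g * ((g⁻¹ * q * g) * (g⁻¹ * q₁ * g)) * g⁻¹ := by rw [h]
        _ = (q : G) * q₁ := by group
    have hca : a₁ * q = q * a₁ :=
      (Subgroup.mem_center_iff.mp (Subgroup.zpowers_le.mpr hx ha₁) q).symm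
    rw [mul_assoc, hca, ← mul_assoc, hcomm, mul_assoc]
  -- `φ` is linear
  have habel : ∀ a b : ↥(E ⊓ N), a * b = b * a := fun a b => Subtype.ext
    (congrArg (fun z : E => (z : G)) (Subgroup.mem_center_iff.mp (hcentE b) ⟨(a : G), a.2.1⟩))
  obtain ⟨hφ1, -, -⟩ := CharOver.abelian_irr habel hφ
  obtain ⟨f, hf⟩ := CharDeep.Lin.exists_hom_of_deg_one (Char.IsIrrCharacter.isCharacter hφ) hφ1
  -- extend it to `E`
  let N' : Subgroup E := N.subgroupOf E
  let lam : N' →* ℂˣ := f.comp
    { toFun := fun y => ⟨((y : E) : G), (y : E).2, Subgroup.mem_subgroupOf.mp y.2⟩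
      map_one' := rfl
      map_mul' := fun _ _ => rfl }
  have hN'c : ∀ y : N', (y : E) ∈ Subgroup.center E := fun y =>
    hcentE ⟨((y : E) : G), (y : E).2, Subgroup.mem_subgroupOf.mp y.2⟩
  have hlinv : ∀ (e : E) (n : N'),
      lam ⟨e * n * e⁻¹, (inferInstance : N'.Normal).conj_mem (n : E) n.2 e⟩ = lam n := fun e n => by
    congr 1
    refine Subtype.ext ?_
    show e * (n : E) * e⁻¹ = n
    rw [Subgroup.mem_center_iff.mp (hN'c n) e, mul_inv_cancel_right]
  obtain ⟨F, hF⟩ := CharDeep.Lin.exists_ext_of_sylow lam (fun r hr _ => by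
    by_cases hrp : r = p
    · subst hrp
      refine ⟨(Q : Subgroup E).index, Q.not_dvd_index, ?_⟩
      -- a linear character of `Q` agreeing with `lam` on `Q ⊓ N'`
      let R := ↥((P : Subgroup G) ⊓ N)
      let _ : CommGroup R := { (inferInstance : Group R) with
        mul_comm := fun a b => Subtype.ext (hcent a a.2 b b.2.1) }
      let B : Subgroup (Q : Subgroup E) := N'.subgroupOf (Q : Subgroup E)
      let φQ : (Q : Subgroup E) →* (P : Subgroup G) :=
        (((MulAut.conj g⁻¹).toMonoidHom.comp E.subtype).comp (Q : Subgroup E).subtype).codRestrict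
          (P : Subgroup G) fun y => by
            show g⁻¹ * ((y : E) : G) * g⁻¹⁻¹ ∈ (P : Subgroup G)
            rw [inv_inv]; exact hconjQ y y.2
      have hφQ : ∀ b : B, (φQ b : G) ∈ (P : Subgroup G) ⊓ N := fun b =>
        ⟨(φQ b).2, hN.conj_mem _ (Subgroup.mem_subgroupOf.mp (Subgroup.mem_subgroupOf.mp b.2)) g⁻¹⟩
      let ψQ : B →* R :=
        { toFun := fun b => ⟨(φQ b : G), hφQ b⟩
          map_one' := Subtype.ext (by simp)
          map_mul' := fun a b => Subtype.ext
            ((congrArg (fun z : (P : Subgroup G) => (z : G))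
              (map_mul φQ (a : Q.toSubgroup) b))) }
      obtain ⟨ν, hν₀⟩ := exists_ext_through_abelian φQ (Subgroup.inclusion inf_le_left) B ψQ
        (fun a b h => by
          have h1 : MulAut.conj g⁻¹ (((a : Q.toSubgroup) : E) : G)
              = MulAut.conj g⁻¹ (((b : Q.toSubgroup) : E) : G) := congrArg Subtype.val h
          exact Subtype.ext (Subtype.ext (Subtype.ext ((MulAut.conj g⁻¹).injective h1))))
        (fun b => Subtype.ext rfl) hlin
        (lam.comp
          { toFun := fun b : B => (⟨((b : Q.toSubgroup) : E), Subgroup.mem_subgroupOf.mp b.2⟩ : N')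
            map_one' := rfl
            map_mul' := fun _ _ => rfl })
      have hν : ∀ (y : (Q : Subgroup E)) (hy : (y : E) ∈ N'), ν y = lam ⟨y, hy⟩ := fun y hy =>
        hν₀ ⟨y, Subgroup.mem_subgroupOf.mpr hy⟩
      have key : ∀ (n : N') (k : ℕ) (g₀ : E), g₀⁻¹ * (n : E) ^ k * g₀ = (n : E) ^ k := by
        intro n k g₀
        rw [mul_assoc, ← Subgroup.mem_center_iff.mp (pow_mem (hN'c n) k) g₀, inv_mul_cancel_left]
      refine ⟨MonoidHom.transfer ν, fun n => ?_⟩
      rw [MonoidHom.transfer_eq_pow ν (n : E) (fun k g₀ _ => key n k g₀)]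
      have hmem : (n : E) ^ (Q : Subgroup E).index ∈ N' := pow_mem n.2 _
      rw [hν _ hmem, ← map_pow]
      rfl
    · refine ⟨N'.index, fun hd => ?_,
        CharDeep.Lin.exists_ext_pow_index N' le_rfl lam hlinv lam fun n => rfl⟩
      have h1 : N'.index ∣ N.index := Subgroup.relIndex_dvd_index_of_normal N E
      rw [hk] at h1
      exact hrp ((Nat.prime_dvd_prime_iff_eq hr hp).mp (hr.dvd_of_dvd_pow (hd.trans h1))))
  have hFf : ∀ (y : N) (hy : (y : G) ∈ E), F ⟨(y : G), hy⟩ = f ⟨(y : G), hy, y.2⟩ := fun y hy =>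
    hF ⟨⟨(y : G), hy⟩, Subgroup.mem_subgroupOf.mpr y.2⟩
  -- the eigenspace of `φ`
  let incl : ↥(E ⊓ N) →* N := Subgroup.inclusion inf_le_right
  let ρ' : Representation ℂ ↥(E ⊓ N) U :=
    { toFun := fun y => ((f y)⁻¹ : ℂˣ).val • σ (incl y)
      map_one' := by simp
      map_mul' := fun a b => by
        rw [map_mul, map_mul, mul_inv, Units.val_mul, map_mul, smul_mul_smul_comm] }
  let W : Submodule ℂ U := Representation.invariants ρ'
  have hW : ∀ v, v ∈ W ↔ ∀ (y : N) (hy : (y : G) ∈ E), σ y v = (F ⟨(y : G), hy⟩ : ℂ) • v := by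
    intro v
    show (∀ y : ↥(E ⊓ N), ((f y)⁻¹ : ℂˣ).val • σ (incl y) v = v) ↔ _
    refine ⟨fun h y hy => ?_, fun h y => ?_⟩
    · have h1 := h ⟨(y : G), hy, y.2⟩
      rw [Units.val_inv_eq_inv_val, inv_smul_eq_iff₀ (Units.ne_zero _)] at h1
      rw [hFf y hy]
      exact h1
    · rw [Units.val_inv_eq_inv_val, inv_smul_eq_iff₀ (Units.ne_zero _)]
      have h1 := h (incl y) y.2.1
      rw [hFf (incl y) y.2.1] at h1
      exact h1
  have hdim : Module.finrank ℂ W = m := by
    have : Invertible (Nat.card ↥(E ⊓ N) : ℂ) :=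
      invertibleOfNonzero (Nat.cast_ne_zero.mpr Nat.card_pos.ne')
    have h1 := Representation.card_inv_mul_sum_char_eq_finrank ρ'
    have h2 := @hmφ (Fintype.ofFinite _)
    refine Nat.cast_injective (R := ℂ) (h1.symm.trans (Eq.trans ?_ h2))
    unfold Cfsg.classInner
    congr 1
    refine Finset.sum_congr (by ext; simp) fun y _ => ?_
    rw [← Char.IsIrrCharacter.apply_inv hφ, hf, map_inv]
    show LinearMap.trace ℂ U (((f y)⁻¹ : ℂˣ).val • σ (incl y)) = _
    rw [map_smul, smul_eq_mul, mul_comm]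
    rfl
  refine exists_extension_of_splits σ hinv (splits_one_of_forall_prime σ fun r hr => ?_)
  by_cases hrp : r = p
  · subst hrp
    exact ⟨(m : ℤ), fun h => hm (Int.natCast_dvd_natCast.mp h),
      hdim ▸ splits_of_eigenspace σ E htop F W hW⟩
  · refine ⟨(N.index : ℤ), fun h => hrp ?_,
      splits_index_of_extends σ hinv N le_rfl σ fun n => rfl⟩
    have h1 := Int.natCast_dvd_natCast.mp h
    rw [hk] at h1
    exact (Nat.prime_dvd_prime_iff_eq hr hp).mp (hr.dvd_of_dvd_pow h1)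

end CentralSylow

end CfsgLib.CharExt
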