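import Cfsg.Agent.Lib.Extraspecial.Card
import Cfsg.Agent.Lib.Char.Complete
import Cfsg.Agent.Lib.Char.CentralOver
import Cfsg.Agent.Lib.Char.Linear
import Cfsg.Agent.Lib.Char.Induced
import Cfsg.Agent.Lib.Char.Integral

/-!
# The irreducible characters of an extraspecial group
-/

set_option autoImplicit false

open scoped ComplexConjugate commutatorElement

namespace CfsgLib.CharExt

open Module

universe u

variable {P : Type u} [Group P] {p : ℕ} [Fact p.Prime]

theorem extraspecial_center_cases (hP : Cfsg.IsExtraspecial p P) (A : Subgroup P) {z : P}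
    (hzA : z ∈ A) (hz : z ∈ Subgroup.center P) (hz1 : z ≠ 1) : Subgroup.center P ≤ A := by
  intro w hw
  obtain ⟨k, hk⟩ := Extraspecial.ne_one_isPow hP (z := ⟨z, hz⟩)
    (fun e => hz1 (congrArg Subtype.val e)) ⟨w, hw⟩
  have : z ^ k = w := by simpa using congrArg Subtype.val hk
  exact this ▸ zpow_mem hzA k

variable [Fintype P]

/-- A character nontrivial on the centre vanishes outside it. -/
theorem extraspecial_vanish (hP : Cfsg.IsExtraspecial p P) {χ : P → ℂ}
    (hχ : Cfsg.IsIrrCharacter P χ) (hne : ∃ z ∈ Subgroup.center P, χ z ≠ χ 1) {x : P}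
    (hx : x ∉ Subgroup.center P) : χ x = 0 := by
  have hd : χ 1 ≠ 0 := Char.IsIrrCharacter.apply_one_ne_zero hχ
  obtain ⟨y, hy⟩ : ∃ y, ⁅y, x⁆ ≠ 1 := by
    by_contra hall
    push Not at hall
    exact hx (Subgroup.mem_center_iff.mpr fun y => commutatorElement_eq_one_iff_mul_comm.mp (hall y))
  set c := ⁅y, x⁆ with hc
  have hcZ : c ∈ Subgroup.center P := Extraspecial.commutatorElement_mem_center hP y x
  have hcχ : χ c ≠ χ 1 := by
    intro hcc
    obtain ⟨z, hz, hzne⟩ := hne
    let S : Subgroup P :=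
      { carrier := {g | ∀ a, χ (a * g) = χ a}
        one_mem' := fun a => by rw [mul_one]
        mul_mem' := fun {g h} hg hh a => by rw [← mul_assoc, hh, hg]
        inv_mem' := fun {g} hg a => by
          conv_rhs => rw [← inv_mul_cancel_right a g, hg] }
    have hcS : c ∈ S := fun a => mul_right_cancel₀ hd (by
      rw [CharOver.apply_mul_central hχ hcZ a, hcc])
    have := extraspecial_center_cases hP S hcS hcZ hy hz 1
    rw [one_mul] at this
    exact hzne this
  have h1 : χ (x * c) = χ x := by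
    have e : y * x * y⁻¹ = x * c := by
      rw [Subgroup.mem_center_iff.mp hcZ x, hc, commutatorElement_def]; group
    rw [← e]
    exact Char.IsIrrCharacter.isClassFunction hχ x y
  have h2 := CharOver.apply_mul_central hχ hcZ x
  rw [h1] at h2
  by_contra h0
  exact hcχ (mul_left_cancel₀ h0 h2.symm)

/-- A character nontrivial on the centre has degree `p ^ n`. -/
theorem extraspecial_degree (hP : Cfsg.IsExtraspecial p P) {n : ℕ}
    (hcard : Nat.card P = p ^ (2 * n + 1)) {χ : P → ℂ}
    (hχ : Cfsg.IsIrrCharacter P χ) (hne : ∃ z ∈ Subgroup.center P, χ z ≠ χ 1) :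
    χ 1 = (p : ℂ) ^ n := by
  classical
  have h1 := Char.classInner_irr_self hχ
  obtain ⟨d, -, hd⟩ := Char.IsIrrCharacter.exists_degree hχ
  have hsum : ∑ g : P, χ g * conj (χ g) = (p : ℂ) * (d * d) := by
    rw [← Finset.sum_subset (Finset.subset_univ {g : P | g ∈ Subgroup.center P})]
    · rw [Finset.sum_congr rfl (g := fun _ => (d : ℂ) * d), Finset.sum_const, nsmul_eq_mul]
      · congr 2
        rw [← hP.2, Nat.card_eq_fintype_card, Fintype.card_of_subtype]
        simp
      · intro g hg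
        simp only [Finset.mem_filter, Finset.mem_univ, true_and] at hg
        rw [← Char.IsIrrCharacter.apply_inv hχ,
          ← CharOver.apply_mul_central hχ (inv_mem hg) g, mul_inv_cancel, hd]
    · intro g _ hg
      simp only [Finset.mem_filter, Finset.mem_univ, true_and] at hg
      rw [extraspecial_vanish hP hχ hne hg, zero_mul]
  rw [Cfsg.classInner, hsum, hcard, inv_mul_eq_one₀
    (Nat.cast_ne_zero.mpr (pow_ne_zero _ (Fact.out : p.Prime).ne_zero))] at h1
  have h2 : p ^ (2 * n + 1) = p * (d * d) := by exact_mod_cast h1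
  have h3 : (p ^ n) ^ 2 = d ^ 2 := Nat.eq_of_mul_eq_mul_left (Fact.out : p.Prime).pos (by
    rw [sq d, ← h2]; ring)
  rw [hd, ← (Nat.pow_left_injective (by norm_num) h3)]
  push_cast; ring

/-- A character trivial on the centre is linear. -/
theorem extraspecial_linear (hP : Cfsg.IsExtraspecial p P) {χ : P → ℂ}
    (hχ : Cfsg.IsIrrCharacter P χ) (htriv : ∀ z ∈ Subgroup.center P, χ z = χ 1) : χ 1 = 1 := by
  classical
  have h1 := Char.classInner_irr_self hχ
  obtain ⟨d, ρ, hρ, rfl⟩ := hχ
  haveI := hρ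
  have hker : ∀ z ∈ Subgroup.center P, ρ z = LinearMap.id := fun z hz =>
    (Char.character_eq_degree_iff ρ z).mp (by rw [htriv z hz, Representation.char_one])
  have hcomm : ∀ g h : P, ρ g * ρ h = ρ h * ρ g := by
    intro g h
    have e : g * h = ⁅g, h⁆ * (h * g) := by rw [commutatorElement_def]; group
    rw [← map_mul, ← map_mul, e, map_mul,
      hker _ (Extraspecial.commutatorElement_mem_center hP g h)]
    rfl
  choose a ha using fun g => Char.exists_scalar_of_commute ρ (ρ g) fun h => hcomm g h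
  have hsq : ∀ g, ρ.character g * conj (ρ.character g) = (d : ℂ) * d := by
    intro g
    have h0 := congrArg (LinearMap.trace ℂ (Fin d → ℂ))
      (show ρ g * ρ g⁻¹ = 1 by rw [← map_mul, mul_inv_cancel, map_one])
    rw [ha, ha, smul_mul_smul_comm, mul_one, map_smul, LinearMap.trace_one,
      Module.finrank_fin_fun, smul_eq_mul] at h0
    rw [← Char.character_inv, Representation.character, Representation.character, ha, ha,
      map_smul, map_smul, LinearMap.trace_one, Module.finrank_fin_fun, smul_eq_mul, smul_eq_mul]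
    linear_combination (d : ℂ) * h0
  rw [Cfsg.classInner, Finset.sum_congr rfl fun g _ => hsq g, Finset.sum_const, Finset.card_univ,
    nsmul_eq_mul, ← Nat.card_eq_fintype_card, inv_mul_cancel_left₀
      (Nat.cast_ne_zero.mpr Nat.card_pos.ne')] at h1
  rw [Representation.char_one, Module.finrank_fin_fun]
  have : d * d = 1 := by exact_mod_cast h1
  rw [Nat.eq_one_of_mul_eq_one_right this, Nat.cast_one]

theorem extraspecial_pos (hP : Cfsg.IsExtraspecial p P) {n : ℕ}
    (hcard : Nat.card P = p ^ (2 * n + 1)) : 0 < n := by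
  by_contra h
  obtain rfl : n = 0 := by omega
  obtain ⟨x, y, hxy⟩ := Extraspecial.not_forall_commute hP
  refine hxy (commutatorElement_eq_one_iff_mul_comm.mpr ?_)
  have htop : Subgroup.center P = ⊤ := by
    refine Subgroup.eq_top_of_card_eq _ ?_
    rw [hP.2, hcard]; simp
  have hy : y ∈ Subgroup.center P := htop ▸ Subgroup.mem_top y
  exact Subgroup.mem_center_iff.mp hy x

/-- Degrees and the number of non-linear irreducible characters. -/
theorem extraspecial_count (hP : Cfsg.IsExtraspecial p P) {n : ℕ}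
    (hcard : Nat.card P = p ^ (2 * n + 1)) :
    (∀ χ : Cfsg.IrrCharacter P, (χ : P → ℂ) 1 = 1 ∨ (χ : P → ℂ) 1 = (p : ℂ) ^ n) ∧
      Nat.card {χ : Cfsg.IrrCharacter P // (χ : P → ℂ) 1 = (p : ℂ) ^ n} = p - 1 := by
  classical
  have hp : p.Prime := Fact.out
  have hcases : ∀ χ : Cfsg.IrrCharacter P,
      ((χ : P → ℂ) 1 = 1 ∧ ∀ z ∈ Subgroup.center P, (χ : P → ℂ) z = (χ : P → ℂ) 1) ∨
      ((χ : P → ℂ) 1 = (p : ℂ) ^ n ∧ ∃ z ∈ Subgroup.center P, (χ : P → ℂ) z ≠ (χ : P → ℂ) 1) := by
    intro χ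
    by_cases h : ∃ z ∈ Subgroup.center P, (χ : P → ℂ) z ≠ (χ : P → ℂ) 1
    · exact Or.inr ⟨extraspecial_degree hP hcard χ.2 h, h⟩
    · push Not at h
      exact Or.inl ⟨extraspecial_linear hP χ.2 h, h⟩
  refine ⟨fun χ => (hcases χ).imp (fun h => h.1) (fun h => h.1), ?_⟩
  have hpn : (p : ℂ) ^ n ≠ 1 := by
    exact_mod_cast (Nat.one_lt_pow (extraspecial_pos hP hcard).ne' hp.one_lt).ne'
  let L : Finset (Cfsg.IrrCharacter P) := {χ | (χ : P → ℂ) 1 = 1}
  let B : Finset (Cfsg.IrrCharacter P) := {χ | (χ : P → ℂ) 1 = (p : ℂ) ^ n}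
  have hsplit : ∀ f : Cfsg.IrrCharacter P → ℂ, ∑ χ, f χ = ∑ χ ∈ L, f χ + ∑ χ ∈ B, f χ := by
    intro f
    rw [← Finset.sum_union]
    · refine Finset.sum_congr (Finset.ext fun χ => ?_) fun _ _ => rfl
      rcases hcases χ with h | h <;> simp [L, B, h.1]
    · rw [Finset.disjoint_left]
      intro χ h1 h2
      simp only [L, B, Finset.mem_filter, Finset.mem_univ, true_and] at h1 h2
      exact hpn (h2.symm.trans h1)
  have e1 := Char.sum_apply_one_sq (G := P)
  rw [hsplit, Finset.sum_congr rfl (s₁ := L) (g := fun _ => (1 : ℂ)) (fun χ hχ => by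
      simp only [L, Finset.mem_filter, Finset.mem_univ, true_and] at hχ; rw [hχ, one_pow]),
    Finset.sum_congr rfl (s₁ := B) (g := fun _ => ((p : ℂ) ^ n) ^ 2) (fun χ hχ => by
      simp only [B, Finset.mem_filter, Finset.mem_univ, true_and] at hχ; rw [hχ]),
    Finset.sum_const, Finset.sum_const, nsmul_eq_mul, nsmul_eq_mul, mul_one, hcard] at e1
  -- summing the regular character over the nontrivial central elements
  let Z : Finset P := {z | z ∈ Subgroup.center P ∧ z ≠ 1}
  have hZcard : (Z.card : ℂ) = (p : ℂ) - 1 := by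
    have : Z.card + 1 = p := by
      have hins : insert (1 : P) Z = ({z | z ∈ Subgroup.center P} : Finset P) := by
        ext z
        by_cases hz : z = 1 <;> simp [Z, hz, one_mem]
      rw [← Finset.card_insert_of_notMem (a := (1 : P)) (by simp [Z]), hins, ← hP.2,
        Nat.card_eq_fintype_card, Fintype.card_of_subtype]
      simp
    rw [← this]; push_cast; ring
  have e2 : ∑ χ : Cfsg.IrrCharacter P, (χ : P → ℂ) 1 * ∑ z ∈ Z, (χ : P → ℂ) z = 0 := by
    simp only [Finset.mul_sum]
    rw [Finset.sum_comm]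
    refine Finset.sum_eq_zero fun z hz => ?_
    rw [Char.sum_apply_one_mul, if_neg (Finset.mem_filter.mp hz).2.2]
  have hbig : ∀ χ ∈ B, ∑ z ∈ Z, (χ : P → ℂ) z = -((p : ℂ) ^ n) := by
    intro χ hχ
    simp only [B, Finset.mem_filter, Finset.mem_univ, true_and] at hχ
    obtain ⟨-, z₀, hz₀, hne⟩ := (hcases χ).resolve_left (fun h => hpn (hχ.symm.trans h.1))
    have hsum : ∑ z : Subgroup.center P, (χ : P → ℂ) z = 0 := by
      have h1 : ((χ : P → ℂ) z₀) * ∑ z : Subgroup.center P, (χ : P → ℂ) z =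
          ((χ : P → ℂ) 1) * ∑ z : Subgroup.center P, (χ : P → ℂ) z := by
        rw [Finset.mul_sum, Finset.mul_sum]
        refine Fintype.sum_equiv (Equiv.mulRight ⟨z₀, hz₀⟩) _ _ fun z => ?_
        rw [Equiv.coe_mulRight, Subgroup.coe_mul, mul_comm ((χ : P → ℂ) 1),
          CharOver.apply_mul_central χ.2 hz₀, mul_comm]
      rcases mul_eq_mul_right_iff.mp h1 with h | h
      · exact absurd h hne
      · exact h
    rw [← Finset.sum_subtype ({z | z ∈ Subgroup.center P} : Finset P) (by simp)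
      (fun z => (χ : P → ℂ) z)] at hsum
    rw [show ({z | z ∈ Subgroup.center P} : Finset P) = insert 1 Z by
      ext z; by_cases hz : z = 1 <;> simp [Z, hz, one_mem],
      Finset.sum_insert (by simp [Z]), hχ] at hsum
    linear_combination hsum
  rw [hsplit, Finset.sum_congr rfl (s₁ := L) (g := fun _ => (p : ℂ) - 1) (fun χ hχ => by
      simp only [L, Finset.mem_filter, Finset.mem_univ, true_and] at hχ
      rw [hχ, one_mul, ← hZcard, Finset.sum_congr rfl (g := fun _ => (1 : ℂ)) (fun z hz => ?_)]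
      · simp
      · rcases hcases χ with h | h
        · rw [h.2 z (Finset.mem_filter.mp hz).2.1, h.1]
        · exact absurd (h.1.symm.trans hχ) hpn),
    Finset.sum_congr rfl (s₁ := B) (g := fun _ => -(((p : ℂ) ^ n) ^ 2)) (fun χ hχ => by
      rw [hbig χ hχ]
      simp only [B, Finset.mem_filter, Finset.mem_univ, true_and] at hχ
      rw [hχ]; ring),
    Finset.sum_const, Finset.sum_const, nsmul_eq_mul, nsmul_eq_mul] at e2
  rw [Nat.card_eq_fintype_card, Fintype.card_subtype]
  have key : (B.card : ℂ) = (p : ℂ) - 1 := by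
    have hp0 : ((p : ℂ) ^ (2 * n + 1)) ≠ 0 := pow_ne_zero _ (Nat.cast_ne_zero.mpr hp.ne_zero)
    push_cast at e1
    have : ((B.card : ℂ) - ((p : ℂ) - 1)) * (p : ℂ) ^ (2 * n + 1) = 0 := by
      linear_combination ((p : ℂ) - 1) * e1 - e2
    exact sub_eq_zero.mp ((mul_eq_zero.mp this).resolve_right hp0)
  have : B.card + 1 = p := by exact_mod_cast (show (B.card : ℂ) + 1 = p by rw [key]; ring)
  show B.card = p - 1
  omega

/-- Induction from a maximal abelian subgroup. -/
theorem extraspecial_induced (hP : Cfsg.IsExtraspecial p P) {n : ℕ}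
    (hcard : Nat.card P = p ^ (2 * n + 1)) (A : Subgroup P) (hA : Nat.card A = p ^ (n + 1))
    {lam : A → ℂ} (hlam : Cfsg.IsCharacter A lam) (hlam1 : lam 1 = 1)
    (hZ : ∃ a : A, (a : P) ∈ Subgroup.center P ∧ lam a ≠ 1) :
    Cfsg.IsIrrCharacter P (Cfsg.indFun A lam) ∧
      ∀ x : P, x ∉ Subgroup.center P → Cfsg.indFun A lam x = 0 := by
  classical
  have hp : p.Prime := Fact.out
  obtain ⟨a, haZ, ha⟩ := hZ
  have hlirr : Cfsg.IsIrrCharacter A lam := by
    obtain ⟨f, hf⟩ := Char.IsCharacter.exists_linear hlam hlam1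
    rw [show lam = fun g => (f g : ℂ) from funext hf]
    exact Char.isIrrCharacter_linear f
  have hidx : A.index = p ^ n := by
    have h := A.card_mul_index
    rw [hA, hcard, show 2 * n + 1 = (n + 1) + n by ring, pow_add p (n + 1) n] at h
    exact Nat.eq_of_mul_eq_mul_left (pow_pos hp.pos _) h
  set θ := Cfsg.indFun A lam with hθdef
  have hθ : Cfsg.IsCharacter P θ := Char.IsCharacter.indFun A hlam
  have hθ1 : θ 1 = (p : ℂ) ^ n := by
    rw [hθdef, Char.indFun_apply_one, hlam1, mul_one, hidx, Nat.cast_pow]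
  obtain ⟨m, hm⟩ := Char.IsCharacter.exists_nat_combination hθ
  have hcon : ∀ χ : Cfsg.IrrCharacter P, m χ ≠ 0 →
      ∃ z ∈ Subgroup.center P, (χ : P → ℂ) z ≠ (χ : P → ℂ) 1 := by
    intro χ hχ
    by_contra htriv
    push Not at htriv
    have h1 := extraspecial_linear hP χ.2 htriv
    have hres : Cfsg.classInner lam (fun x : A => (χ : P → ℂ) x) = (m χ : ℂ) := by
      rw [← Char.classInner_indFun A lam (χ : P → ℂ) (Char.IsIrrCharacter.isClassFunction χ.2),
        ← hθdef, hm, Char.classInner_sum_smul_irr (fun ψ => (m ψ : ℂ)) χ]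
    obtain ⟨f, hf⟩ := Char.IsCharacter.exists_linear (Char.IsIrrCharacter.isCharacter χ.2) h1
    have hr : Cfsg.IsIrrCharacter A (fun x : A => (χ : P → ℂ) x) := by
      rw [show (fun x : A => (χ : P → ℂ) x) = fun x : A => ((f.comp A.subtype) x : ℂ) from
        funext fun x => hf _]
      exact Char.isIrrCharacter_linear _
    rw [Char.classInner_irr_of_ne hlirr hr (fun e => ha (by
      rw [congrFun e a, htriv _ haZ, h1]))] at hres
    exact hχ (by exact_mod_cast hres.symm)
  have hdeg : ∀ χ : Cfsg.IrrCharacter P, (m χ : ℂ) * (χ : P → ℂ) 1 = (m χ : ℂ) * (p : ℂ) ^ n := by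
    intro χ
    by_cases hχ : m χ = 0
    · simp [hχ]
    · rw [extraspecial_degree hP hcard χ.2 (hcon χ hχ)]
  have hsum : ∑ χ, m χ = 1 := by
    have h1 := congrFun hm 1
    rw [hθ1, Finset.sum_apply] at h1
    simp only [Pi.smul_apply, smul_eq_mul] at h1
    rw [Finset.sum_congr rfl fun χ _ => hdeg χ, ← Finset.sum_mul] at h1
    have h2 : (∑ χ, (m χ : ℂ)) = 1 := by
      have := mul_right_cancel₀ (pow_ne_zero n (Nat.cast_ne_zero.mpr hp.ne_zero))
        ((one_mul _).trans h1)
      exact this.symm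
    exact_mod_cast h2
  obtain ⟨χ, -, hχ⟩ := Finset.exists_ne_zero_of_sum_ne_zero (by rw [hsum]; exact one_ne_zero)
  have hothers : ∀ ψ, ψ ≠ χ → m ψ = 0 := by
    intro ψ hψ
    have h1 := Finset.add_sum_erase Finset.univ m (Finset.mem_univ χ)
    have h2 := Finset.single_le_sum (f := m) (fun i _ => Nat.zero_le _)
      (Finset.mem_erase.mpr ⟨hψ, Finset.mem_univ ψ⟩)
    have h3 : 0 < m χ := Nat.pos_of_ne_zero hχ
    omega
  have heq : θ = (χ : P → ℂ) := by
    have h4 : m χ = 1 := by
      rw [← hsum, Finset.sum_eq_single χ (fun ψ _ h => hothers ψ h) (by simp)]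
    rw [hm, Finset.sum_eq_single χ (fun ψ _ h => by rw [hothers ψ h]; simp) (by simp), h4]
    simp
  rw [heq]
  exact ⟨χ.2, fun x hx => extraspecial_vanish hP χ.2 (hcon χ hχ) hx⟩

end CfsgLib.CharExt
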