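import Mathlib

/-!
# The integer matrix of restrictions of exceptional characters to a Frobenius kernel

Coherence for an integer matrix `c` whose Gram matrix is a partition matrix plus a multiple of a
rank one matrix, and the contradiction available when all columns are far from self-conjugate.
-/

set_option autoImplicit false

open Finset

namespace CfsgLib.FeitBlock

open scoped Classical in
/-- The indicator of a proposition. -/
noncomputable def ind (P : Prop) : ℤ := if P then 1 else 0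

theorem ind_pos {P : Prop} (h : P) : ind P = 1 := by simp [ind, h]

theorem ind_neg {P : Prop} (h : ¬ P) : ind P = 0 := by simp [ind, h]

theorem sum_ind_mul {R : Type*} [Fintype R] (A : R) (f : R → ℤ) :
    ∑ χ, ind (χ = A) * f χ = f A := by
  classical
  simp [ind, ite_mul, Finset.sum_ite_eq']

theorem dot_ind {R : Type*} [Fintype R] (A : R) (a : ℤ) (f g : R → ℤ) :
    ∑ χ, (a * ind (χ = A) + f χ) * g χ = a * g A + ∑ χ, f χ * g χ := by
  simp only [add_mul, Finset.sum_add_distrib, mul_assoc, ← Finset.mul_sum, sum_ind_mul]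

theorem dot_ind' {R : Type*} [Fintype R] (A : R) (a : ℤ) (f g : R → ℤ) :
    ∑ χ, f χ * (a * ind (χ = A) + g χ) = a * f A + ∑ χ, f χ * g χ := by
  simp only [mul_comm (f _) (_ + _)]
  rw [dot_ind]
  simp only [mul_comm]

/-- The restriction matrix. -/
structure Block (R Θ : Type*) [Fintype R] [Fintype Θ] where
  c : R → Θ → ℤ
  v : Θ → ℤ
  rel : Θ → Θ → Prop
  k : ℤ
  e : ℕ
  D : R → ℤ
  nonneg : ∀ χ θ, 0 ≤ c χ θ
  one_le : ∀ θ, 1 ≤ v θ
  rel_equiv : Equivalence rel
  rel_v : ∀ θ θ', rel θ θ' → v θ = v θ'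
  fiber : ∀ θ, Nat.card {θ' : Θ // rel θ θ'} = e
  orth : ∀ θ θ', ∑ χ, c χ θ * c χ θ' = ind (rel θ θ') + k * (v θ * v θ')
  deg : ∀ χ, D χ = ∑ θ, v θ * c χ θ
  D_pos : ∀ χ, 0 < D χ
  k_pos : 0 < k

variable {R Θ : Type*} [Fintype R] [Fintype Θ] (B : Block R Θ)

open Classical in
/-- The columns of degree one. -/
noncomputable def Block.lin : Finset Θ := {θ | B.v θ = 1}

theorem Block.mem_lin {θ : Θ} : θ ∈ B.lin ↔ B.v θ = 1 := by simp [Block.lin]

theorem Block.col_eq {θ θ' : Θ} (h : B.rel θ θ') (χ : R) : B.c χ θ = B.c χ θ' := by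
  have h0 : ∑ χ, (B.c χ θ - B.c χ θ') ^ 2 = 0 := by
    simp only [show ∀ a b : ℤ, (a - b) ^ 2 = a * a + b * b - 2 * (a * b) from fun a b => by ring,
      Finset.sum_add_distrib, Finset.sum_sub_distrib, ← Finset.mul_sum, B.orth, ind_pos h,
      ind_pos (B.rel_equiv.refl θ), ind_pos (B.rel_equiv.refl θ'), B.rel_v θ θ' h]
    ring
  have h1 := (Finset.sum_eq_zero_iff_of_nonneg fun χ _ => sq_nonneg _).mp h0 χ (Finset.mem_univ _)
  linarith [pow_eq_zero_iff (two_ne_zero) |>.mp h1]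

/-- Two integer entries of opposite sign. -/
theorem norm_two (D f : R → ℤ) (hD : ∀ χ, 0 < D χ) (h2 : ∑ χ, f χ ^ 2 = 2)
    (h0 : ∑ χ, D χ * f χ = 0) :
    ∃ A A' : R, A ≠ A' ∧ ∀ χ, f χ = ind (χ = A) - ind (χ = A') := by
  classical
  have hne : ∃ χ, f χ ≠ 0 := by
    by_contra h
    push Not at h
    simp [h] at h2
  obtain ⟨A, hA⟩ : ∃ A, 0 < f A := by
    by_contra h
    push Not at h
    obtain ⟨χ, hχ⟩ := hne
    have := Finset.single_le_sum (f := fun χ => -(D χ * f χ))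
      (fun x _ => by nlinarith [h x, hD x]) (Finset.mem_univ χ)
    simp only [Finset.sum_neg_distrib, h0, neg_zero] at this
    exact hχ (le_antisymm (h χ) (by nlinarith [hD χ]))
  obtain ⟨A', hA'⟩ : ∃ A', f A' < 0 := by
    by_contra h
    push Not at h
    obtain ⟨χ, hχ⟩ := hne
    have := Finset.single_le_sum (f := fun χ => D χ * f χ)
      (fun x _ => by nlinarith [h x, hD x]) (Finset.mem_univ χ)
    simp only [h0] at this
    exact hχ (le_antisymm (by nlinarith [hD χ]) (h χ))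
  have hAA : A ≠ A' := fun h => by rw [h] at hA; linarith
  rw [← Finset.add_sum_erase _ _ (Finset.mem_univ A),
    ← Finset.add_sum_erase _ _ (Finset.mem_erase.mpr ⟨hAA.symm, Finset.mem_univ A'⟩)] at h2
  have hrest : 0 ≤ ∑ χ ∈ (univ.erase A).erase A', f χ ^ 2 := Finset.sum_nonneg fun χ _ => sq_nonneg _
  have e1 : f A = 1 := by nlinarith
  have e2 : f A' = -1 := by nlinarith
  have e3 : ∑ χ ∈ (univ.erase A).erase A', f χ ^ 2 = 0 := by rw [e1, e2] at h2; linarith
  refine ⟨A, A', hAA, fun χ => ?_⟩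
  by_cases h1 : χ = A
  · rw [ind_pos h1, ind_neg (h1 ▸ hAA), h1, e1]; rfl
  by_cases h3 : χ = A'
  · rw [ind_neg h1, ind_pos h3, h3, e2]; rfl
  rw [ind_neg h1, ind_neg h3, sub_zero]
  exact pow_eq_zero_iff two_ne_zero |>.mp ((Finset.sum_eq_zero_iff_of_nonneg fun χ _ => sq_nonneg _).mp
    e3 χ (Finset.mem_erase.mpr ⟨h3, Finset.mem_erase.mpr ⟨h1, Finset.mem_univ _⟩⟩))

/-- Columns of degree one differ from a fixed one by signed pairs with a common member. -/
theorem Block.linear_coherent (hL : 2 * B.e < B.lin.card) :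
    ∃ (ε η : ℤ) (X : Θ → R) (y : R → ℤ), (ε = 1 ∨ ε = -1) ∧
      (∀ θ ∈ B.lin, ∀ χ, B.c χ θ = ε * ind (χ = X θ) + y χ) ∧
      (∀ θ ∈ B.lin, y (X θ) = η) ∧ ∑ χ, y χ ^ 2 = B.k - 2 * ε * η ∧
      (∀ θ ∈ B.lin, ∀ θ' ∈ B.lin, X θ = X θ' → B.rel θ θ') := by
  classical
  have hcl : ∀ θ, ({θ' | B.rel θ θ'} : Finset Θ).card = B.e := by
    intro θ
    rw [← B.fiber θ, Nat.card_eq_fintype_card, Fintype.card_subtype]
  obtain ⟨i, hi⟩ := Finset.card_pos.mp (lt_of_le_of_lt (Nat.zero_le _) hL)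
  obtain ⟨l, hl, hli⟩ := Finset.exists_mem_notMem_of_card_lt_card
    (show ({θ' | B.rel i θ'} : Finset Θ).card < B.lin.card by rw [hcl]; omega)
  obtain ⟨o, ho, ho'⟩ := Finset.exists_mem_notMem_of_card_lt_card
    (show (({θ' | B.rel i θ'} : Finset Θ) ∪ ({θ' | B.rel l θ'} : Finset Θ)).card < B.lin.card by
      refine lt_of_le_of_lt (Finset.card_union_le _ _) ?_
      rw [hcl, hcl]; omega)
  simp only [Finset.mem_union, Finset.mem_filter, Finset.mem_univ, true_and, not_or] at hli ho'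
  rw [B.mem_lin] at hi hl ho
  let f : Θ → R → ℤ := fun m χ => B.c χ i - B.c χ m
  have hdot : ∀ m n, B.v m = 1 → B.v n = 1 → ¬ B.rel i m → ¬ B.rel i n →
      ∑ χ, f m χ * f n χ = 1 + ind (B.rel m n) := by
    intro m n hm hn him hin
    simp only [f, sub_mul, mul_sub, Finset.sum_sub_distrib, B.orth, hi, hm, hn,
      ind_pos (B.rel_equiv.refl i), ind_neg him, ind_neg hin,
      ind_neg (fun h => him (B.rel_equiv.symm h))]
    ring
  have hDc : ∀ θ, ∑ χ, B.D χ * B.c χ θ = B.v θ * ((B.e : ℤ) + B.k * ∑ θ', B.v θ' ^ 2) := by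
    intro θ
    simp only [B.deg, Finset.sum_mul, mul_assoc]
    rw [Finset.sum_comm]
    simp only [← Finset.mul_sum, B.orth, mul_add, Finset.sum_add_distrib]
    congr 1
    · rw [← hcl θ]
      simp only [Finset.card_eq_sum_ones, Nat.cast_sum, Nat.cast_one, Finset.mul_sum]
      rw [Finset.sum_filter]
      refine Finset.sum_congr rfl fun θ' _ => ?_
      by_cases h : B.rel θ θ'
      · rw [if_pos h, ind_pos (B.rel_equiv.symm h), B.rel_v θ θ' h]
      · rw [if_neg h, ind_neg (fun h' => h (B.rel_equiv.symm h')), mul_zero]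
    · simp only [Finset.mul_sum]
      exact Finset.sum_congr rfl fun θ' _ => by ring
  have hf : ∀ m, B.v m = 1 → ¬ B.rel i m →
      ∃ A A' : R, A ≠ A' ∧ ∀ χ, f m χ = ind (χ = A) - ind (χ = A') := by
    intro m hm him
    refine norm_two B.D (f m) B.D_pos ?_ ?_
    · simp only [pow_two, hdot m m hm hm him him, ind_pos (B.rel_equiv.refl m)]
      rfl
    · simp only [f, mul_sub, Finset.sum_sub_distrib, hDc, hi, hm, sub_self]
  -- two such pairs share exactly one member, on the same side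
  have hshare : ∀ A A' C C' : R, A ≠ A' → C ≠ C' →
      ∑ χ, (ind (χ = A) - ind (χ = A')) * (ind (χ = C) - ind (χ = C')) = 1 →
      (A = C ∧ A' ≠ C') ∨ (A ≠ C ∧ A' = C') := by
    intro A A' C C' h1 h2 h
    simp only [sub_mul, Finset.sum_sub_distrib, sum_ind_mul] at h
    by_cases e1 : A = C <;> by_cases e2 : A' = C' <;> by_cases e3 : A = C' <;>
      by_cases e4 : A' = C <;> simp_all [ind]
  obtain ⟨A, A', hA, hfl⟩ := hf l hl hli
  obtain ⟨C, C', hC, hfo⟩ := hf o ho ho'.1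
  have hlo : ∑ χ, (ind (χ = A) - ind (χ = A')) * (ind (χ = C) - ind (χ = C')) = 1 := by
    simp only [← hfl, ← hfo, hdot l o hl ho hli ho'.1, ind_neg ho'.2, add_zero]
  -- the sign and the common member
  obtain ⟨ε, X0, hε, hall⟩ : ∃ (ε : ℤ) (X0 : R), (ε = 1 ∨ ε = -1) ∧ ∀ m, B.v m = 1 → ¬ B.rel i m →
      ∃ Xm, Xm ≠ X0 ∧ ∀ χ, f m χ = ε * (ind (χ = X0) - ind (χ = Xm)) := by
    have hdotm : ∀ m, B.v m = 1 → ¬ B.rel i m → ∀ P P' : R, (∀ χ, f m χ = ind (χ = P) - ind (χ = P')) →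
        ∀ n, B.v n = 1 → ¬ B.rel i n → ¬ B.rel m n → ∀ Q Q' : R,
          (∀ χ, f n χ = ind (χ = Q) - ind (χ = Q')) → P ≠ P' → Q ≠ Q' →
          (P = Q ∧ P' ≠ Q') ∨ (P ≠ Q ∧ P' = Q') := by
      intro m hm him P P' hP n hn hin hmn Q Q' hQ h1 h2
      refine hshare P P' Q Q' h1 h2 ?_
      simp only [← hP, ← hQ, hdot m n hm hn him hin, ind_neg hmn, add_zero]
    have hsame : ∀ m, B.rel l m → ∀ χ, f m χ = f l χ := fun m h χ => by
      simp only [f, B.col_eq h χ]
    have hsameo : ∀ m, B.rel o m → ∀ χ, f m χ = f o χ := fun m h χ => by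
      simp only [f, B.col_eq h χ]
    rcases hshare A A' C C' hA hC hlo with ⟨e1, e2⟩ | ⟨e1, e2⟩
    · refine ⟨1, A, Or.inl rfl, fun m hm him => ?_⟩
      by_cases h1 : B.rel l m
      · exact ⟨A', hA.symm, fun χ => by rw [hsame m h1, hfl, one_mul]⟩
      by_cases h2 : B.rel o m
      · exact ⟨C', e1 ▸ hC.symm, fun χ => by rw [hsameo m h2, hfo, one_mul, e1]⟩
      obtain ⟨P, P', hP, hfm⟩ := hf m hm him
      have d1 := hdotm l hl hli A A' hfl m hm him h1 P P' hfm hA hP
      have d2 := hdotm o ho ho'.1 C C' hfo m hm him h2 P P' hfm hC hP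
      have hPA : P = A := by
        rcases d1 with ⟨a1, -⟩ | ⟨a1, a2⟩
        · exact a1.symm
        · rcases d2 with ⟨b1, -⟩ | ⟨-, b2⟩
          · exact absurd (e1.trans b1) a1
          · exact absurd (a2.trans b2.symm) e2
      exact ⟨P', hPA ▸ hP.symm, fun χ => by rw [hfm, one_mul, hPA]⟩
    · refine ⟨-1, A', Or.inr rfl, fun m hm him => ?_⟩
      by_cases h1 : B.rel l m
      · exact ⟨A, hA, fun χ => by rw [hsame m h1, hfl]; ring⟩
      by_cases h2 : B.rel o m
      · exact ⟨C, e2 ▸ hC, fun χ => by rw [hsameo m h2, hfo, e2]; ring⟩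
      obtain ⟨P, P', hP, hfm⟩ := hf m hm him
      have d1 := hdotm l hl hli A A' hfl m hm him h1 P P' hfm hA hP
      have d2 := hdotm o ho ho'.1 C C' hfo m hm him h2 P P' hfm hC hP
      have hPA : P' = A' := by
        rcases d1 with ⟨a1, a2⟩ | ⟨-, a2⟩
        · rcases d2 with ⟨b1, -⟩ | ⟨-, b2⟩
          · exact absurd (a1.trans b1.symm) e1
          · exact absurd (e2.trans b2) a2
        · exact a2.symm
      exact ⟨P, hPA ▸ hP, fun χ => by rw [hfm, hPA]; ring⟩
  choose Xm hXm hfX using hall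
  have hε2 : ε * ε = 1 := by rcases hε with h | h <;> rw [h] <;> rfl
  let X : Θ → R := fun θ =>
    if h : B.v θ = 1 ∧ ¬ B.rel i θ then Xm θ h.1 h.2 else X0
  let y : R → ℤ := fun χ => B.c χ i - ε * ind (χ = X0)
  have hcX : ∀ θ ∈ B.lin, ∀ χ, B.c χ θ = ε * ind (χ = X θ) + y χ := by
    intro θ hθ χ
    rw [B.mem_lin] at hθ
    by_cases hr : B.rel i θ
    · have hX : X θ = X0 := dif_neg fun h => h.2 hr
      simp only [y, hX, ← B.col_eq hr χ]
      ring
    · have hX : X θ = Xm θ hθ hr := dif_pos ⟨hθ, hr⟩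
      have := hfX θ hθ hr χ
      simp only [f] at this
      simp only [y, hX]
      linarith
  have hnorm : ∀ θ ∈ B.lin, 2 * ε * y (X θ) = B.k - ∑ χ, y χ ^ 2 := by
    intro θ hθ
    have h1 := B.orth θ θ
    simp only [hcX θ hθ] at h1
    rw [dot_ind, dot_ind', ind_pos (rfl : X θ = X θ), ind_pos (B.rel_equiv.refl θ),
      B.mem_lin.mp hθ] at h1
    simp only [pow_two]
    linear_combination h1 - hε2
  have hi' : i ∈ B.lin := B.mem_lin.mpr hi
  refine ⟨ε, y (X i), X, y, hε, hcX, fun θ hθ => ?_, ?_, fun θ hθ θ' hθ' hX => ?_⟩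
  · have h1 := (hnorm θ hθ).trans (hnorm i hi').symm
    rcases hε with h | h <;> rw [h] at h1 <;> linarith
  · linarith [hnorm i hi']
  · by_contra hr
    have h1 := B.orth θ θ'
    have h2 := B.orth θ θ
    have hcc : ∀ χ, B.c χ θ' = B.c χ θ := fun χ => by rw [hcX θ hθ, hcX θ' hθ', hX]
    simp only [hcc, ind_neg hr, ind_pos (B.rel_equiv.refl θ), B.mem_lin.mp hθ,
      B.mem_lin.mp hθ'] at h1 h2
    linarith

open Classical in
theorem Block.sum_comp_le (S : Finset Θ) (X : Θ → R)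
    (hX : ∀ θ ∈ S, ∀ θ' ∈ S, X θ = X θ' → B.rel θ θ') (g : R → ℤ) (hg : ∀ χ, 0 ≤ g χ) :
    ∑ θ ∈ S, g (X θ) ≤ (B.e : ℤ) * ∑ χ, g χ := by
  rw [← Finset.sum_fiberwise S X fun θ => g (X θ), Finset.mul_sum]
  refine Finset.sum_le_sum fun χ _ => ?_
  rw [Finset.sum_congr rfl fun θ hθ => congrArg g (Finset.mem_filter.mp hθ).2, Finset.sum_const,
    nsmul_eq_mul]
  refine mul_le_mul_of_nonneg_right ?_ (hg χ)
  rcases Finset.eq_empty_or_nonempty (S.filter fun θ => X θ = χ) with h | ⟨θ₀, hθ₀⟩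
  · rw [h]; simp
  · rw [Finset.mem_filter] at hθ₀
    rw [← B.fiber θ₀, Nat.card_eq_fintype_card, Fintype.card_subtype]
    exact_mod_cast Finset.card_le_card fun θ hθ => Finset.mem_filter.mpr
      ⟨Finset.mem_univ _, hX θ₀ hθ₀.1 θ (Finset.mem_filter.mp hθ).1
        (hθ₀.2.trans (Eq.symm (Finset.mem_filter.mp hθ).2))⟩

/-- All columns of degree one: some row is constant, so its degree is a multiple of the mass. -/
theorem Block.abelian_end (hab : ∀ θ, B.v θ = 1) (hL : 2 * B.e < Fintype.card Θ)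
    (hR : Fintype.card Θ < B.e * Fintype.card R) : ∃ χ, (∑ θ, B.v θ ^ 2) ∣ B.D χ := by
  classical
  have hlin : B.lin = Finset.univ := by ext θ; simp [B.mem_lin, hab]
  obtain ⟨ε, η, X, y, hε, hc, -, -, hinj⟩ := B.linear_coherent (by rwa [hlin])
  obtain ⟨χ, hχ⟩ : ∃ χ, ∀ θ, X θ ≠ χ := by
    by_contra hsurj
    push Not at hsurj
    have h1 : ∀ χ : R, B.e ≤ ({θ | X θ = χ} : Finset Θ).card := by
      intro χ
      obtain ⟨θ₀, rfl⟩ := hsurj χ
      rw [← B.fiber θ₀, Nat.card_eq_fintype_card, Fintype.card_subtype]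
      refine Finset.card_le_card fun θ hθ => ?_
      simp only [Finset.mem_filter, Finset.mem_univ, true_and] at hθ ⊢
      have hsym := B.col_eq hθ (X θ)
      by_contra hne
      have h2 := hc θ (by simp [hlin]) (X θ)
      have h3 := hc θ₀ (by simp [hlin]) (X θ)
      rw [← hsym, ind_pos rfl] at h2
      rw [ind_neg hne] at h3
      rcases hε with h | h <;> rw [h] at h2 h3 <;> linarith
    have h2 := Finset.sum_le_sum (s := (Finset.univ : Finset R)) fun χ _ => h1 χ
    rw [← Finset.card_eq_sum_card_fiberwise (f := X) (s := (Finset.univ : Finset Θ))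
      (fun θ _ => Finset.mem_univ _), Finset.sum_const, Finset.card_univ, Finset.card_univ,
      smul_eq_mul, mul_comm] at h2
    omega
  refine ⟨χ, y χ, ?_⟩
  rw [B.deg, Finset.sum_mul]
  refine Finset.sum_congr rfl fun θ _ => ?_
  rw [hc θ (by simp [hlin]), ind_neg (fun h => hχ θ h.symm), hab]
  ring

/-- Coherence by induction on the degree: some row is proportional to the degrees. -/
theorem Block.coherent_end (hL : (B.e : ℤ) * (B.k + 2) < B.lin.card)
    (hdeg : ∀ θ, 2 ≤ B.v θ → (B.e : ℤ) * (2 * B.v θ + 2) ≤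
      ∑ θ' ∈ Finset.univ.filter (fun θ' => B.v θ' < B.v θ), B.v θ' ^ 2) :
    ∃ χ, (∑ θ, B.v θ ^ 2) ∣ B.D χ := by
  classical
  have hk := B.k_pos
  obtain ⟨ε, η, X₁, y, hε, hc, hy, hyn, hinj⟩ := B.linear_coherent (by
    have : (B.e : ℤ) * 2 ≤ (B.e : ℤ) * (B.k + 2) :=
      mul_le_mul_of_nonneg_left (by linarith) (Nat.cast_nonneg _)
    omega)
  -- `η = 0` and `ε = 1`
  have hη : η = 0 := by
    by_contra hη
    have h1 := B.sum_comp_le B.lin X₁ hinj (fun χ => y χ ^ 2) fun χ => sq_nonneg _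
    rw [Finset.sum_congr rfl fun θ hθ => by rw [hy θ hθ], Finset.sum_const, nsmul_eq_mul, hyn] at h1
    have h2 : 1 ≤ η ^ 2 := by
      rcases lt_or_gt_of_ne hη with h | h <;> nlinarith
    have h3 : -2 * ε * η ≤ 2 * η ^ 2 := by
      rcases hε with h | h <;> rw [h] <;> rcases lt_or_gt_of_ne hη with h' | h' <;> nlinarith
    have h4 : (B.e : ℤ) * (B.k + 2) * η ^ 2 < (B.lin.card : ℤ) * η ^ 2 :=
      mul_lt_mul_of_pos_right hL (by linarith)
    have h5 : (B.e : ℤ) * (B.k - 2 * ε * η) ≤ (B.e : ℤ) * ((B.k + 2) * η ^ 2) :=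
      mul_le_mul_of_nonneg_left (by nlinarith) (Nat.cast_nonneg _)
    linarith
  subst hη
  obtain ⟨i, hi⟩ : B.lin.Nonempty := Finset.card_pos.mp (by
    have : 0 ≤ (B.e : ℤ) * (B.k + 2) := mul_nonneg (Nat.cast_nonneg _) (by linarith)
    omega)
  have hε1 : ε = 1 := by
    rcases hε with h | h
    · exact h
    · have h1 := B.nonneg (X₁ i) i
      rw [hc i hi, hy i hi, ind_pos rfl, h] at h1
      linarith
  subst hε1
  simp only [one_mul, mul_zero, sub_zero] at hc hyn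
  -- every column
  have hall : ∀ (n : ℕ) (θ : Θ), (B.v θ).toNat = n →
      ∃ x : R, y x = 0 ∧ ∀ χ, B.c χ θ = ind (χ = x) + B.v θ * y χ := by
    intro n
    induction n using Nat.strong_induction_on with
    | _ n ih =>
      intro θ hn
      by_cases hθ1 : B.v θ = 1
      · exact ⟨X₁ θ, hy θ (B.mem_lin.mpr hθ1), fun χ => by
          rw [hc θ (B.mem_lin.mpr hθ1), hθ1, one_mul]⟩
      have hv2 : 2 ≤ B.v θ := by have := B.one_le θ; omega
      let S : Finset Θ := Finset.univ.filter fun θ' => B.v θ' < B.v θ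
      have hS : ∀ θ' ∈ S, ∃ x : R, y x = 0 ∧ ∀ χ, B.c χ θ' = ind (χ = x) + B.v θ' * y χ := by
        intro θ' hθ'
        have h1 : B.v θ' < B.v θ := (Finset.mem_filter.mp hθ').2
        exact ih _ (by have := B.one_le θ'; omega) θ' rfl
      haveI : Nonempty R := ⟨X₁ i⟩
      choose! X hXy hXc using hS
      have hiS : i ∈ S := Finset.mem_filter.mpr ⟨Finset.mem_univ _, by
        rw [B.mem_lin.mp hi]; omega⟩
      let w : R → ℤ := fun χ => B.c χ θ - B.v θ * y χ
      set P : ℤ := ∑ χ, B.c χ θ * y χ with hP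
      have hne : ∀ θ' ∈ S, ¬ B.rel θ θ' := fun θ' hθ' h => by
        have := (Finset.mem_filter.mp hθ').2
        rw [B.rel_v θ θ' h] at this
        exact lt_irrefl _ this
      have hxX : ∀ θ' ∈ S, B.c (X θ') θ + B.v θ' * P = B.k * (B.v θ * B.v θ') := by
        intro θ' hθ'
        have h1 := B.orth θ θ'
        rw [ind_neg (hne θ' hθ'), zero_add] at h1
        rw [← h1, hP]
        simp only [hXc θ' hθ']
        rw [show (∑ χ, B.c χ θ * (ind (χ = X θ') + B.v θ' * y χ)) =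
          ∑ χ, B.c χ θ * (1 * ind (χ = X θ') + B.v θ' * y χ) by simp only [one_mul], dot_ind',
          one_mul, Finset.mul_sum]
        congr 1
        exact Finset.sum_congr rfl fun χ _ => by ring
      set α : ℤ := B.c (X i) θ with hαdef
      have hα0 : 0 ≤ α := B.nonneg _ _
      have hPv : P = B.k * B.v θ - α := by
        have h1 := hxX i hiS
        rw [B.mem_lin.mp hi] at h1
        linarith
      have hwX : ∀ θ' ∈ S, w (X θ') = B.v θ' * α := by
        intro θ' hθ'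
        have h1 := hxX θ' hθ'
        rw [hPv] at h1
        simp only [w, hXy θ' hθ', mul_zero, sub_zero]
        linarith
      have hwn : ∑ χ, w χ ^ 2 = 1 + 2 * B.v θ * α := by
        have h1 := B.orth θ θ
        rw [ind_pos (B.rel_equiv.refl θ)] at h1
        calc ∑ χ, w χ ^ 2 = ∑ χ, B.c χ θ * B.c χ θ - 2 * B.v θ * P +
              B.v θ ^ 2 * ∑ χ, y χ ^ 2 := by
              simp only [w, hP, Finset.mul_sum, ← Finset.sum_sub_distrib, ← Finset.sum_add_distrib]
              exact Finset.sum_congr rfl fun χ _ => by ring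
          _ = _ := by rw [h1, hPv, hyn]; ring
      have hSinj : ∀ θ₁ ∈ S, ∀ θ₂ ∈ S, X θ₁ = X θ₂ → B.rel θ₁ θ₂ := by
        intro θ₁ h1 θ₂ h2 he
        by_contra hr
        have q := B.orth θ₁ θ₂
        rw [ind_neg hr] at q
        simp only [hXc θ₁ h1, hXc θ₂ h2, he] at q
        rw [show (∑ χ, (ind (χ = X θ₂) + B.v θ₁ * y χ) * (ind (χ = X θ₂) + B.v θ₂ * y χ)) =
          ∑ χ, (1 * ind (χ = X θ₂) + B.v θ₁ * y χ) * (1 * ind (χ = X θ₂) + B.v θ₂ * y χ) by
            simp only [one_mul], dot_ind, dot_ind', ind_pos (rfl : X θ₂ = X θ₂), hXy θ₂ h2,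
          show (∑ χ, B.v θ₁ * y χ * (B.v θ₂ * y χ)) = B.v θ₁ * B.v θ₂ * ∑ χ, y χ ^ 2 by
            rw [Finset.mul_sum]; exact Finset.sum_congr rfl fun χ _ => by ring, hyn] at q
        linarith
      have hα : α = 0 := by
        by_contra h
        have h1 := B.sum_comp_le S X hSinj (fun χ => w χ ^ 2) fun χ => sq_nonneg _
        rw [hwn, Finset.sum_congr rfl fun θ' hθ' => by rw [hwX θ' hθ', mul_pow],
          ← Finset.sum_mul] at h1
        have h2 : (B.e : ℤ) * (2 * B.v θ + 2) * α ^ 2 ≤ (∑ θ' ∈ S, B.v θ' ^ 2) * α ^ 2 :=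
          mul_le_mul_of_nonneg_right (hdeg θ hv2) (sq_nonneg _)
        have he : (0 : ℤ) < B.e := by
          rw [Nat.cast_pos, ← B.fiber θ]
          haveI : Nonempty {θ' : Θ // B.rel θ θ'} := ⟨⟨θ, B.rel_equiv.refl θ⟩⟩
          exact Nat.card_pos
        have h3 : 1 + 2 * B.v θ * α < (2 * B.v θ + 2) * α ^ 2 := by
          have h4 : 1 ≤ α := by omega
          have h5 : α ≤ α ^ 2 := by nlinarith
          nlinarith [mul_le_mul_of_nonneg_left h5 (show (0 : ℤ) ≤ 2 * B.v θ + 2 by linarith)]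
        have := mul_lt_mul_of_pos_left h3 he
        nlinarith
      rw [hα] at hwn
      obtain ⟨x, hx⟩ : ∃ x, w x ≠ 0 := by
        by_contra h
        push Not at h
        simp [h] at hwn
      rw [← Finset.add_sum_erase _ _ (Finset.mem_univ x)] at hwn
      have hrest : 0 ≤ ∑ χ ∈ univ.erase x, w χ ^ 2 := Finset.sum_nonneg fun χ _ => sq_nonneg _
      have hwx : w x ^ 2 = 1 := by
        rcases lt_or_gt_of_ne hx with h | h <;> nlinarith
      have hzero : ∀ χ, χ ≠ x → w χ = 0 := fun χ hχ => pow_eq_zero_iff two_ne_zero |>.mp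
        ((Finset.sum_eq_zero_iff_of_nonneg fun χ _ => sq_nonneg _).mp
          (show ∑ χ ∈ univ.erase x, w χ ^ 2 = 0 by linarith) χ
          (Finset.mem_erase.mpr ⟨hχ, Finset.mem_univ _⟩))
      have hwy : ∑ χ, w χ * y χ = 0 := by
        simp only [w, sub_mul, Finset.sum_sub_distrib, mul_assoc, ← Finset.mul_sum, ← pow_two,
          hyn, ← hP, hPv, hα]
        ring
      rw [Finset.sum_eq_single x (fun χ _ hχ => by rw [hzero χ hχ, zero_mul]) (by simp)] at hwy
      have hyx : y x = 0 := (mul_eq_zero.mp hwy).resolve_left hx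
      have hwx1 : w x = 1 := by
        have h1 := B.nonneg x θ
        have h2 : w x = B.c x θ := by simp only [w, hyx, mul_zero, sub_zero]
        nlinarith
      refine ⟨x, hyx, fun χ => ?_⟩
      by_cases hχ : χ = x
      · have h1 := hwx1
        simp only [w] at h1
        rw [ind_pos hχ, hχ]
        linarith
      · have h1 := hzero χ hχ
        simp only [w] at h1
        rw [ind_neg hχ]
        linarith
  obtain ⟨χ, hχ⟩ : ∃ χ, y χ ≠ 0 := by
    by_contra h
    push Not at h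
    simp [h] at hyn
    omega
  refine ⟨χ, y χ, ?_⟩
  rw [B.deg, Finset.sum_mul]
  refine Finset.sum_congr rfl fun θ _ => ?_
  obtain ⟨x, hx, hxc⟩ := hall _ θ rfl
  rw [hxc, ind_neg (fun (h : χ = x) => hχ (by rw [h, hx]))]
  ring

/-- No column is related to its conjugate: a contradiction. -/
theorem Block.odd_prime_end (bar : Θ → Θ) (star : R → R) (ν z : R → ℤ) {p m : ℕ} (hp : p.Prime)
    (hbar_v : ∀ θ, B.v (bar θ) = B.v θ) (hbar : ∀ θ, ¬ B.rel θ (bar θ))
    (hstar : ∀ χ, star (star χ) = χ) (hcstar : ∀ χ θ, B.c (star χ) θ = B.c χ (bar θ))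
    (hν : ∀ χ, ν χ = 0 ∨ ν χ = 1 ∨ ν χ = -1) (hνfix : ∀ χ, star χ ≠ χ → ν χ = 0)
    (hνsum : ∀ θ ∈ B.lin, B.k ≤ ∑ χ, ν χ * B.c χ θ)
    (hz : ∀ θ ∈ B.lin, ∑ χ, z χ * B.c χ θ = 1)
    (hw : ∀ θ ∈ B.lin, ∑ χ, (z χ : ℚ) ^ 2 / (B.D χ : ℚ) * (B.c χ θ : ℚ) = 1)
    (hdiv : ∀ χ, B.D χ ∣ (B.e : ℤ) * (p : ℤ) ^ m * z χ)
    (hvp : ∀ θ, B.v θ ≠ 1 → (p : ℤ) ∣ B.v θ) (hlp : (p : ℤ) ∣ (B.lin.card : ℤ) + 1)
    (he2 : 2 ≤ B.e) (hbig : 4 * (B.e : ℤ) ^ 2 < ∑ θ, B.v θ ^ 2) : False := by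
  classical
  have hk := B.k_pos
  obtain ⟨i, hi⟩ : B.lin.Nonempty := by
    rw [Finset.nonempty_iff_ne_empty]
    intro h
    rw [h] at hlp
    simp only [Finset.card_empty, Nat.cast_zero, zero_add] at hlp
    have := Int.le_of_dvd one_pos hlp
    have := hp.two_le
    omega
  have hib : bar i ∈ B.lin := B.mem_lin.mpr ((hbar_v i).trans (B.mem_lin.mp hi))
  -- the structure of a column of degree one
  have hcol : ∀ θ ∈ B.lin, ∃ A, star A ≠ A ∧ B.c A θ = 1 ∧ (∀ χ, B.c χ θ = 0 ∨ B.c χ θ = 1) ∧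
      ∀ χ, star χ ≠ χ → χ ≠ A → B.c χ θ = 0 := by
    intro θ hθ
    have hg : ∀ χ, 0 ≤ B.c χ θ * B.c χ θ - ν χ * B.c χ θ := by
      intro χ
      have := B.nonneg χ θ
      rcases hν χ with h | h | h <;> rw [h] <;> nlinarith
    have hsum : ∑ χ, (B.c χ θ * B.c χ θ - ν χ * B.c χ θ) ≤ 1 := by
      rw [Finset.sum_sub_distrib, B.orth, ind_pos (B.rel_equiv.refl θ), B.mem_lin.mp hθ]
      linarith [hνsum θ hθ]
    obtain ⟨A, hA, hcA⟩ : ∃ A, star A ≠ A ∧ B.c A θ ≠ 0 := by
      by_contra hall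
      push Not at hall
      have heq : ∀ χ, B.c χ (bar θ) = B.c χ θ := by
        intro χ
        rw [← hcstar]
        by_cases h : star χ = χ
        · rw [h]
        · rw [hall χ h, hall (star χ) (by rw [hstar]; exact Ne.symm h)]
      have q := B.orth θ (bar θ)
      have q' := B.orth θ θ
      simp only [heq, ind_neg (hbar θ), hbar_v, ind_pos (B.rel_equiv.refl θ)] at q q'
      linarith
    rw [← Finset.add_sum_erase _ _ (Finset.mem_univ A)] at hsum
    have hrest := Finset.sum_nonneg (s := univ.erase A) fun χ _ => hg χ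
    have hA1 : B.c A θ = 1 := by
      have := B.nonneg A θ
      have : 1 ≤ B.c A θ := by omega
      rw [hνfix A hA] at hsum
      nlinarith
    rw [hA1, hνfix A hA] at hsum
    have hzero := (Finset.sum_eq_zero_iff_of_nonneg fun χ _ => hg χ).mp
      (show ∑ χ ∈ univ.erase A, (B.c χ θ * B.c χ θ - ν χ * B.c χ θ) = 0 by linarith)
    refine ⟨A, hA, hA1, fun χ => ?_, fun χ hχ hne => ?_⟩
    · by_cases h : χ = A
      · exact Or.inr (h ▸ hA1)
      · have h1 := hzero χ (Finset.mem_erase.mpr ⟨h, Finset.mem_univ _⟩)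
        have := B.nonneg χ θ
        rcases hν χ with e | e | e <;> rw [e] at h1
        · exact Or.inl (by nlinarith)
        · have h2 : B.c χ θ * (B.c χ θ - 1) = 0 := by linarith
          rcases mul_eq_zero.mp h2 with h3 | h3
          · exact Or.inl h3
          · exact Or.inr (by linarith)
        · exact Or.inl (by nlinarith)
    · have h1 := hzero χ (Finset.mem_erase.mpr ⟨hne, Finset.mem_univ _⟩)
      rw [hνfix χ hχ] at h1
      nlinarith [B.nonneg χ θ]
  obtain ⟨A, hA, hcA, h01, hA0⟩ := hcol i hi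
  let K : Finset R := Finset.univ.filter fun χ => star χ = χ ∧ B.c χ i = 1
  have hA' : star (star A) ≠ star A := by rw [hstar]; exact hA.symm
  have hci : ∀ χ, B.c χ i = ind (χ = A) + (if χ ∈ K then 1 else 0) := by
    intro χ
    by_cases h : χ = A
    · rw [h, hcA, ind_pos rfl, if_neg (by simp [K, hA])]; rfl
    rw [ind_neg h, zero_add]
    by_cases hs : star χ = χ
    · rcases h01 χ with h1 | h1 <;> simp [K, hs, h1]
    · rw [hA0 χ hs h, if_neg (by simp [K, hs])]
  have hcb : ∀ χ, B.c χ (bar i) = ind (χ = star A) + (if χ ∈ K then 1 else 0) := by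
    intro χ
    rw [← hcstar, hci]
    congr 1
    · by_cases h : χ = star A
      · rw [ind_pos h, ind_pos (by rw [h, hstar])]
      · rw [ind_neg h, ind_neg fun h' => h (by rw [← h', hstar])]
    · have hs2 : star (star χ) = χ := hstar χ
      by_cases hs : star χ = χ
      · rw [hs]
      · rw [if_neg (show star χ ∉ K by simp [K, hs2, Ne.symm hs]), if_neg (show χ ∉ K by simp [K, hs])]
  have hAK : A ∉ K := by simp [K, hA]
  have hKsum : ∀ f : R → ℤ, ∑ χ, (if χ ∈ K then 1 else 0) * f χ = ∑ χ ∈ K, f χ := by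
    intro f
    simp [ite_mul, Finset.sum_ite_mem]
  have hKcard : (K.card : ℤ) = B.k := by
    have q := B.orth i i
    rw [ind_pos (B.rel_equiv.refl i), B.mem_lin.mp hi] at q
    conv_lhs at q => arg 2; ext χ; rw [hci χ]
    simp only [add_mul, Finset.sum_add_distrib, sum_ind_mul, hKsum] at q
    rw [show ind True = 1 from ind_pos trivial, if_neg hAK] at q
    rw [Finset.sum_eq_zero (s := K) (f := fun x => ind (x = A)) fun χ hχ =>
        ind_neg (fun h : χ = A => hAK (h ▸ hχ)),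
      Finset.sum_congr rfl (g := fun _ => (1 : ℤ)) fun χ hχ => if_pos hχ, Finset.sum_const,
      nsmul_eq_mul] at q
    linarith
  -- the other columns
  have hother : ∀ θ, ¬ B.rel θ i → ¬ B.rel θ (bar i) →
      ∑ χ ∈ K, B.c χ θ + B.c A θ = B.k * B.v θ ∧
        B.c (star A) θ = B.c A θ ∧
        ∑ χ ∈ K, B.c χ θ ^ 2 + 2 * B.c A θ ^ 2 ≤ 1 + B.k * B.v θ ^ 2 := by
    intro θ h1 h2
    have q1 := B.orth i θ
    have q2 := B.orth (bar i) θ
    rw [ind_neg fun h => h1 (B.rel_equiv.symm h), B.mem_lin.mp hi] at q1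
    rw [ind_neg fun h => h2 (B.rel_equiv.symm h), B.mem_lin.mp hib] at q2
    simp only [hci, add_mul, Finset.sum_add_distrib, sum_ind_mul, hKsum] at q1
    simp only [hcb, add_mul, Finset.sum_add_distrib, sum_ind_mul, hKsum] at q2
    refine ⟨by linarith, by linarith, ?_⟩
    have q3 := B.orth θ θ
    rw [ind_pos (B.rel_equiv.refl θ)] at q3
    have hsub : K ∪ {A, star A} ⊆ Finset.univ := Finset.subset_univ _
    have h3 := Finset.sum_le_sum_of_subset_of_nonneg (f := fun χ => B.c χ θ ^ 2) hsub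
      fun χ _ _ => sq_nonneg _
    have hdisj : Disjoint K {A, star A} := by
      rw [Finset.disjoint_left]
      intro χ hχ hχ'
      simp only [K, Finset.mem_filter, Finset.mem_univ, true_and] at hχ
      simp only [Finset.mem_insert, Finset.mem_singleton] at hχ'
      rcases hχ' with rfl | rfl
      · exact hA hχ.1
      · exact hA (by rw [hstar] at hχ; exact hχ.1.symm)
    rw [Finset.sum_union hdisj, Finset.sum_pair hA.symm] at h3
    simp only [pow_two] at h3 ⊢
    have he : B.c (star A) θ = B.c A θ := by linarith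
    rw [he] at h3
    linarith
  have hK1 : ∀ θ ∈ B.lin, ∀ χ ∈ K, B.c χ θ = 1 := by
    intro θ hθ χ hχ
    by_cases h1 : B.rel θ i
    · rw [B.col_eq h1, hci, if_pos hχ, ind_neg fun h : χ = A => hAK (h ▸ hχ)]; rfl
    by_cases h2 : B.rel θ (bar i)
    · rw [B.col_eq h2, hcb, if_pos hχ, ind_neg fun h : χ = star A => ?_]
      · rfl
      · simp only [K, Finset.mem_filter, h, hstar] at hχ
        exact hA hχ.2.1.symm
    obtain ⟨e1, e2, -⟩ := hother θ h1 h2
    obtain ⟨C, -, -, h01', hC0⟩ := hcol θ hθ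
    rw [B.mem_lin.mp hθ] at e1
    have hA00 : B.c A θ = 0 := by
      by_contra hne
      have hC1 : A = C := by_contra fun h => hne (hC0 A hA h)
      have hC2 : star A = C := by_contra fun h => hne (by rw [← e2]; exact hC0 _ hA' h)
      exact hA (hC2.trans hC1.symm)
    have hle : ∀ χ ∈ K, B.c χ θ ≤ 1 := fun χ _ => by rcases h01' χ with h | h <;> omega
    have heq : ∑ χ ∈ K, (1 - B.c χ θ) = 0 := by
      rw [Finset.sum_sub_distrib, Finset.sum_const, nsmul_eq_mul]
      linarith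
    have := (Finset.sum_eq_zero_iff_of_nonneg fun χ hχ => sub_nonneg.mpr (hle χ hχ)).mp heq χ hχ
    linarith
  have hK4 : ∀ θ, ∀ χ ∈ K, B.v θ ≤ 4 * B.c χ θ := by
    intro θ χ hχ
    by_cases hθ : B.v θ = 1
    · rw [hK1 θ (B.mem_lin.mpr hθ) χ hχ, hθ]; norm_num
    have hne : ∀ θ' ∈ B.lin, ¬ B.rel θ θ' := fun θ' h h' =>
      hθ ((B.rel_v θ θ' h').trans (B.mem_lin.mp h))
    obtain ⟨e1, -, e3⟩ := hother θ (hne i hi) (hne _ hib)
    have hv := B.one_le θ
    set β := B.c A θ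
    have h1 : ∑ χ ∈ K, (B.v θ - B.c χ θ) ^ 2 ≤ 1 + 2 * β * B.v θ - 2 * β ^ 2 := by
      calc ∑ χ ∈ K, (B.v θ - B.c χ θ) ^ 2
          = (K.card : ℤ) * B.v θ ^ 2 - 2 * B.v θ * ∑ χ ∈ K, B.c χ θ + ∑ χ ∈ K, B.c χ θ ^ 2 := by
            simp only [sub_sq, Finset.sum_add_distrib, Finset.sum_sub_distrib, Finset.sum_const,
              nsmul_eq_mul, Finset.mul_sum]
        _ ≤ _ := by rw [hKcard]; nlinarith
    have h2 := le_trans (Finset.single_le_sum (f := fun χ => (B.v θ - B.c χ θ) ^ 2)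
      (fun χ _ => sq_nonneg _) hχ) h1
    have h3 := B.nonneg χ θ
    by_contra hlt
    push Not at hlt
    have h4 : 2 * (B.v θ - B.c χ θ) ^ 2 ≤ 2 + B.v θ ^ 2 := by nlinarith [sq_nonneg (2 * β - B.v θ)]
    have h5 : B.v θ ≤ 4 := by nlinarith
    have : B.c χ θ = 0 := by omega
    rw [this] at h4
    have : 2 ≤ B.v θ := by omega
    nlinarith
  obtain ⟨χ, hχK, hχz⟩ : ∃ χ ∈ K, z χ ≠ 0 := by
    by_contra hall
    push Not at hall
    have q1 := hz i hi
    have q2 := hw i hi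
    rw [Finset.sum_eq_single A] at q1
    · rw [Finset.sum_eq_single A] at q2
      · rw [hcA, mul_one] at q1
        rw [q1, hcA, Int.cast_one, one_pow, mul_one, div_eq_one_iff_eq
          (by exact_mod_cast (B.D_pos A).ne')] at q2
        have hD1 : B.D A = 1 := by exact_mod_cast q2.symm
        have hvc : ∀ θ, 0 ≤ B.v θ * B.c A θ := fun θ =>
          mul_nonneg (le_trans zero_le_one (B.one_le θ)) (B.nonneg A θ)
        have hcls : ∑ θ ∈ Finset.univ.filter (B.rel i), B.v θ * B.c A θ ≤ ∑ θ, B.v θ * B.c A θ :=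
          Finset.sum_le_sum_of_subset_of_nonneg (Finset.filter_subset _ _) fun θ _ _ => hvc θ
        rw [← B.deg, hD1, Finset.sum_congr rfl (g := fun _ => (1 : ℤ)) fun θ hθ => by
          rw [← B.rel_v i θ (Finset.mem_filter.mp hθ).2, ← B.col_eq (Finset.mem_filter.mp hθ).2,
            hcA, B.mem_lin.mp hi, mul_one], Finset.sum_const, nsmul_eq_mul, mul_one] at hcls
        have he : (B.e : ℤ) ≤ 1 := by
          rw [← B.fiber i, Nat.card_eq_fintype_card, Fintype.card_subtype]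
          exact hcls
        omega
      · intro χ _ hχ
        by_cases hK : χ ∈ K
        · simp [hall χ hK]
        · rw [hci, ind_neg hχ, if_neg hK]; simp
      · simp
    · intro χ _ hχ
      by_cases hK : χ ∈ K
      · simp [hall χ hK]
      · rw [hci, ind_neg hχ, if_neg hK]; simp
    · simp
  have hc1 : B.c χ i = 1 := hK1 i hi χ hχK
  have hD := B.D_pos χ
  -- the degree is prime to `p`
  have hcop : ¬ (p : ℤ) ∣ B.D χ := by
    intro hdvd
    rw [B.deg, ← Finset.sum_filter_add_sum_filter_not _ fun θ => B.v θ = 1] at hdvd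
    have h1 : (p : ℤ) ∣ ∑ θ ∈ Finset.univ.filter (fun θ => ¬ B.v θ = 1), B.v θ * B.c χ θ :=
      Finset.dvd_sum fun θ hθ => Dvd.dvd.mul_right (hvp θ (Finset.mem_filter.mp hθ).2) _
    rw [dvd_add_left h1] at hdvd
    have h2 : ∑ θ ∈ Finset.univ.filter (fun θ => B.v θ = 1), B.v θ * B.c χ θ = (B.lin.card : ℤ) := by
      rw [Finset.sum_congr rfl (g := fun _ => (1 : ℤ)) fun θ hθ => by
        have hθ' := (Finset.mem_filter.mp hθ).2
        rw [hθ', hK1 θ (B.mem_lin.mpr hθ') χ hχK, mul_one], Finset.sum_const, nsmul_eq_mul, mul_one]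
      congr 2
    rw [h2] at hdvd
    have h3 := dvd_sub hlp hdvd
    rw [add_sub_cancel_left] at h3
    have := Int.le_of_dvd one_pos h3
    have := hp.two_le
    omega
  have hcop2 : IsCoprime (B.D χ) ((p : ℤ) ^ m) := by
    refine IsCoprime.pow_right ?_
    exact (Nat.prime_iff_prime_int.mp hp).coprime_iff_not_dvd.mpr hcop |>.symm
  have h1 : B.D χ ∣ (B.e : ℤ) * z χ :=
    hcop2.dvd_of_dvd_mul_right (by rw [mul_right_comm]; exact hdiv χ)
  have hez : (B.e : ℤ) * z χ ≠ 0 := by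
    refine mul_ne_zero ?_ hχz
    rw [Nat.cast_ne_zero, ← B.fiber i]
    haveI : Nonempty {θ' : Θ // B.rel i θ'} := ⟨⟨i, B.rel_equiv.refl i⟩⟩
    exact Nat.card_pos.ne'
  have h2 : B.D χ ≤ |(B.e : ℤ) * z χ| :=
    Int.le_of_dvd (abs_pos.mpr hez) ((dvd_abs _ _).mpr h1)
  have h3 : z χ ^ 2 ≤ B.D χ := by
    have q2 := hw i hi
    have hterm : (z χ : ℚ) ^ 2 / (B.D χ : ℚ) * (B.c χ i : ℚ) ≤ 1 := by
      rw [← q2]
      refine Finset.single_le_sum (f := fun χ => (z χ : ℚ) ^ 2 / (B.D χ : ℚ) * (B.c χ i : ℚ))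
        (fun χ _ => ?_) (Finset.mem_univ χ)
      exact mul_nonneg (div_nonneg (sq_nonneg _) (by exact_mod_cast (B.D_pos χ).le))
        (by exact_mod_cast B.nonneg χ i)
    rw [hc1, Int.cast_one, mul_one, div_le_one (by exact_mod_cast hD)] at hterm
    exact_mod_cast hterm
  have h4 : B.D χ ^ 2 ≤ (B.e : ℤ) ^ 2 * B.D χ := by
    calc B.D χ ^ 2 ≤ |(B.e : ℤ) * z χ| ^ 2 := pow_le_pow_left₀ hD.le h2 2
      _ = (B.e : ℤ) ^ 2 * z χ ^ 2 := by rw [sq_abs, mul_pow]
      _ ≤ _ := mul_le_mul_of_nonneg_left h3 (sq_nonneg _)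
  have h5 : B.D χ ≤ (B.e : ℤ) ^ 2 := by nlinarith
  have h6 : ∑ θ, B.v θ ^ 2 ≤ 4 * B.D χ := by
    rw [B.deg, Finset.mul_sum]
    refine Finset.sum_le_sum fun θ _ => ?_
    nlinarith [hK4 θ χ hχK, B.one_le θ]
  linarith

end CfsgLib.FeitBlock
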