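import Cfsg.Agent.Lib.CharExt.FeitKnown
import Cfsg.Agent.Lib.Char.FrobeniusSchur
import Cfsg.Agent.Lib.Char.RealOdd
import Cfsg.Agent.Lib.Zass.Normal

/-!
# The bound on the degree of a Zassenhaus group with two-point stabilisers of odd order

`h - 1 ≤ 2 e`, unless the kernel is a non-abelian `2`-group with small commutator quotient.
-/

set_option autoImplicit false
set_option linter.unusedSectionVars false
set_option linter.style.haveILetI false

open MulAction
open scoped ComplexConjugate commutatorElement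

namespace CfsgLib.FeitData

open CfsgLib.ZassOdd CfsgLib.Zass

universe u w

theorem dvd_card_of_classes {α : Type*} [Finite α] {r : α → α → Prop} (hr : Equivalence r) {n : ℕ}
    (h : ∀ a, Nat.card {b // r a b} = n) : n ∣ Nat.card α := by
  classical
  let s : Setoid α := ⟨r, hr⟩
  refine ⟨Nat.card (Quotient s), ?_⟩
  haveI := Fintype.ofFinite (Quotient s)
  rw [Nat.card_congr (Equiv.sigmaFiberEquiv (Quotient.mk s)).symm, Nat.card_sigma,
    Finset.sum_congr rfl (g := fun _ => n) fun q _ => ?_, Finset.sum_const, smul_eq_mul,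
    Finset.card_univ, ← Nat.card_eq_fintype_card, mul_comm]
  induction q using Quotient.inductionOn with
  | _ a =>
    rw [← h a]
    exact Nat.card_congr (Equiv.subtypeEquivRight fun b =>
      ⟨fun e => hr.symm (Quotient.exact e), fun e => Quotient.sound (hr.symm e)⟩)

variable {G : Type u} {Ω : Type w} [Group G] [MulAction G Ω] [Fintype Ω] [Fintype G]
open Classical in
/-- The indicator, as an integer. -/
noncomputable def fsInt (χ : G → ℂ) : ℤ :=
  if Char.fsIndicator χ = 1 then 1 else if Char.fsIndicator χ = -1 then -1 else 0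

theorem cast_fsInt (χ : Cfsg.IrrCharacter G) : (fsInt χ.1 : ℂ) = Char.fsIndicator χ.1 := by
  rw [fsInt]
  rcases (Char.fsIndicator_irr χ.2).1 with h | h | h <;> rw [h] <;> norm_num

theorem exists_int_of_involution {K : Type*} [Group K] [Finite K] {χ : K → ℂ}
    (hχ : Cfsg.IsIrrCharacter K χ) {t : K} (ht : t * t = 1) (ht1 : t ≠ 1) :
    ∃ z : ℤ, χ t = (z : ℂ) := by
  obtain ⟨n, ρ, hρ, rfl⟩ := hχ
  obtain ⟨s, -, hsum, -, hroot⟩ := Char.exists_eigen_multiset ρ t
  rw [hsum]
  have ho : orderOf t = 2 := orderOf_eq_two_iff'.mpr ⟨ht, ht1⟩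
  rw [ho] at hroot
  clear hsum
  induction s using Multiset.induction_on with
  | empty => exact ⟨0, by simp⟩
  | cons a s ih =>
    obtain ⟨z, hz⟩ := ih fun z hz => hroot z (Multiset.mem_cons_of_mem hz)
    rw [Multiset.sum_cons, hz]
    rcases sq_eq_one_iff.mp (hroot a (Multiset.mem_cons_self a s)) with h | h
    · exact ⟨1 + z, by rw [h]; push_cast; ring⟩
    · exact ⟨-1 + z, by rw [h]; push_cast; ring⟩

variable (S : Setup G Ω) [Fintype S.H]
include S

theorem Setup.sum_theta {M : Type*} [AddCommMonoid M] (F : Cfsg.IrrCharacter S.H → M) :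
    ∑ θ, F θ = F Char.principalIrr + ∑ θ : S.Theta, F θ.1 := by
  classical
  rw [← Finset.add_sum_erase _ _ (Finset.mem_univ (Char.principalIrr : Cfsg.IrrCharacter S.H))]
  congr 1
  exact Finset.sum_subtype _ (fun θ => by simp) F

theorem Setup.degree_principal :
    Char.degree (Char.principalIrr : Cfsg.IrrCharacter S.H).1 = 1 := by simp [Char.degree]

theorem Setup.mass : ∑ θ : S.Theta, (S.block).v θ ^ 2 = (S.h : ℤ) - 1 := by
  have h := S.sum_theta fun θ => ((Char.degree θ.1 : ℤ)) ^ 2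
  have h2 := congrArg (Nat.cast : ℕ → ℤ) (Char.sum_degree_sq (G := S.H))
  push_cast at h2
  rw [h2, S.card_H, S.degree_principal, Nat.cast_one, one_pow] at h
  show ∑ θ : S.Theta, (Char.degree θ.1.1 : ℤ) ^ 2 = _
  linarith

open Classical in
theorem Setup.card_lin : S.block.lin.card + 1 = (commutator S.H).index := by
  rw [← FeitDeg.card_linear, Finset.card_filter,
    S.sum_theta fun χ => if Char.degree χ.1 = 1 then 1 else 0, if_pos S.degree_principal,
    add_comm 1, ← Finset.card_filter]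
  congr 2
  ext θ
  simp [FeitBlock.Block.mem_lin, Setup.block]

open Classical in
theorem Setup.hdeg {θ : S.Theta}
    (h : S.e * (2 * Char.degree θ.1.1 + 2) + 1 ≤ ∑ χ ∈ Finset.univ.filter
      (fun χ : Cfsg.IrrCharacter S.H => Char.degree χ.1 < Char.degree θ.1.1), Char.degree χ.1 ^ 2) :
    (S.block.e : ℤ) * (2 * S.block.v θ + 2) ≤
      ∑ θ' ∈ Finset.univ.filter (fun θ' => S.block.v θ' < S.block.v θ), S.block.v θ' ^ 2 := by
  rw [Finset.sum_filter, S.sum_theta fun χ =>
    if Char.degree χ.1 < Char.degree θ.1.1 then Char.degree χ.1 ^ 2 else 0] at h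
  have h1 : (if Char.degree (Char.principalIrr : Cfsg.IrrCharacter S.H).1 < Char.degree θ.1.1
      then Char.degree (Char.principalIrr : Cfsg.IrrCharacter S.H).1 ^ 2 else 0) ≤ 1 := by
    rw [S.degree_principal]; split_ifs <;> simp
  have h2 : S.e * (2 * Char.degree θ.1.1 + 2) ≤ ∑ θ' : S.Theta,
      if Char.degree θ'.1.1 < Char.degree θ.1.1 then Char.degree θ'.1.1 ^ 2 else 0 := by omega
  rw [Finset.sum_filter]
  have h3 : ((S.e * (2 * Char.degree θ.1.1 + 2) : ℕ) : ℤ) ≤ ((∑ θ' : S.Theta,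
      if Char.degree θ'.1.1 < Char.degree θ.1.1 then Char.degree θ'.1.1 ^ 2 else 0 : ℕ) : ℤ) := by
    exact_mod_cast h2
  push_cast at h3
  refine le_trans h3 (le_of_eq ?_)
  refine Finset.sum_congr rfl fun θ' _ => ?_
  simp only [Setup.block, Nat.cast_lt]

/-- A row whose degree is a multiple of `h - 1` gives the bound. -/
theorem Setup.bound_of_row {χ : S.Rest} (hd : (∑ θ, S.block.v θ ^ 2) ∣ S.block.D χ) :
    S.h - 1 ≤ 2 * S.e := by
  have h2 := S.h_two
  rw [S.mass, show (S.h : ℤ) - 1 = ((S.h - 1 : ℕ) : ℤ) by omega] at hd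
  have hd' : S.h - 1 ∣ Nat.card G :=
    (Int.natCast_dvd_natCast.mp hd).trans (FeitDeg.degree_dvd_card χ.1)
  rw [S.card_G, mul_assoc, mul_comm S.h S.e, ← mul_assoc] at hd'
  have hcop : (S.h - 1).Coprime S.h := by
    have := Nat.coprime_self_add_right (m := S.h - 1) (n := 1)
    rw [Nat.sub_add_cancel (by omega)] at this
    exact this.mpr (Nat.coprime_one_right _)
  have h3 := hcop.dvd_of_dvd_mul_right hd'
  rw [show (S.h + 1) * S.e = (S.h - 1) * S.e + 2 * S.e by
    rw [← add_mul]; congr 1; omega] at h3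
  exact Nat.le_of_dvd (by have := S.three_le_e; omega) ((Nat.dvd_add_right (dvd_mul_right _ _)).mp h3)

theorem Setup.free_E {u : S.H} (hu : u ≠ 1) {x : S.E} (hx : S.conjE x u = u) : x = 1 := by
  have h1 : (x : G) * u * (x : G)⁻¹ = u := congrArg Subtype.val hx
  exact Subtype.ext (S.E_inf_H x.2
    (S.commute_mem u.2 (fun e => hu (Subtype.ext e)) (mul_inv_eq_iff_eq_mul.mp h1)))

theorem Setup.dvd_char (K : Subgroup S.H) (hK : K.Characteristic) : S.e ∣ Nat.card K - 1 := by
  classical
  haveI := Fintype.ofFinite K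
  have hK' := Subgroup.characteristic_iff_map_le.mp hK
  have hcard : Nat.card {u : S.H // u ∈ K ∧ u ≠ 1} = Nat.card K - 1 := by
    rw [Nat.card_congr (Equiv.subtypeSubtypeEquivSubtypeInter (fun u : S.H => u ∈ K)
      (fun u => u ≠ 1)).symm, Nat.card_eq_fintype_card, Nat.card_eq_fintype_card,
      ← Fintype.card_subtype_eq (1 : K)]
    rw [← Fintype.card_subtype_compl]
    exact Fintype.card_congr (Equiv.subtypeEquivRight fun u => by simp)
  rw [← hcard]
  refine dvd_card_of_classes (r := fun u v : {u : S.H // u ∈ K ∧ u ≠ 1} =>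
    ∃ x : S.E, S.conjE x u.1 = v.1) ⟨fun u => ⟨1, by simp⟩, fun {u v} ⟨x, hx⟩ => ⟨x⁻¹, ?_⟩,
      fun {u v z} ⟨x, hx⟩ ⟨y, hy⟩ => ⟨y * x, ?_⟩⟩ fun u => ?_
  · rw [← hx, ← MulAut.mul_apply, ← map_mul, inv_mul_cancel, map_one, MulAut.one_apply]
  · rw [map_mul, MulAut.mul_apply, hx, hy]
  · rw [← S.card_E]
    have hmem : ∀ x : S.E, S.conjE x u.1 ∈ K ∧ S.conjE x u.1 ≠ 1 := fun x =>
      ⟨hK' (S.conjE x) ⟨u.1, u.2.1, rfl⟩, fun e => u.2.2 ((S.conjE x).map_eq_one_iff.mp e)⟩
    refine (Nat.card_congr (Equiv.ofBijective (fun x : S.E => (⟨⟨S.conjE x u.1, hmem x⟩, x, rfl⟩ :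
      {v : {u : S.H // u ∈ K ∧ u ≠ 1} // ∃ x : S.E, S.conjE x u.1 = v.1})) ⟨?_, ?_⟩)).symm
    · intro x y h
      have h1 : S.conjE x u.1 = S.conjE y u.1 := congrArg (fun v => v.1.1) h
      refine (inv_mul_eq_one.mp (S.free_E u.2.2 (x := y⁻¹ * x) ?_)).symm
      rw [map_mul, MulAut.mul_apply, h1, ← MulAut.mul_apply, ← map_mul, inv_mul_cancel, map_one,
        MulAut.one_apply]
    · rintro ⟨v, x, hx⟩
      exact ⟨x, Subtype.ext (Subtype.ext hx)⟩

theorem Setup.dvd_orbit (P : Subgroup S.H) (hP : P.Characteristic) (b : ℕ) :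
    S.e ∣ Nat.card {φ : Cfsg.IrrCharacter S.H //
      φ ≠ Char.principalIrr ∧ (∀ x ∈ P, φ.1 x = φ.1 1) ∧ Char.degree φ.1 = b} := by
  have hP' := Subgroup.characteristic_iff_map_le.mp hP
  refine dvd_card_of_classes (r := fun φ ψ => S.rel φ.1 ψ.1) ⟨fun φ => S.rel_equiv.refl φ.1,
    fun h => S.rel_equiv.symm h, fun {x y z} (h : S.rel x.1 y.1) (h' : S.rel y.1 z.1) => S.rel_equiv.trans h h'⟩ fun φ => ?_
  rw [← S.card_rel φ.2.1]
  refine Nat.card_congr
    { toFun := fun z => ⟨z.1.1, z.2⟩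
      invFun := fun z => ⟨⟨z.1, fun h => φ.2.1 (S.rel_principal (S.rel_equiv.symm z.2) h), ?_, ?_⟩,
        z.2⟩
      left_inv := fun _ => rfl
      right_inv := fun _ => rfl }
  · obtain ⟨x, hx⟩ := z.2
    intro u hu
    rw [hx, Function.comp_apply, Function.comp_apply, map_one]
    exact φ.2.2.1 _ (hP' (S.conjE x) ⟨u, hu, rfl⟩)
  · obtain ⟨x, hx⟩ := z.2
    refine Eq.trans ?_ φ.2.2.2
    simp only [Char.degree, hx, Function.comp_apply, map_one]

open Classical in
/-- Coherence gives the bound. -/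
theorem Setup.bound_coherent (hL : S.e * (S.e / 2 + 2) + 1 < (commutator S.H).index)
    (hdeg : ∀ θ : Cfsg.IrrCharacter S.H, 2 ≤ Char.degree θ.1 →
      S.e * (2 * Char.degree θ.1 + 2) + 1 ≤ ∑ χ ∈ Finset.univ.filter
        (fun χ : Cfsg.IrrCharacter S.H => Char.degree χ.1 < Char.degree θ.1),
          Char.degree χ.1 ^ 2) :
    S.h - 1 ≤ 2 * S.e := by
  obtain ⟨χ, hχ⟩ := S.block.coherent_end (by
    have h := S.card_lin
    show (S.e : ℤ) * (((S.e / 2 : ℕ) : ℤ) + 2) < _
    have h2 : S.e * (S.e / 2 + 2) < S.block.lin.card := by omega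
    exact_mod_cast h2) fun θ hθ => S.hdeg (hdeg θ.1 (by
      have h : (2 : ℤ) ≤ (Char.degree θ.1.1 : ℤ) := hθ
      omega))
  exact S.bound_of_row hχ

open Classical in
/-- The number of classes meeting the kernel, and the others. -/
theorem Setup.card_rest_abelian (hab : ∀ u v : S.H, u * v = v * u) :
    S.h - 1 < S.e * Fintype.card S.Rest := by
  obtain ⟨T, hT, hTmem⟩ := S.hO.class_bound S.hh S.hab
  let U : Finset (ConjClasses G) :=
    (Finset.univ.filter fun u : S.H => u ≠ 1).image fun u : S.H => ConjClasses.mk (u : G)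
  have hU : S.h - 1 ≤ S.e * U.card := by
    have h1 : (Finset.univ.filter fun u : S.H => u ≠ 1).card = S.h - 1 := by
      rw [Finset.filter_ne', Finset.card_erase_of_mem (Finset.mem_univ _), Finset.card_univ,
        ← Nat.card_eq_fintype_card, S.card_H]
    rw [← h1]
    refine Finset.card_le_mul_card_image _ _ fun C hC => ?_
    obtain ⟨u, hu, rfl⟩ := Finset.mem_image.mp hC
    have hu1 := (Finset.mem_filter.mp hu).2
    haveI := Fintype.ofFinite S.E
    rw [← S.card_E, Nat.card_eq_fintype_card, ← Finset.card_univ]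
    refine le_trans (Finset.card_le_card (t := (Finset.univ : Finset S.E).image fun x =>
      S.conjE x u) fun v hv => ?_) Finset.card_image_le
    obtain ⟨hv1, hv2⟩ := Finset.mem_filter.mp hv
    obtain ⟨g, hg⟩ := isConj_iff.mp (ConjClasses.mk_eq_mk_iff_isConj.mp hv2.symm)
    have hga : g • S.a = S.a := by
      have hv1' : (v : G) ≠ 1 := fun e => (Finset.mem_filter.mp hv1).2 (Subtype.ext e)
      refine S.hK.fix v v.2 hv1' _ ?_
      rw [← hg, mul_smul, mul_smul, inv_smul_smul, S.mem_stab_of_H u.2]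
    obtain ⟨k, hk, x, hx, rfl⟩ := S.decomp hga
    refine Finset.mem_image.mpr ⟨⟨x, hx⟩, Finset.mem_univ _, Subtype.ext ?_⟩
    rw [S.coe_conjE, ← hg]
    have hku : k * (u : G) = u * k := congrArg Subtype.val (hab ⟨k, hk⟩ u)
    calc x * (u : G) * x⁻¹ = x * ((u : G) * k) * k⁻¹ * x⁻¹ := by group
      _ = x * k * u * (x * k)⁻¹ := by rw [← hku]; group
  have hUfix : ∀ C ∈ U, ∃ g : G, ConjClasses.mk g = C ∧ g ≠ 1 ∧
      (fixPts g : Finset Ω).card = 1 := by
    intro C hC
    obtain ⟨u, hu, rfl⟩ := Finset.mem_image.mp hC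
    have hu1 : (u : G) ≠ 1 := fun e => (Finset.mem_filter.mp hu).2 (Subtype.ext e)
    exact ⟨u, rfl, hu1, S.fix_H u.2 hu1⟩
  have h1T : ConjClasses.mk (1 : G) ∉ T := fun h => (hTmem 1 h).1 rfl
  have h1U : ConjClasses.mk (1 : G) ∉ U := by
    intro h
    obtain ⟨g, hg, hg1, -⟩ := hUfix _ h
    exact hg1 (isConj_one_left.mp (ConjClasses.mk_eq_mk_iff_isConj.mp hg))
  have hTU : Disjoint T U := Finset.disjoint_left.mpr fun C hC hC' => by
    obtain ⟨g, hg, -, hg2⟩ := hUfix C hC'
    exact (hTmem g (hg ▸ hC)).2 hg2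
  have hcl : 1 + S.e + U.card ≤ Fintype.card (Cfsg.IrrCharacter G) := by
    haveI := Fintype.ofFinite (ConjClasses G)
    rw [← Nat.card_eq_fintype_card, Char.card_irrCharacter, Nat.card_eq_fintype_card]
    refine le_trans ?_ (Finset.card_le_univ (insert (ConjClasses.mk (1 : G)) (T ∪ U)))
    rw [Finset.card_insert_of_notMem (by simp [h1T, h1U]), Finset.card_union_of_disjoint hTU]
    omega
  have hirr : Fintype.card (Cfsg.IrrCharacter G) = 1 + ((S.e / 2 + 1) + Fintype.card S.Rest) := by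
    have h := S.sum_split (M := ℕ) fun _ => 1
    simp only [Finset.sum_const, Finset.card_univ, smul_eq_mul, mul_one, S.card_knownSet] at h
    exact h
  have he := S.e_eq
  have he3 := S.three_le_e
  have h3 : S.e / 2 + U.card ≤ Fintype.card S.Rest := by omega
  calc S.h - 1 ≤ S.e * U.card := hU
    _ < S.e * (S.e / 2 + U.card) := Nat.mul_lt_mul_of_pos_left (by omega) (by omega)
    _ ≤ _ := Nat.mul_le_mul_left _ h3

theorem Setup.bound_abelian (hab : ∀ u v : S.H, u * v = v * u) : S.h - 1 ≤ 2 * S.e := by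
  classical
  by_contra hlt
  have hv : ∀ θ : S.Theta, S.block.v θ = 1 := by
    intro θ
    have h1 := (CharOver.abelian_irr hab θ.1.2).1
    rw [← Char.IsCharacter.degree_cast (Char.IsIrrCharacter.isCharacter θ.1.2)] at h1
    show (Char.degree θ.1.1 : ℤ) = 1
    exact_mod_cast h1
  have hΘ : Fintype.card S.Theta = S.h - 1 := by
    have h := S.mass
    simp only [hv, one_pow, Finset.sum_const, Finset.card_univ, nsmul_eq_mul, mul_one] at h
    omega
  obtain ⟨χ, hχ⟩ := S.block.abelian_end hv (by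
    rw [hΘ]; show 2 * S.e < _; omega) (by rw [hΘ]; exact S.card_rest_abelian hab)
  exact hlt (S.bound_of_row hχ)

theorem Setup.sqrt_unique (hodd : Odd S.h) {u x : G} (hu : u ∈ S.H) (hu1 : u ≠ 1)
    (hx : x * x = u) : x ∈ S.H ∧ x = u ^ ((S.h + 1) / 2) := by
  have hxH : x ∈ S.H := S.commute_mem hu hu1 (by rw [← hx, mul_assoc])
  refine ⟨hxH, ?_⟩
  have h1 : x ^ S.h = 1 := by
    have h := pow_card_eq_one' (x := (⟨x, hxH⟩ : S.H))
    rw [S.card_H] at h
    exact congrArg Subtype.val h
  obtain ⟨m, hm⟩ := hodd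
  rw [← hx, ← pow_two, ← pow_mul, show 2 * ((S.h + 1) / 2) = S.h + 1 by omega, pow_succ, h1,
    one_mul]

open Classical in
/-- The weighted multiplicities of the square root counting function. -/
theorem Setup.sum_nu (hodd : Odd S.h) (θ : S.Theta) :
    ((S.e / 2 : ℕ) : ℤ) * S.block.v θ ≤ ∑ χ : S.Rest, fsInt χ.1.1 * S.block.c χ θ := by
  let f : G → ℂ := fun u => (({x | x * x = u} : Finset G).card : ℂ)
  have hfcl : Cfsg.IsClassFunction G f := by
    intro g y
    simp only [f, Nat.cast_inj]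
    refine Finset.card_bij' (fun x _ => y⁻¹ * x * y) (fun x _ => y * x * y⁻¹) ?_ ?_ ?_ ?_
    · intro x hx
      simp only [Finset.mem_filter, Finset.mem_univ, true_and] at hx ⊢
      calc y⁻¹ * x * y * (y⁻¹ * x * y) = y⁻¹ * (x * x) * y := by group
        _ = g := by rw [hx]; group
    · intro x hx
      simp only [Finset.mem_filter, Finset.mem_univ, true_and] at hx ⊢
      calc y * x * y⁻¹ * (y * x * y⁻¹) = y * (x * x) * y⁻¹ := by group
        _ = y * g * y⁻¹ := by rw [hx]
    · intro x _; group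
    · intro x _; group
  have hinner : ∀ χ : Cfsg.IrrCharacter G, Cfsg.classInner f χ.1 = (fsInt χ.1 : ℂ) := by
    intro χ
    have h1 : Cfsg.classInner f χ.1 = conj (Char.fsIndicator χ.1) := by
      rw [Char.fsIndicator, map_mul, map_inv₀, Complex.conj_natCast, Cfsg.classInner, map_sum]
      congr 1
      rw [← Finset.sum_fiberwise (Finset.univ : Finset G) (fun s => s * s)
        fun s => conj (χ.1 (s * s))]
      refine Finset.sum_congr rfl fun u _ => ?_
      rw [Finset.sum_congr rfl fun s hs => by rw [(Finset.mem_filter.mp hs).2], Finset.sum_const,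
        nsmul_eq_mul]
    rw [h1, ← cast_fsInt, map_intCast]
  have hfH : (fun u : S.H => f u) = (fun _ => (1 : ℂ)) +
      fun u => if u = 1 then ((S.e * S.h : ℕ) : ℂ) else 0 := by
    funext u
    simp only [Pi.add_apply, f]
    by_cases hu : u = 1
    · subst hu
      rw [if_pos rfl, ← (S.hO.invol_count S.hh).2 (Nat.not_even_iff_odd.mpr hodd)]
      have h1 : ({x | x * x = ((1 : S.H) : G)} : Finset G) = insert 1 (invols G) := by
        ext x
        simp only [Finset.mem_filter, Finset.mem_univ, true_and, Finset.mem_insert, mem_invols,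
          OneMemClass.coe_one]
        refine ⟨fun h => or_iff_not_imp_left.mpr fun h1 => ⟨h, h1⟩, fun h => h.elim
          (fun e => by rw [e, one_mul]) And.left⟩
      rw [h1, Finset.card_insert_of_notMem (by simp [mem_invols])]
      push_cast; ring
    · have hu1 : (u : G) ≠ 1 := fun e => hu (Subtype.ext e)
      rw [if_neg hu, add_zero, Nat.cast_eq_one]
      refine Finset.card_eq_one.mpr ⟨(u : G) ^ ((S.h + 1) / 2), ?_⟩
      ext x
      simp only [Finset.mem_filter, Finset.mem_univ, true_and, Finset.mem_singleton]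
      refine ⟨fun hx => (S.sqrt_unique hodd u.2 hu1 hx).2, fun hx => ?_⟩
      have h1 : (u : G) ^ S.h = 1 := by
        have h := pow_card_eq_one' (x := u)
        rw [S.card_H] at h
        exact congrArg Subtype.val h
      obtain ⟨m, hm⟩ := hodd
      rw [hx, ← pow_add, show (S.h + 1) / 2 + (S.h + 1) / 2 = S.h + 1 by omega, pow_succ, h1,
        one_mul]
  have hexp : ∑ χ : Cfsg.IrrCharacter G, (fsInt χ.1 : ℂ) * (S.mult χ θ.1 : ℂ) =
      ((S.e : ℤ) * Char.degree θ.1.1 : ℤ) := by
    have h1 : ∑ χ : Cfsg.IrrCharacter G, (fsInt χ.1 : ℂ) * (S.mult χ θ.1 : ℂ) =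
        Cfsg.classInner (fun u : S.H => f u) θ.1.1 := by
      conv_rhs => rw [Char.IsClassFunction.eq_sum_classInner hfcl]
      rw [show (fun u : S.H => (∑ χ : Cfsg.IrrCharacter G, Cfsg.classInner f χ • χ.1) (u : G)) =
        ∑ χ : Cfsg.IrrCharacter G, Cfsg.classInner f χ • fun u : S.H => χ.1 u by
          funext u; simp, Char.classInner_sum_left]
      refine Finset.sum_congr rfl fun χ _ => ?_
      rw [Char.classInner_smul_left, hinner, S.cast_mult]
    rw [h1, hfH, Char.classInner_add_left, classInner_delta, S.card_H,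
      show (fun _ : S.H => (1 : ℂ)) = (Char.principalIrr : Cfsg.IrrCharacter S.H).1 from
        funext fun u => by simp, Char.classInner_irrCharacter, if_neg (Ne.symm θ.2), zero_add,
      ← Char.IsCharacter.degree_cast (Char.IsIrrCharacter.isCharacter θ.1.2), Complex.conj_natCast]
    have : (S.h : ℂ) ≠ 0 := Nat.cast_ne_zero.mpr (by have := S.h_two; omega)
    push_cast
    field_simp
  have hexp' : ∑ χ : Cfsg.IrrCharacter G, fsInt χ.1 * (S.mult χ θ.1 : ℤ) =
      (S.e : ℤ) * Char.degree θ.1.1 := by exact_mod_cast hexp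
  rw [S.sum_split, S.mult_principalG, if_neg θ.2, Nat.cast_zero, mul_zero, zero_add] at hexp'
  have hknown : ∑ χ ∈ S.knownSet, fsInt χ.1 * (S.mult χ θ.1 : ℤ) ≤
      ((S.e / 2 + 1 : ℕ) : ℤ) * Char.degree θ.1.1 := by
    rw [← S.card_knownSet, ← nsmul_eq_mul, ← Finset.sum_const]
    refine Finset.sum_le_sum fun χ hχ => ?_
    rw [S.mult_known χ (Finset.mem_filter.mp hχ).2.1 (Finset.mem_filter.mp hχ).2.2, if_neg θ.2]
    refine mul_le_of_le_one_left (Nat.cast_nonneg _) ?_
    rw [fsInt]; split_ifs <;> norm_num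
  show ((S.e / 2 : ℕ) : ℤ) * (Char.degree θ.1.1 : ℤ) ≤
    ∑ χ : S.Rest, fsInt χ.1.1 * (S.mult χ.1 θ.1 : ℤ)
  have he : (S.e : ℤ) = 2 * ((S.e / 2 : ℕ) : ℤ) + 1 := by exact_mod_cast S.e_eq
  rw [he] at hexp'
  rw [Nat.cast_add, Nat.cast_one] at hknown
  linarith

theorem Setup.known_at_fpf {t : G} (ht : (fixPts t : Finset Ω).card = 0)
    {χ : Cfsg.IrrCharacter G} (hχ : χ ∈ S.knownSet) :
    χ.1 t = if χ.1 = (fun g => PermChar.piFun G Ω g - 1) then -1 else 0 := by
  classical
  have h0 := (Finset.mem_filter.mp hχ).2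
  split_ifs with hSt
  · rw [hSt]; simp [S.piFun_eq, ht]
  · exact ((S.known χ h0.1 h0.2).resolve_left hSt).2.2 t ht

/-- A weighted sum over the characters with fixed vectors, carried by the permutation constituent. -/
theorem Setup.sum_known_steinberg (F : Cfsg.IrrCharacter G → ℂ)
    (hF : ∀ χ ∈ S.knownSet, χ.1 ≠ (fun g => PermChar.piFun G Ω g - 1) → F χ = 0) (r : ℂ)
    (hr : ∀ χ ∈ S.knownSet, χ.1 = (fun g => PermChar.piFun G Ω g - 1) → F χ = r) :
    ∑ χ ∈ S.knownSet, F χ = r := by
  classical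
  obtain ⟨St, hSt0, hSt, -⟩ := S.exists_steinberg
  have hStK : St ∈ S.knownSet := by
    by_contra hnot
    have hm : S.mult St Char.principalIrr = 0 := by
      apply Nat.cast_injective (R := ℂ)
      rw [S.cast_mult, show (Char.principalIrr : Cfsg.IrrCharacter S.H).1 = fun _ => (1 : ℂ) from
        funext fun u => Char.principalIrr_apply u, Nat.cast_zero]
      by_contra h
      exact hnot (Finset.mem_filter.mpr ⟨Finset.mem_univ _, hSt0, h⟩)
    have h1 := congrArg (Nat.cast : ℕ → ℂ) hm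
    rw [S.mult_of_const (r := 0) (D := S.h) (fun u hu hu1 => by
      rw [hSt]; simp [S.piFun_eq, S.fix_H hu hu1]) (by
      rw [hSt]; simp [PermChar.piFun_one, S.hh]), if_pos rfl, S.degree_principal, Nat.cast_one,
      mul_one, zero_add, div_self (Nat.cast_ne_zero.mpr (by have := S.h_two; omega)),
      Nat.cast_zero] at h1
    exact one_ne_zero h1
  rw [Finset.sum_eq_single St (fun χ hχ hne => hF χ hχ fun e =>
    hne (Subtype.ext (e.trans hSt.symm))) (fun h => absurd hStK h)]
  exact hr St hStK hSt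

open Classical in
/-- A non-abelian kernel of odd prime power order gives a contradiction. -/
theorem Setup.false_of_odd_pgroup {p : ℕ} (hp : p.Prime) (hp2 : p ≠ 2) (hH : IsPGroup p S.H)
    (hna : ∃ u v : S.H, u * v ≠ v * u) : False := by
  haveI := Fact.mk hp
  haveI := S.kernel_nilpotent
  obtain ⟨m, hm⟩ := IsPGroup.iff_card.mp hH
  rw [S.card_H] at hm
  have hh : Odd S.h := by rw [hm]; exact (hp.odd_of_ne_two hp2).pow
  have hh2 := S.h_two
  have he3 := S.three_le_e
  have heodd : Odd S.e := S.hO.odd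
  have hdvd := S.dvd_h_sub_one
  haveI : Nontrivial S.H := Finite.one_lt_card_iff_nontrivial.mp (by rw [S.card_H]; omega)
  have hC : commutator S.H ≠ ⊤ := (IsSolvable.commutator_lt_top_of_nontrivial S.H).ne
  have hCbot : commutator S.H ≠ ⊥ := by
    intro h
    obtain ⟨u, v, huv⟩ := hna
    have h1 : ⁅u, v⁆ ∈ commutator S.H :=
      Subgroup.commutator_mem_commutator (Subgroup.mem_top u) (Subgroup.mem_top v)
    rw [h, Subgroup.mem_bot] at h1
    exact huv (commutatorElement_eq_one_iff_mul_comm.mp h1)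
  have hCi : 1 < (commutator S.H).index := Subgroup.one_lt_index_of_ne_top hC
  have hCc : 1 < Nat.card (commutator S.H) := Finite.one_lt_card_iff_nontrivial.mpr
    ((Subgroup.nontrivial_iff_ne_bot _).mpr hCbot)
  have hCd := S.dvd_char (commutator S.H) inferInstance
  have hmul := (commutator S.H).card_mul_index
  rw [S.card_H] at hmul
  have ho1 : Odd (Nat.card (commutator S.H)) := hh.of_dvd_nat ⟨_, hmul.symm⟩
  have ho2 : Odd (commutator S.H).index := hh.of_dvd_nat ⟨_, by rw [mul_comm]; exact hmul.symm⟩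
  have hbig1 := FeitDeg.two_mul_lt_of_dvd_sub_one heodd hCc ho1 hCd
  have hbig2 := FeitDeg.two_mul_lt_of_dvd_sub_one heodd hCi ho2
    (FeitDeg.modEq_one_index (by rw [S.card_H]; exact hdvd) _ hCd)
  have hbig : 4 * S.e ^ 2 < S.h - 1 := by
    have h1 := Nat.mul_le_mul hbig1 hbig2
    rw [hmul] at h1
    have h2 : (2 * S.e + 1) * (2 * S.e + 1) = 4 * S.e ^ 2 + 4 * S.e + 1 := by ring
    omega
  -- an involution
  have hcount := (S.hO.invol_count S.hh).2 (Nat.not_even_iff_odd.mpr hh)
  obtain ⟨t, ht⟩ : (invols G).Nonempty := Finset.card_pos.mp (by rw [hcount]; positivity)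
  obtain ⟨ht2, ht1⟩ := mem_invols.mp ht
  have hhev : (S.h + 1) % 2 = 0 := by obtain ⟨r, hr⟩ := hh; omega
  have htf : (fixPts t : Finset Ω).card = 0 := by
    rw [S.hO.card_fixPts_invol ht2 ht1, S.hh, hhev]
  have htclass : ({x : G | IsConj t x} : Finset G) = invols G := by
    ext x
    simp only [Finset.mem_filter, Finset.mem_univ, true_and, mem_invols]
    refine ⟨fun h => ?_, fun h => S.hO.isConj_invol ht2 ht1 h.1 h.2⟩
    obtain ⟨y, rfl⟩ := isConj_iff.mp h
    refine ⟨by rw [show y * t * y⁻¹ * (y * t * y⁻¹) = y * (t * t) * y⁻¹ by group, ht2]; group,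
      fun e => ht1 ?_⟩
    rwa [mul_inv_eq_one, mul_eq_left] at e
  have hidx : (Subgroup.centralizer ({t} : Set G)).index = S.e * S.h := by
    rw [← Char.card_conjClass t, htclass, hcount]
  have hcent : Nat.card (Subgroup.centralizer ({t} : Set G)) = S.h + 1 := by
    have h := (Subgroup.centralizer ({t} : Set G)).card_mul_index
    rw [hidx, S.card_G] at h
    exact Nat.eq_of_mul_eq_mul_right (show 0 < S.e * S.h by positivity) (h.trans (by ring))
  choose z hz using fun χ : Cfsg.IrrCharacter G => exists_int_of_involution χ.2 ht2 ht1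
  -- no element of the kernel is a product of two involutions
  have hprod : ∀ x ∈ invols G, ∀ y ∈ invols G, ∀ u ∈ S.H, u ≠ 1 → ¬ IsConj (x * y) u := by
    intro x hx y hy u hu hu1 hc
    obtain ⟨g, hg⟩ := isConj_iff.mp hc
    have hfix : ∀ c : Ω, (x * y) • c = c → c = g⁻¹ • S.a := by
      intro c hc'
      have h1 : u • g • c = g • c := by rw [← hg, mul_smul, mul_smul, inv_smul_smul, hc']
      rw [← S.hK.fix u hu hu1 _ h1, inv_smul_smul]
    have hfa : (x * y) • (g⁻¹ • S.a) = g⁻¹ • S.a := by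
      rw [show x * y = g⁻¹ * u * g by rw [← hg]; group, mul_smul, mul_smul, smul_inv_smul,
        S.mem_stab_of_H hu]
    exact Nat.not_even_iff_odd.mpr hh (S.hO.product_fix_one S.hh hfa hfix (mem_invols.mp hx).1
      (mem_invols.mp hx).2 (mem_invols.mp hy).1 (mem_invols.mp hy).2 rfl).1
  have hdpos : ∀ χ : Cfsg.IrrCharacter G, (Char.degree χ.1 : ℂ) ≠ 0 := fun χ =>
    Nat.cast_ne_zero.mpr (Char.IsIrrCharacter.degree_pos χ.2).ne'
  -- linear combinations on the kernel
  have hcomb : ∀ (w : Cfsg.IrrCharacter G → ℂ) (θ : Cfsg.IrrCharacter S.H),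
      ∑ χ, w χ * (S.mult χ θ : ℂ) =
        Cfsg.classInner (fun u : S.H => ∑ χ, w χ * χ.1 u) θ.1 := by
    intro w θ
    rw [show (fun u : S.H => ∑ χ, w χ * χ.1 (u : G)) = ∑ χ, w χ • fun u : S.H => χ.1 u by
      funext u; simp, Char.classInner_sum_left]
    exact Finset.sum_congr rfl fun χ _ => by rw [Char.classInner_smul_left, S.cast_mult]
  have hz1 : ∀ θ ∈ S.block.lin, ∑ χ : S.Rest, z χ.1 * S.block.c χ θ = 1 := by
    intro θ hθ
    have h := hcomb (fun χ => (z χ : ℂ)) θ.1
    have hzero : (fun u : S.H => ∑ χ : Cfsg.IrrCharacter G, (z χ : ℂ) * χ.1 u) = 0 := by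
      funext u
      simp only [← hz, Pi.zero_apply]
      have h1 := Char.sum_mul_conj (u : G) t
      rw [if_neg] at h1
      · rw [← h1]
        refine Finset.sum_congr rfl fun χ _ => ?_
        rw [hz χ, map_intCast, mul_comm]
      · intro hc
        have h2 := card_fixPts_of_isConj (Ω := Ω) hc
        rw [htf] at h2
        by_cases hu : u = 1
        · rw [hu, OneMemClass.coe_one, fixPts_one, Finset.card_univ, S.hh] at h2
          omega
        · rw [S.fix_H u.2 fun e => hu (Subtype.ext e)] at h2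
          omega
    rw [hzero, Char.classInner_zero_left, S.sum_split, S.mult_principalG, if_neg θ.2,
      Nat.cast_zero, mul_zero, zero_add,
      S.sum_known_steinberg _ (fun χ hχ hne => by rw [← hz, S.known_at_fpf htf hχ, if_neg hne,
        zero_mul]) (-1) (fun χ hχ he => by
        rw [← hz, S.known_at_fpf htf hχ, if_pos he, S.mult_known χ (Finset.mem_filter.mp hχ).2.1
          (Finset.mem_filter.mp hχ).2.2, if_neg θ.2]
        have h1 : (Char.degree θ.1.1 : ℤ) = 1 := S.block.mem_lin.mp hθ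
        rw [show Char.degree θ.1.1 = 1 by exact_mod_cast h1, Nat.cast_one, mul_one]),
      neg_add_eq_zero] at h
    have h1 : ((∑ χ : S.Rest, z χ.1 * S.block.c χ θ : ℤ) : ℂ) = 1 := by
      refine Eq.trans ?_ h.symm
      push_cast
      exact Finset.sum_congr rfl fun χ _ => by simp [Setup.block]
    exact_mod_cast h1
  have hw1 : ∀ θ ∈ S.block.lin, ∑ χ : S.Rest,
      (z χ.1 : ℚ) ^ 2 / (S.block.D χ : ℚ) * (S.block.c χ θ : ℚ) = 1 := by
    intro θ hθ
    have h := hcomb (fun χ => (z χ : ℂ) ^ 2 / (Char.degree χ.1 : ℂ)) θ.1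
    have hval : (fun u : S.H => ∑ χ : Cfsg.IrrCharacter G,
        (z χ : ℂ) ^ 2 / (Char.degree χ.1 : ℂ) * χ.1 u) =
        fun u => if u = 1 then ((S.h + 1 : ℕ) : ℂ) else 0 := by
      funext u
      by_cases hu : u = 1
      · subst hu
        rw [if_pos rfl, ← hcent]
        have h1 := Char.sum_mul_conj t t
        rw [if_pos (IsConj.refl t)] at h1
        rw [← h1]
        refine Finset.sum_congr rfl fun χ _ => ?_
        rw [OneMemClass.coe_one, ← Char.IsCharacter.degree_cast
          (Char.IsIrrCharacter.isCharacter χ.2), div_mul_cancel₀ _ (hdpos χ), hz χ, map_intCast,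
          pow_two]
      · rw [if_neg hu]
        have hu1 : (u : G) ≠ 1 := fun e => hu (Subtype.ext e)
        have hclass : ∀ χ : Cfsg.IrrCharacter G, ((S.e * S.h : ℕ) : ℂ) ^ 2 *
            ((z χ : ℂ) ^ 2 / (Char.degree χ.1 : ℂ)) =
            ∑ x ∈ invols G, ∑ y ∈ invols G, χ.1 (x * y) := by
          intro χ
          obtain ⟨n, ρ, hρ, hρe⟩ := χ.2
          haveI := hρ
          let F : G → ℂ := fun g => if g ∈ invols G then 1 else 0
          have hFconj : ∀ g x : G, F (x * g * x⁻¹) = F g := by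
            intro g x
            simp only [F, mem_invols]
            congr 1
            rw [eq_iff_iff, show x * g * x⁻¹ * (x * g * x⁻¹) = x * (g * g) * x⁻¹ by group,
              mul_inv_eq_one, mul_eq_left, Ne, Ne, mul_inv_eq_one, mul_eq_left]
          obtain ⟨c, hc, hc'⟩ := Char.exists_scalar_sum_smul ρ F hFconj
          have hop : ∑ g ∈ invols G, ρ g = c • (1 : Module.End ℂ (Fin n → ℂ)) := by
            rw [← hc]
            simp [F, ite_smul, Finset.sum_ite_mem]
          have hsumz : ∑ g, F g * ρ.character g = ((S.e * S.h : ℕ) : ℂ) * (z χ : ℂ) := by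
            simp only [F, ite_mul, one_mul, zero_mul, Finset.sum_ite_mem, Finset.univ_inter]
            rw [Finset.sum_congr rfl (g := fun _ => (z χ : ℂ)) fun g hg => ?_, Finset.sum_const,
              hcount, nsmul_eq_mul]
            rw [hρe, ← hz]
            exact (Char.IsClassFunction.eq_of_isConj (Char.IsIrrCharacter.isClassFunction χ.2)
              (S.hO.isConj_invol ht2 ht1 (mem_invols.mp hg).1 (mem_invols.mp hg).2)).symm
          have hn : (Char.degree χ.1 : ℂ) = (Module.finrank ℂ (Fin n → ℂ) : ℂ) := by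
            rw [Char.IsCharacter.degree_cast (Char.IsIrrCharacter.isCharacter χ.2), ← hρe,
              Representation.char_one]
          have hdouble : ∑ x ∈ invols G, ∑ y ∈ invols G, χ.1 (x * y) =
              c * c * (Char.degree χ.1 : ℂ) := by
            rw [← hρe]
            simp only [Representation.character, map_mul]
            simp only [← map_sum, ← Finset.mul_sum, ← Finset.sum_mul, hop, smul_mul_smul_comm,
              one_mul, map_smul, LinearMap.trace_one, smul_eq_mul]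
            rw [show Char.degree ρ.character = Char.degree χ.1 from congrArg _ hρe, hn]
          rw [hdouble, hn]
          rw [hsumz, ← hn] at hc'
          have := hdpos χ
          rw [← hn]
          field_simp
          linear_combination -(((S.e * S.h : ℕ) : ℂ) * (z χ : ℂ) + c * (Char.degree χ.1 : ℂ)) * hc'
        have h0 : ((S.e * S.h : ℕ) : ℂ) ^ 2 ≠ 0 :=
          pow_ne_zero _ (Nat.cast_ne_zero.mpr (by positivity))
        refine (mul_eq_zero.mp ?_).resolve_left h0
        rw [Finset.mul_sum, Finset.sum_congr rfl fun χ _ => by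
          rw [← mul_assoc, hclass χ, Finset.sum_mul], Finset.sum_comm]
        refine Finset.sum_eq_zero fun x hx => ?_
        simp only [Finset.sum_mul]
        rw [Finset.sum_comm]
        refine Finset.sum_eq_zero fun y hy => ?_
        have h1 := Char.sum_mul_conj (x * y) (u : G)⁻¹
        rw [if_neg (hprod x hx y hy (u : G)⁻¹ (S.H.inv_mem u.2) (inv_ne_one.mpr hu1))] at h1
        rw [← h1]
        refine Finset.sum_congr rfl fun χ _ => ?_
        rw [Char.IsIrrCharacter.apply_inv χ.2, Complex.conj_conj]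
    rw [hval, classInner_delta, S.card_H, S.sum_split, S.mult_principalG, if_neg θ.2,
      Nat.cast_zero, mul_zero, zero_add, ← Char.IsCharacter.degree_cast
        (Char.IsIrrCharacter.isCharacter θ.1.2), Complex.conj_natCast] at h
    have hθ1 : Char.degree θ.1.1 = 1 := by
      have h1 : (Char.degree θ.1.1 : ℤ) = 1 := S.block.mem_lin.mp hθ
      exact_mod_cast h1
    have h0 : (S.h : ℂ) ≠ 0 := Nat.cast_ne_zero.mpr (by omega)
    rw [S.sum_known_steinberg _ (fun χ hχ hne => by
        rw [← hz, S.known_at_fpf htf hχ, if_neg hne]; simp) (1 / (S.h : ℂ))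
      (fun χ hχ he => by
        rw [← hz, S.known_at_fpf htf hχ, if_pos he, S.mult_known χ (Finset.mem_filter.mp hχ).2.1
          (Finset.mem_filter.mp hχ).2.2, if_neg θ.2, hθ1,
          Char.IsCharacter.degree_cast (Char.IsIrrCharacter.isCharacter χ.2), he]
        simp only [PermChar.piFun_one, S.hh]
        push_cast
        rw [add_sub_cancel_right]
        ring), hθ1, Nat.cast_one, mul_one, add_comm, ← eq_sub_iff_add_eq] at h
    have h1 : ((∑ χ : S.Rest,
        (z χ.1 : ℚ) ^ 2 / (S.block.D χ : ℚ) * (S.block.c χ θ : ℚ) : ℚ) : ℂ) = 1 := by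
      push_cast
      rw [show (∑ χ : S.Rest, (z χ.1 : ℂ) ^ 2 / (S.block.D χ : ℂ) * (S.block.c χ θ : ℂ)) =
        ∑ χ : S.Rest, (z χ.1 : ℂ) ^ 2 / (Char.degree χ.1.1 : ℂ) * (S.mult χ.1 θ.1 : ℂ) from
          Finset.sum_congr rfl fun χ _ => by simp [Setup.block], h]
      push_cast
      field_simp
      ring
    exact_mod_cast h1
  -- the conjugate characters
  let bar : S.Theta → S.Theta := fun θ => ⟨⟨fun u => conj (θ.1.1 u),
    Char.IsIrrCharacter.conj_apply' θ.1.2⟩, fun hb => θ.2 (Subtype.ext (funext fun u => by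
      have h := congrFun (congrArg Subtype.val hb) u
      simpa using congrArg (starRingEnd ℂ) h))⟩
  let star : S.Rest → S.Rest := fun χ => ⟨⟨fun g => conj (χ.1.1 g),
    Char.IsIrrCharacter.conj_apply' χ.1.2⟩, fun hb => χ.2.1 (Subtype.ext (funext fun g => by
      have h := congrFun (congrArg Subtype.val hb) g
      simpa using congrArg (starRingEnd ℂ) h)), by
    have h := congrArg (starRingEnd ℂ) χ.2.2
    simpa [Cfsg.classInner, map_sum] using h⟩
  have hodd' : Odd (Nat.card S.H) := by rwa [S.card_H]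
  refine S.block.odd_prime_end bar star (fun χ => fsInt χ.1.1) (fun χ => z χ.1) (p := p) (m := m) hp
    (fun θ => ?_) (fun θ hrel => ?_) (fun χ => ?_) (fun χ θ => ?_) (fun χ => ?_) (fun χ hχ => ?_)
    (fun θ hθ => ?_) hz1 hw1 (fun χ => ?_) (fun θ hθ => ?_) ?_ (show 2 ≤ S.e by omega) ?_
  · show ((Char.degree (fun u : S.H => conj (θ.1.1 u)) : ℕ) : ℤ) = (Char.degree θ.1.1 : ℤ)
    simp [Char.degree]
  · obtain ⟨x, hx⟩ := hrel
    have hx2 : θ.1.1 ∘ (S.conjE (x * x)) = θ.1.1 := by
      funext u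
      have h1 : conj (θ.1.1 (S.conjE x u)) = θ.1.1 (S.conjE x (S.conjE x u)) :=
        congrFun hx (S.conjE x u)
      have h2 : conj (θ.1.1 u) = θ.1.1 (S.conjE x u) := congrFun hx u
      rw [Function.comp_apply, map_mul, MulAut.mul_apply, ← h1, ← h2, Complex.conj_conj]
    have hxx := S.eq_one_of_fixed θ.2 hx2
    have hx1 : x = 1 := by
      have h1 : x ^ S.e = 1 := by
        have h := pow_card_eq_one' (x := x)
        rwa [S.card_E] at h
      obtain ⟨r, hr⟩ := heodd
      rw [hr, pow_succ, pow_mul, pow_two, hxx, one_pow, one_mul] at h1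
      exact h1
    subst hx1
    refine θ.2 (Subtype.ext ?_)
    rw [show (Char.principalIrr : Cfsg.IrrCharacter S.H).1 = fun _ => (1 : ℂ) from
      funext fun u => Char.principalIrr_apply u]
    refine Char.eq_one_of_real_of_odd hodd' θ.1 fun u => Complex.conj_eq_iff_im.mp ?_
    have h2 : conj (θ.1.1 u) = θ.1.1 (S.conjE 1 u) := congrFun hx u
    rw [h2, map_one]; rfl
  · exact Subtype.ext (Subtype.ext (funext fun g => Complex.conj_conj _))
  · show ((S.mult (star χ).1 θ.1 : ℕ) : ℤ) = ((S.mult χ.1 (bar θ).1 : ℕ) : ℤ)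
    rw [Nat.cast_inj]
    apply Nat.cast_injective (R := ℂ)
    rw [S.cast_mult, ← Complex.conj_natCast (S.mult χ.1 (bar θ).1), S.cast_mult]
    simp [Cfsg.classInner, star, bar, map_sum]
  · show fsInt χ.1.1 = 0 ∨ fsInt χ.1.1 = 1 ∨ fsInt χ.1.1 = -1
    rw [fsInt]; split_ifs <;> simp
  · show fsInt χ.1.1 = 0
    have h2 := (Char.fsIndicator_irr χ.1.2).2
    have h3 : Char.fsIndicator χ.1.1 = 0 := by
      rw [h2]
      by_contra hall
      push Not at hall
      exact hχ (Subtype.ext (Subtype.ext (funext fun g => Complex.conj_eq_iff_im.mpr (hall g))))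
    rw [fsInt, h3]; norm_num
  · have h1 : S.block.v θ = 1 := S.block.mem_lin.mp hθ
    have h2 := S.sum_nu hh θ
    rw [h1, mul_one] at h2
    exact h2
  · show (Char.degree χ.1.1 : ℤ) ∣ (S.e : ℤ) * (p : ℤ) ^ m * z χ.1
    obtain ⟨n, ρ, hρ, hρe⟩ := χ.1.2
    haveI := hρ
    have hint := Char.isIntegral_index_mul_char_div ρ t
    have hdeg : (Module.finrank ℂ (Fin n → ℂ) : ℂ) = (Char.degree χ.1.1 : ℂ) := by
      rw [Char.IsCharacter.degree_cast (Char.IsIrrCharacter.isCharacter χ.1.2), ← hρe,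
        Representation.char_one]
    rw [hdeg, hρe, hz, hidx] at hint
    obtain ⟨q, hq⟩ := Char.exists_int_of_isIntegral_ratCast
      (q := ((S.e * S.h : ℕ) : ℚ) * (z χ.1 : ℚ) / (Char.degree χ.1.1 : ℚ)) (by
        push_cast; push_cast at hint; exact hint)
    rw [eq_div_iff (Nat.cast_ne_zero.mpr (Char.IsIrrCharacter.degree_pos χ.1.2).ne')] at hq
    have hq' : q * (Char.degree χ.1.1 : ℤ) = ((S.e * S.h : ℕ) : ℤ) * z χ.1 := by exact_mod_cast hq
    refine ⟨q, ?_⟩
    rw [mul_comm _ q, hq', hm]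
    push_cast; ring
  · obtain ⟨r, -, hr⟩ := (Nat.dvd_prime_pow hp).mp
      ((S.card_H.trans hm) ▸ FeitDeg.degree_dvd_card θ.1)
    show (p : ℤ) ∣ (Char.degree θ.1.1 : ℤ)
    refine Int.natCast_dvd_natCast.mpr ?_
    rw [hr]
    refine dvd_pow_self p fun h0 => hθ ?_
    show (Char.degree θ.1.1 : ℤ) = 1
    rw [hr, h0, pow_zero, Nat.cast_one]
  · rw [show ((S.block.lin.card : ℤ) + 1) = (((commutator S.H).index : ℕ) : ℤ) by
      rw [← S.card_lin]; push_cast; ring]
    refine Int.natCast_dvd_natCast.mpr ?_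
    obtain ⟨r, -, hr⟩ := (Nat.dvd_prime_pow hp).mp
      ((S.card_H.trans hm) ▸ (commutator S.H).index_dvd_card)
    rw [hr]
    exact dvd_pow_self p fun h0 => by rw [hr, h0, pow_zero] at hCi; omega
  · show 4 * (S.e : ℤ) ^ 2 < ∑ θ, S.block.v θ ^ 2
    rw [S.mass, show (S.h : ℤ) - 1 = ((S.h - 1 : ℕ) : ℤ) by omega]
    exact_mod_cast hbig

theorem Setup.bound :
    S.h - 1 ≤ 2 * S.e ∨ (IsPGroup 2 S.H ∧ (∃ u v : S.H, u * v ≠ v * u) ∧
      (commutator S.H).index ≤ 4 * S.e ^ 2 + 1) := by
  classical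
  haveI := S.kernel_nilpotent
  by_cases hab : ∀ u v : S.H, u * v = v * u
  · exact Or.inl (S.bound_abelian hab)
  push Not at hab
  have he3 := S.three_le_e
  have hh2 := S.h_two
  have heodd : Odd S.e := S.hO.odd
  have hk : S.e / 2 + 2 < 2 * S.e + 3 := by omega
  by_cases hpg : ∃ p : ℕ, p.Prime ∧ IsPGroup p S.H
  · obtain ⟨p, hp, hH⟩ := hpg
    haveI := Fact.mk hp
    by_cases hp2 : p = 2
    · subst hp2
      by_cases hq : (commutator S.H).index ≤ 4 * S.e ^ 2 + 1
      · exact Or.inr ⟨hH, hab, hq⟩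
      refine Or.inl (S.bound_coherent ?_ fun θ hθ => FeitDeg.pgroup_bounds hH he3 ?_
        (not_le.mp hq) θ hθ)
      · have : S.e * (S.e / 2 + 2) ≤ S.e * (4 * S.e) := Nat.mul_le_mul_left _ (by omega)
        have h4 : S.e * (4 * S.e) = 4 * S.e ^ 2 := by ring
        omega
      · rw [S.card_H]
        have h := S.dvd_h_sub_one
        refine Nat.coprime_of_dvd' fun r _ h1 h2 => ?_
        have h3 := Nat.dvd_sub h2 (h1.trans h)
        rwa [show S.h - (S.h - 1) = 1 by omega] at h3
    · exact (S.false_of_odd_pgroup hp hp2 hH hab).elim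
  · push Not at hpg
    obtain ⟨h1, h2⟩ := FeitDeg.nilpotent_bounds (H := S.H) heodd he3 S.dvd_char S.dvd_orbit hpg
      (by rw [S.card_H]; omega)
    refine Or.inl (S.bound_coherent ?_ h2)
    have := Nat.mul_lt_mul_of_pos_left hk (show 0 < S.e by omega)
    omega

end CfsgLib.FeitData
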