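import Cfsg.Agent.Lib.CharExt.ZassChar
import Cfsg.Agent.Lib.CharExt.AbelianTI
import Cfsg.Agent.Lib.CharExt.FeitBlock
import Cfsg.Agent.Lib.PermChar.Basic
import Cfsg.Agent.Lib.Char.Conj
import Cfsg.Agent.Lib.Char.Complete
import Cfsg.Agent.Lib.Char.Twist

/-!
# Restricting characters of a Zassenhaus group to the kernel of a point stabiliser

Frobenius reciprocity for the kernel, which is a trivial intersection set with stabiliser the
point stabiliser, and the resulting Gram matrix of multiplicities.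
-/

set_option autoImplicit false
set_option linter.unusedSectionVars false
set_option linter.style.haveILetI false

open MulAction
open scoped ComplexConjugate

namespace CfsgLib.FeitData

open CfsgLib.ZassOdd CfsgLib.Zass

universe u w

/-- A Zassenhaus configuration with inverted two-point stabilisers of odd order. -/
structure Setup (G : Type u) (Ω : Type w) [Group G] [MulAction G Ω] [Fintype Ω] where
  a : Ω
  b : Ω
  h : ℕ
  e : ℕ
  H : Subgroup G
  hab : a ≠ b
  hO : Odds G Ω e
  hh : Fintype.card Ω = h + 1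
  hK : Pre.IsKernel a H

variable {G : Type u} {Ω : Type w} [Group G] [MulAction G Ω] [Fintype Ω] [Fintype G]
variable (S : Setup G Ω)

/-- The two-point stabiliser. -/
abbrev Setup.E : Subgroup G := stabilizer G S.a ⊓ stabilizer G S.b

theorem Setup.card_E : Nat.card S.E = S.e := S.hO.card S.a S.b S.hab

theorem Setup.card_H : Nat.card S.H = S.h := by
  have h1 := Pre.IsKernel.card S.hO.pre S.hK
  rw [S.hh] at h1
  omega

theorem Setup.card_stab : Nat.card (stabilizer G S.a) = S.h * S.e := by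
  rw [S.hO.pre.card_stabilizer S.hab, S.hh, Nat.add_sub_cancel, S.hO.card _ _ S.hab]

theorem Setup.card_G : Nat.card G = (S.h + 1) * S.h * S.e := by
  rw [S.hO.pre.card_eq S.hab, S.hh, Nat.add_sub_cancel, S.hO.card _ _ S.hab]

theorem Setup.h_two : 2 ≤ S.h := by
  have := S.hO.pre.three_le_card
  rw [S.hh] at this
  omega

theorem Setup.index_H : S.H.index = (S.h + 1) * S.e := by
  have h1 := S.H.card_mul_index
  rw [S.card_H, S.card_G] at h1
  have := S.h_two
  exact Nat.eq_of_mul_eq_mul_left (by omega : 0 < S.h) (by rw [h1]; ring)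

theorem Setup.three_le_e : 3 ≤ S.e := by
  obtain ⟨g, hg, ga, gb⟩ := S.hO.pre.exists_two_fix S.hab
  have hne : S.e ≠ 1 := by
    intro h
    have h1 := S.hO.pow_e S.hab ga gb
    rw [h, pow_one] at h1
    exact hg h1
  obtain ⟨m, hm⟩ := S.hO.odd
  omega

theorem Setup.dvd_h_sub_one : S.e ∣ S.h - 1 := by
  have h1 := S.hO.pre.card_dvd_sub_two S.hab
  rwa [S.hO.card _ _ S.hab, S.hh, show S.h + 1 - 2 = S.h - 1 by omega] at h1

theorem Setup.mem_stab_of_H {u : G} (hu : u ∈ S.H) : u • S.a = S.a := S.hK.le u hu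

theorem Setup.E_inf_H {x : G} (hx : x ∈ S.E) (hxH : x ∈ S.H) : x = 1 := by
  by_contra h1
  exact S.hab (S.hK.fix x hxH h1 S.b hx.2).symm

theorem Setup.E_comm (x y : G) (hx : x ∈ S.E) (hy : y ∈ S.E) : x * y = y * x := by
  obtain ⟨v, va, vb⟩ := S.hO.exists_swap S.hab
  have h1 := S.hO.inverts S.a S.b S.hab v va vb
  have hxy := h1 (x * y) (S.E.mul_mem hx hy).1 (S.E.mul_mem hx hy).2
  have e1 : v * (x * y) * v⁻¹ = (v * x * v⁻¹) * (v * y * v⁻¹) := by group
  rw [e1, h1 x hx.1 hx.2, h1 y hy.1 hy.2, ← mul_inv_rev, inv_inj] at hxy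
  exact hxy.symm

theorem Setup.conj_mem_H {x u : G} (hx : x • S.a = S.a) (hu : u ∈ S.H) : x * u * x⁻¹ ∈ S.H :=
  S.hK.conj_mem x hx u hu

theorem Setup.decomp {g : G} (hg : g • S.a = S.a) : ∃ k ∈ S.H, ∃ x ∈ S.E, g = x * k := by
  obtain ⟨k, hk, h1, h2⟩ := S.hK.exists_factor S.hab.symm
    (g := g⁻¹) (by rw [inv_smul_eq_iff, hg])
  refine ⟨k⁻¹, S.H.inv_mem hk, (k⁻¹ * g⁻¹)⁻¹, S.E.inv_mem ⟨h1, h2⟩, ?_⟩
  group

theorem Setup.commute_mem {u g : G} (hu : u ∈ S.H) (hu1 : u ≠ 1) (hg : g * u = u * g) :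
    g ∈ S.H := by
  by_cases hg1 : g = 1
  · rw [hg1]; exact S.H.one_mem
  have hga : g • S.a = S.a := by
    refine S.hK.fix u hu hu1 _ ?_
    rw [← mul_smul, ← hg, mul_smul, S.mem_stab_of_H hu]
  refine S.hK.mem g hga fun c hc => ?_
  by_contra hca
  exact hu1 (S.hK.eq_one_of_commute S.hO.pre hca hga hc hg1 hu hg)

/-- Conjugation of the kernel by an element of the two-point stabiliser. -/
noncomputable def Setup.conjE : S.E →* MulAut S.H where
  toFun x :=
    { toFun := fun u => ⟨(x : G) * u * (x : G)⁻¹, S.conj_mem_H x.2.1 u.2⟩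
      invFun := fun u => ⟨(x : G)⁻¹ * u * (x : G)⁻¹⁻¹, S.conj_mem_H (S.E.inv_mem x.2).1 u.2⟩
      left_inv := fun u => Subtype.ext (by simp [mul_assoc])
      right_inv := fun u => Subtype.ext (by simp [mul_assoc])
      map_mul' := fun u v => Subtype.ext (by simp [mul_assoc]) }
  map_one' := MulEquiv.ext fun u => Subtype.ext (by simp)
  map_mul' x y := MulEquiv.ext fun u => Subtype.ext (by simp [mul_assoc])

theorem Setup.coe_conjE (x : S.E) (u : S.H) :
    ((S.conjE x u : S.H) : G) = (x : G) * u * (x : G)⁻¹ := rfl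

variable [Fintype S.H]

/-- The nonprincipal irreducible characters of the kernel. -/
abbrev Setup.Theta : Type u := {θ : Cfsg.IrrCharacter S.H // θ ≠ Char.principalIrr}

/-- The irreducible characters, other than the principal one, without fixed vectors for the
kernel. -/
abbrev Setup.Rest : Type u :=
  {χ : Cfsg.IrrCharacter G // χ ≠ Char.principalIrr ∧
    Cfsg.classInner (fun u : S.H => χ.1 u) (fun _ => 1) = 0}

/-- Multiplicities on restriction to the kernel. -/
noncomputable def Setup.mult (χ : Cfsg.IrrCharacter G) (θ : Cfsg.IrrCharacter S.H) : ℕ :=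
  ⌊(Cfsg.classInner (fun u : S.H => χ.1 u) θ.1).re⌋₊

theorem Setup.cast_mult (χ : Cfsg.IrrCharacter G) (θ : Cfsg.IrrCharacter S.H) :
    (S.mult χ θ : ℂ) = Cfsg.classInner (fun u : S.H => χ.1 u) θ.1 := by
  obtain ⟨k, hk⟩ := Char.IsCharacter.exists_nat_classInner
    (Char.IsCharacter.restrict (Char.IsIrrCharacter.isCharacter χ.2) S.H) θ.2
  rw [Setup.mult, hk, Complex.natCast_re, Nat.floor_natCast]

/-- Two characters of the kernel are related when a two-point stabiliser element carries one to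
the other. -/
def Setup.rel (θ θ' : Cfsg.IrrCharacter S.H) : Prop :=
  ∃ x : S.E, θ'.1 = θ.1 ∘ (S.conjE x)

theorem Setup.rel_equiv : Equivalence S.rel := by
  refine ⟨fun θ => ⟨1, by rw [map_one]; rfl⟩, fun {θ θ'} ⟨x, hx⟩ => ⟨x⁻¹, ?_⟩,
    fun {θ θ' θ''} ⟨x, hx⟩ ⟨y, hy⟩ => ⟨x * y, ?_⟩⟩
  · rw [hx]
    funext u
    simp only [Function.comp_apply, ← MulAut.mul_apply, ← map_mul, mul_inv_cancel, map_one,
      MulAut.one_apply]
  · rw [hy, hx]
    funext u
    simp only [Function.comp_apply, map_mul, MulAut.mul_apply]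

theorem Setup.rel_principal {θ θ' : Cfsg.IrrCharacter S.H} (h : S.rel θ θ')
    (hθ : θ = Char.principalIrr) : θ' = Char.principalIrr := by
  obtain ⟨x, hx⟩ := h
  refine Subtype.ext (funext fun u => ?_)
  rw [hx, hθ]; simp

theorem Setup.eq_one_of_fixed {θ : Cfsg.IrrCharacter S.H} (hθ : θ ≠ Char.principalIrr) {x : S.E}
    (hx : θ.1 ∘ (S.conjE x) = θ.1) : x = 1 := by
  classical
  by_contra hx1
  have h1 := Char.card_fixed_irr_eq_card_fixed_classes (G := S.H) (fun u => S.conjE x u)
    fun χ hχ => CharTwist.isIrrCharacter_comp_equiv hχ (S.conjE x)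
  have hsub : Subsingleton {C : ConjClasses S.H // ∀ u : S.H, ConjClasses.mk u = C →
      IsConj (S.conjE x u) u} := by
    refine ⟨fun C D => ?_⟩
    have key : ∀ C : {C : ConjClasses S.H // ∀ u : S.H, ConjClasses.mk u = C →
        IsConj (S.conjE x u) u}, C.1 = ConjClasses.mk 1 := by
      rintro ⟨C, hC⟩
      obtain ⟨u, rfl⟩ := ConjClasses.exists_rep C
      obtain ⟨w, hw⟩ := isConj_iff.mp (hC u rfl)
      by_contra hne
      have hu1 : (u : G) ≠ 1 := fun e => hne (congrArg ConjClasses.mk (show u = 1 from Subtype.ext e))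
      have hw' : (w : G) * ((x : G) * u * (x : G)⁻¹) * (w : G)⁻¹ = u := congrArg Subtype.val hw
      have hc : ((w : G) * x) * u = u * ((w : G) * x) := by
        calc ((w : G) * x) * u = ((w : G) * ((x : G) * u * (x : G)⁻¹) * (w : G)⁻¹) * (w * x) := by
              group
          _ = u * ((w : G) * x) := by rw [hw']
      have h2 := S.H.mul_mem (S.H.inv_mem w.2) (S.commute_mem u.2 hu1 hc)
      rw [inv_mul_cancel_left] at h2
      exact hx1 (Subtype.ext (S.E_inf_H x.2 h2))
    exact Subtype.ext ((key C).trans (key D).symm)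
  haveI := hsub
  have h2 : 1 < Nat.card {χ : Cfsg.IrrCharacter S.H //
      (χ : S.H → ℂ) ∘ (fun u => S.conjE x u) = (χ : S.H → ℂ)} := by
    refine Finite.one_lt_card_iff_nontrivial.mpr
      ⟨⟨⟨θ, hx⟩, ⟨Char.principalIrr, funext fun u => by simp⟩, fun h => hθ (congrArg Subtype.val h)⟩⟩
  rw [h1] at h2
  exact absurd (Finite.one_lt_card_iff_nontrivial.mp h2) (not_nontrivial_iff_subsingleton.mpr hsub)

theorem Setup.comp_inj {θ : Cfsg.IrrCharacter S.H} (hθ : θ ≠ Char.principalIrr) {x y : S.E}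
    (h : θ.1 ∘ (S.conjE x) = θ.1 ∘ (S.conjE y)) : x = y := by
  refine mul_inv_eq_one.mp (S.eq_one_of_fixed hθ (funext fun u => ?_))
  have h1 := congrFun h (S.conjE y⁻¹ u)
  simp only [Function.comp_apply, ← MulAut.mul_apply, ← map_mul, mul_inv_cancel, map_one,
    MulAut.one_apply] at h1
  simpa using h1

theorem Setup.card_rel {θ : Cfsg.IrrCharacter S.H} (hθ : θ ≠ Char.principalIrr) :
    Nat.card {θ' : Cfsg.IrrCharacter S.H // S.rel θ θ'} = S.e := by
  rw [← S.card_E]
  refine (Nat.card_congr (Equiv.ofBijective (fun x : S.E => (⟨⟨θ.1 ∘ (S.conjE x),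
    CharTwist.isIrrCharacter_comp_equiv θ.2 _⟩, x, rfl⟩ :
      {θ' : Cfsg.IrrCharacter S.H // S.rel θ θ'})) ⟨fun x y h => ?_, fun θ' => ?_⟩)).symm
  · exact S.comp_inj hθ (congrArg (fun z => z.1.1) h)
  · obtain ⟨x, hx⟩ := θ'.2
    exact ⟨x, Subtype.ext (Subtype.ext hx.symm)⟩

/-- Values of an induced class function on the kernel. -/
theorem Setup.ind_apply [Fintype S.E] (θ : S.H → ℂ) (hθ : Cfsg.IsClassFunction S.H θ)
    (u : S.H) (hu : u ≠ 1) :
    Cfsg.indFun S.H θ (u : G) = ∑ x : S.E, θ (S.conjE x u) := by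
  classical
  have hu' : (u : G) ≠ 1 := fun e => hu (Subtype.ext e)
  let ι : S.E × S.H → G := fun z => (z.1 : G) * z.2
  have hι : Function.Injective ι := by
    rintro ⟨x, k⟩ ⟨x', k'⟩ h
    have h1 : ((x'⁻¹ * x : S.E) : G) = ((k' * k⁻¹ : S.H) : G) := by
      show (x' : G)⁻¹ * x = (k' : G) * (k : G)⁻¹
      rw [eq_mul_inv_iff_mul_eq, mul_assoc, show (x : G) * k = x' * k' from h, inv_mul_cancel_left]
    have h2 := S.E_inf_H (x'⁻¹ * x).2 (h1 ▸ (k' * k⁻¹).2)
    have h3 : x = x' := (inv_mul_eq_one.mp (Subtype.ext h2 : x'⁻¹ * x = 1)).symm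
    subst h3
    exact Prod.ext rfl (Subtype.ext (mul_left_cancel (h : (x : G) * k = x * k')))
  rw [Char.indFun_apply, ← Finset.sum_subset (Finset.subset_univ (Finset.univ.image ι))
    fun g _ hg => ?_, Finset.sum_image fun z _ z' _ h => hι h, Fintype.sum_prod_type]
  · have hterm : ∀ (x : S.E) (k : S.H),
        Cfsg.extendByZero S.H θ ((ι (x, k))⁻¹ * u * ι (x, k)) = θ (S.conjE x⁻¹ u) := by
      intro x k
      have h1 : (ι (x, k))⁻¹ * u * ι (x, k) =
          ((k⁻¹ * S.conjE x⁻¹ u * k : S.H) : G) := by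
        simp only [ι, Subgroup.coe_mul, Subgroup.coe_inv, S.coe_conjE, inv_inv]
        group
      rw [h1, Char.extendByZero_coe]
      have := hθ (S.conjE x⁻¹ u) k⁻¹
      rwa [inv_inv] at this
    simp only [hterm, Finset.sum_const, Finset.card_univ, nsmul_eq_mul, ← Finset.mul_sum]
    rw [← Nat.card_eq_fintype_card,
      inv_mul_cancel_left₀ (Nat.cast_ne_zero.mpr Nat.card_pos.ne')]
    exact Fintype.sum_equiv (Equiv.inv S.E) _ _ fun x => rfl
  · refine Char.extendByZero_of_notMem _ _ fun hm => hg ?_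
    have hga : g • S.a = S.a := by
      refine S.hK.fix u u.2 hu' _ ?_
      have h2 := S.mem_stab_of_H hm
      rw [mul_smul, mul_smul, inv_smul_eq_iff] at h2
      exact h2
    obtain ⟨k, hk, x, hx, rfl⟩ := S.decomp hga
    exact Finset.mem_image.mpr ⟨(⟨x, hx⟩, ⟨k, hk⟩), Finset.mem_univ _, rfl⟩

theorem classInner_delta {K : Type u} [Group K] [Fintype K] [DecidableEq K] (c : ℂ) (φ : K → ℂ) :
    Cfsg.classInner (fun g => if g = 1 then c else 0) φ =
      c * conj (φ 1) / (Nat.card K : ℂ) := by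
  simp [Cfsg.classInner, ite_mul, div_eq_inv_mul]

open Classical in
/-- The Gram matrix of the multiplicities over all irreducible characters of `G`. -/
theorem Setup.gram (θ θ' : Cfsg.IrrCharacter S.H) :
    (∑ χ : Cfsg.IrrCharacter G, S.mult χ θ * S.mult χ θ' : ℕ) =
      (if θ = Char.principalIrr then (if θ' = Char.principalIrr then S.e else 0)
        else if S.rel θ θ' then 1 else 0) + S.e * Char.degree θ.1 * Char.degree θ'.1 := by
  haveI := Fintype.ofFinite S.E
  have hm : ∀ (χ : Cfsg.IrrCharacter G) (φ : Cfsg.IrrCharacter S.H),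
      Cfsg.classInner (Cfsg.indFun S.H φ.1) χ.1 = (S.mult χ φ : ℂ) := by
    intro χ φ
    rw [Char.classInner_indFun _ _ _ (Char.IsIrrCharacter.isClassFunction χ.2),
      ← Char.classInner_conj_symm, ← S.cast_mult, Complex.conj_natCast]
  apply Nat.cast_injective (R := ℂ)
  push_cast
  rw [Finset.sum_congr rfl fun χ _ => show ((S.mult χ θ : ℂ)) * (S.mult χ θ' : ℂ) =
      Cfsg.classInner (Cfsg.indFun S.H θ.1) χ.1 *
        conj (Cfsg.classInner (Cfsg.indFun S.H θ'.1) χ.1) by rw [hm, hm, Complex.conj_natCast],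
    ← Char.classInner_eq_sum (Char.isClassFunction_indFun _ _) (Char.isClassFunction_indFun _ _),
    Char.classInner_indFun _ _ _ (Char.isClassFunction_indFun _ _)]
  have hres : (fun u : S.H => Cfsg.indFun S.H θ'.1 (u : G)) =
      (∑ x : S.E, θ'.1 ∘ (S.conjE x)) +
        fun u => if u = 1 then ((S.h * S.e : ℕ) : ℂ) * θ'.1 1 else 0 := by
    funext u
    simp only [Pi.add_apply, Finset.sum_apply, Function.comp_apply]
    by_cases hu : u = 1
    · subst hu
      simp only [OneMemClass.coe_one, map_one, if_pos, Finset.sum_const, Finset.card_univ,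
        nsmul_eq_mul]
      rw [Char.indFun_apply_one, S.index_H, ← Nat.card_eq_fintype_card, S.card_E]
      push_cast; ring
    · rw [if_neg hu, add_zero,
        S.ind_apply θ'.1 (Char.IsIrrCharacter.isClassFunction θ'.2) u hu]
  rw [hres, Char.classInner_add_right, Char.classInner_sum_right]
  congr 1
  · have hterm : ∀ x : S.E, Cfsg.classInner θ.1 (θ'.1 ∘ (S.conjE x)) =
        if θ.1 = θ'.1 ∘ (S.conjE x) then 1 else 0 := fun x =>
      Char.classInner_irr θ.2 (CharTwist.isIrrCharacter_comp_equiv θ'.2 _)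
    rw [Finset.sum_congr rfl fun x _ => hterm x, Finset.sum_boole]
    by_cases hp : θ = Char.principalIrr
    · rw [if_pos hp]
      by_cases hp' : θ' = Char.principalIrr
      · rw [if_pos hp', Finset.filter_true_of_mem fun x _ => ?_, Finset.card_univ,
          ← Nat.card_eq_fintype_card, S.card_E]
        rw [hp, hp']; funext u; simp
      · rw [if_neg hp', Finset.filter_false_of_mem fun x _ h => hp' (S.rel_principal
          (θ := θ) (θ' := θ') (S.rel_equiv.symm ⟨x, h⟩) hp)]
        simp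
    · rw [if_neg hp]
      by_cases hr : S.rel θ θ'
      · obtain ⟨x₀, hx₀⟩ := S.rel_equiv.symm hr
        have hp' : θ' ≠ Char.principalIrr := fun h => hp (S.rel_principal (S.rel_equiv.symm hr) h)
        rw [if_pos hr, Finset.card_eq_one.mpr ⟨x₀, Finset.eq_singleton_iff_unique_mem.mpr
          ⟨Finset.mem_filter.mpr ⟨Finset.mem_univ _, hx₀⟩, fun x hx =>
            S.comp_inj hp' ((Finset.mem_filter.mp hx).2.symm.trans hx₀)⟩⟩]
        simp
      · rw [if_neg hr, Finset.filter_false_of_mem fun x _ h => hr (S.rel_equiv.symm ⟨x, h⟩)]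
        simp
  · rw [← Char.classInner_conj_symm, classInner_delta, S.card_H,
      ← Char.IsCharacter.degree_cast (Char.IsIrrCharacter.isCharacter θ.2),
      ← Char.IsCharacter.degree_cast (Char.IsIrrCharacter.isCharacter θ'.2)]
    simp only [map_div₀, map_mul, Complex.conj_natCast]
    have : (S.h : ℂ) ≠ 0 := Nat.cast_ne_zero.mpr (by have := S.h_two; omega)
    push_cast
    field_simp

/-- A function constant away from the identity. -/
theorem Setup.mult_of_const {χ : Cfsg.IrrCharacter G} {r : ℂ} {D : ℕ}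
    (hr : ∀ u ∈ S.H, u ≠ 1 → χ.1 u = r) (hD : χ.1 1 = r + D) (θ : Cfsg.IrrCharacter S.H) :
    (S.mult χ θ : ℂ) = (if θ = Char.principalIrr then r else 0) +
      (D : ℂ) * Char.degree θ.1 / S.h := by
  classical
  have hf : (fun u : S.H => χ.1 u) = (fun _ => r) + fun u => if u = 1 then (D : ℂ) else 0 := by
    funext u
    simp only [Pi.add_apply]
    by_cases hu : u = 1
    · subst hu
      rw [if_pos rfl, OneMemClass.coe_one, hD]
    · rw [if_neg hu, add_zero, hr u u.2 fun e => hu (Subtype.ext e)]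
  rw [S.cast_mult, hf, Char.classInner_add_left, classInner_delta, S.card_H,
    ← Char.IsCharacter.degree_cast (Char.IsIrrCharacter.isCharacter θ.2), Complex.conj_natCast]
  congr 1
  rw [show (fun _ : S.H => r) = r • (fun _ : S.H => (1 : ℂ)) by funext u; simp,
    Char.classInner_smul_left, show (fun _ : S.H => (1 : ℂ)) =
      (Char.principalIrr : Cfsg.IrrCharacter S.H).1 from funext fun u => by simp,
    Char.classInner_irrCharacter]
  by_cases hp : θ = Char.principalIrr
  · rw [if_pos hp, if_pos hp.symm, mul_one]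
  · rw [if_neg hp, if_neg (Ne.symm hp), mul_zero]

end CfsgLib.FeitData
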