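import Cfsg.Agent.Lib.Char.Complete
import Cfsg.Agent.Lib.Char.Twist
import Cfsg.Agent.Lib.Char.Virtual
import Cfsg.Agent.Lib.Char.Linear
import Cfsg.Agent.Lib.Char.Integral
import Mathlib.GroupTheory.SchurZassenhaus
import Mathlib.GroupTheory.FiniteAbelian.Duality
import Mathlib.GroupTheory.Nilpotent
import Mathlib.RingTheory.RootsOfUnity.AlgebraicallyClosed

/-!
# Degrees of characters of a nilpotent group with a free action

Sums of squares of the degrees below a given one, when a group of order `e` acts freely on the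
nonprincipal characters.
-/

set_option autoImplicit false

open scoped ComplexConjugate

namespace CfsgLib.FeitDeg

universe u

variable {H : Type u} [Group H] [Fintype H]

theorem mul_apply_of_trivial {χ : H → ℂ} (hχ : Cfsg.IsIrrCharacter H χ) {N : Subgroup H}
    (hN : ∀ x ∈ N, χ x = χ 1) (g : H) {x : H} (hx : x ∈ N) : χ (g * x) = χ g := by
  obtain ⟨n, ρ, hρ, rfl⟩ := hχ
  have h := hN x hx
  rw [Representation.char_one] at h
  rw [Representation.character, map_mul, (Char.character_eq_degree_iff ρ x).mp h]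
  rfl

open Classical in
/-- The squared degrees of the characters trivial on a normal subgroup add up to its index. -/
theorem sum_sq_trivial_on (N : Subgroup H) [N.Normal] :
    ∑ χ ∈ Finset.univ.filter (fun χ : Cfsg.IrrCharacter H => ∀ x ∈ N, χ.1 x = χ.1 1),
      Char.degree χ.1 ^ 2 = N.index := by
  haveI := Fintype.ofFinite (H ⧸ N)
  rw [show N.index = Nat.card (H ⧸ N) from rfl, ← Char.sum_degree_sq]
  symm
  refine Finset.sum_bij (fun η _ => (⟨η.1 ∘ QuotientGroup.mk' N,
    CharTwist.isIrrCharacter_comp η.2 _ (QuotientGroup.mk'_surjective N)⟩ :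
      Cfsg.IrrCharacter H)) ?_ ?_ ?_ ?_
  · intro η _
    refine Finset.mem_filter.mpr ⟨Finset.mem_univ _, fun x hx => ?_⟩
    show η.1 (QuotientGroup.mk' N x) = η.1 (QuotientGroup.mk' N 1)
    rw [map_one]
    exact congrArg η.1 ((QuotientGroup.eq_one_iff x).mpr hx)
  · intro η _ η' _ h
    refine Subtype.ext (funext fun q => ?_)
    obtain ⟨x, rfl⟩ := QuotientGroup.mk'_surjective N q
    exact congrFun (congrArg Subtype.val h) x
  · intro χ hχ
    obtain ⟨η, hη, he⟩ := CharTwist.exists_irr_quotient χ.2 N (Finset.mem_filter.mp hχ).2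
    exact ⟨⟨η, hη⟩, Finset.mem_univ _, Subtype.ext he.symm⟩
  · intro η _
    simp only [Char.degree, Function.comp_apply, map_one]

theorem degree_dvd_card (χ : Cfsg.IrrCharacter H) : Char.degree χ.1 ∣ Nat.card H := by
  obtain ⟨n, ρ, hρ, he⟩ := χ.2
  haveI := hρ
  have h : Char.degree χ.1 = Module.finrank ℂ (Fin n → ℂ) := by
    have h1 := Char.IsCharacter.degree_cast (Char.IsIrrCharacter.isCharacter χ.2)
    rw [← he, Representation.char_one] at h1
    rw [← he]
    exact_mod_cast h1
  rw [h]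
  exact Char.finrank_dvd_card ρ

theorem degree_dvd_index (χ : Cfsg.IrrCharacter H) (N : Subgroup H) [N.Normal]
    (hN : ∀ x ∈ N, χ.1 x = χ.1 1) : Char.degree χ.1 ∣ N.index := by
  haveI := Fintype.ofFinite (H ⧸ N)
  obtain ⟨η, hη, he⟩ := CharTwist.exists_irr_quotient χ.2 N hN
  have h := degree_dvd_card (⟨η, hη⟩ : Cfsg.IrrCharacter (H ⧸ N))
  rw [show N.index = Nat.card (H ⧸ N) from rfl]
  convert h using 1
  rw [he]
  simp only [Char.degree, Function.comp_apply, map_one]

/-- The degree as a natural number. -/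
theorem apply_one (χ : Cfsg.IrrCharacter H) : χ.1 1 = (Char.degree χ.1 : ℂ) :=
  (Char.IsCharacter.degree_cast (Char.IsIrrCharacter.isCharacter χ.2)).symm

open Classical in
/-- There are as many characters of degree one as the index of the commutator subgroup. -/
theorem card_linear :
    (Finset.univ.filter (fun χ : Cfsg.IrrCharacter H => Char.degree χ.1 = 1)).card =
      (commutator H).index := by
  haveI : Finite (Abelianization H) := inferInstanceAs (Finite (H ⧸ commutator H))
  haveI : NeZero (Monoid.exponent (Abelianization H)) := ⟨Monoid.exponent_ne_zero_of_finite⟩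
  have h1 : Nat.card (Abelianization H →* ℂˣ) = (commutator H).index :=
    CommGroup.card_monoidHom_of_hasEnoughRootsOfUnity (Abelianization H) ℂ
  have h2 : Nat.card (H →* ℂˣ) = (commutator H).index :=
    (Nat.card_congr Abelianization.lift).trans h1
  haveI : Finite (H →* ℂˣ) := Nat.finite_of_card_ne_zero (by
    rw [h2]; exact Subgroup.index_ne_zero_of_finite)
  haveI := Fintype.ofFinite (H →* ℂˣ)
  rw [← h2, Nat.card_eq_fintype_card, ← Finset.card_univ]
  symm
  refine Finset.card_bij (fun f _ => (⟨fun g => (f g : ℂ), Char.isIrrCharacter_linear f⟩ :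
    Cfsg.IrrCharacter H)) ?_ ?_ ?_
  · intro f _
    refine Finset.mem_filter.mpr ⟨Finset.mem_univ _, ?_⟩
    simp [Char.degree]
  · intro f _ f' _ h
    exact MonoidHom.ext fun g => Units.ext (congrFun (congrArg Subtype.val h) g)
  · intro χ hχ
    obtain ⟨f, hf⟩ := Char.IsCharacter.exists_linear (Char.IsIrrCharacter.isCharacter χ.2)
      (by rw [apply_one, (Finset.mem_filter.mp hχ).2, Nat.cast_one])
    exact ⟨f, Finset.mem_univ _, Subtype.ext (funext fun g => (hf g).symm)⟩

open Classical in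
/-- A character trivial on the commutator subgroup has degree one. -/
theorem degree_eq_one_of_trivial {χ : Cfsg.IrrCharacter H}
    (hχ : ∀ x ∈ commutator H, χ.1 x = χ.1 1) : Char.degree χ.1 = 1 := by
  have hsum := sum_sq_trivial_on (commutator H)
  rw [← card_linear, Finset.card_eq_sum_ones] at hsum
  have hsub : Finset.univ.filter (fun χ : Cfsg.IrrCharacter H => Char.degree χ.1 = 1) ⊆
      Finset.univ.filter (fun χ => ∀ x ∈ commutator H, χ.1 x = χ.1 1) := by
    intro ψ hψ
    obtain ⟨f, hf⟩ := Char.IsCharacter.exists_linear (Char.IsIrrCharacter.isCharacter ψ.2)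
      (by rw [apply_one, (Finset.mem_filter.mp hψ).2, Nat.cast_one])
    refine Finset.mem_filter.mpr ⟨Finset.mem_univ _, fun x hx => ?_⟩
    rw [hf, hf, MonoidHom.mem_ker.mp (Abelianization.commutator_subset_ker f hx), map_one]
  by_contra hd
  rw [← Finset.sum_sdiff hsub, Finset.sum_congr rfl (g := fun _ => 1)
    (s₁ := Finset.univ.filter (fun χ : Cfsg.IrrCharacter H => Char.degree χ.1 = 1))
    fun ψ hψ => by rw [(Finset.mem_filter.mp hψ).2, one_pow], Nat.add_eq_right] at hsum
  have h2 := Finset.sum_eq_zero_iff.mp hsum χ (by simp [hd]; exact hχ)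
  exact (Char.IsIrrCharacter.degree_pos χ.2).ne' (pow_eq_zero_iff two_ne_zero |>.mp h2)

open Classical in
/-- Linear characters trivial on a normal subgroup. -/
theorem card_linear_trivial (K : Subgroup H) [K.Normal] :
    (commutator H ⊔ K).index ≤ Nat.card {α : Cfsg.IrrCharacter H //
      (∀ x ∈ K, α.1 x = α.1 1) ∧ Char.degree α.1 = 1} := by
  rw [← sum_sq_trivial_on (commutator H ⊔ K), Nat.card_eq_fintype_card, Fintype.card_subtype,
    Finset.card_eq_sum_ones]
  refine le_trans (le_of_eq (Finset.sum_congr rfl fun χ hχ => ?_))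
    (Finset.sum_le_sum_of_subset fun χ hχ => ?_)
  · rw [degree_eq_one_of_trivial fun x hx => (Finset.mem_filter.mp hχ).2 x
      (Subgroup.mem_sup_left hx), one_pow]
  · have h := (Finset.mem_filter.mp hχ).2
    exact Finset.mem_filter.mpr ⟨Finset.mem_univ _, fun x hx => h x (Subgroup.mem_sup_right hx),
      degree_eq_one_of_trivial fun x hx => h x (Subgroup.mem_sup_left hx)⟩

/-- In a nilpotent group the Sylow subgroup has a normal, indeed characteristic, complement. -/
theorem exists_split [Group.IsNilpotent H] (p : ℕ) [Fact p.Prime] :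
    ∃ P Q : Subgroup H, P.Characteristic ∧ Q.Characteristic ∧ Subgroup.IsComplement' P Q ∧
      Q.index = p ^ (Nat.card H).factorization p ∧ (Nat.card Q).Coprime p := by
  let P : Sylow p H := default
  haveI hPc : (P : Subgroup H).Characteristic := P.characteristic_of_normal inferInstance
  obtain ⟨Q, hQ⟩ := Subgroup.exists_right_complement'_of_coprime (N := (P : Subgroup H))
    P.card_coprime_index
  have hcard : Nat.card Q = (P : Subgroup H).index := hQ.symm.index_eq_card.symm
  have hcop : (Nat.card Q).Coprime p := by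
    rw [hcard, Nat.coprime_comm]
    exact (Fact.out : p.Prime).coprime_iff_not_dvd.mpr P.not_dvd_index
  have hprod : Nat.card H = Nat.card Q * Q.index := (Subgroup.card_mul_index Q).symm
  have hQi : Q.index = p ^ (Nat.card H).factorization p := by
    rw [← P.card_eq_multiplicity]
    exact hQ.index_eq_card
  -- the Sylow subgroups for the other primes lie in the complement
  have hnorm : Q.Normal := by
    let S : Subgroup H := ⨆ (q : {q : ℕ // q.Prime ∧ q ≠ p}) (R : Sylow q.1 H), (R : Subgroup H)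
    haveI hS : S.Normal := by
      haveI : ∀ q : {q : ℕ // q.Prime ∧ q ≠ p},
          (⨆ R : Sylow q.1 H, (R : Subgroup H)).Normal := fun q => by
        haveI := Fact.mk q.2.1
        exact Subgroup.iSup_normal _
      exact Subgroup.iSup_normal _
    have hle : S ≤ Q := by
      refine iSup_le fun q => iSup_le fun R => ?_
      haveI := Fact.mk q.2.1
      let RQ : Sylow q.1 Q := default
      obtain ⟨R', hR'⟩ := (RQ.2.map Q.subtype).exists_le_sylow
      haveI := Sylow.unique_of_normal R inferInstance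
      have hcardR : Nat.card R = Nat.card RQ := by
        rw [R.card_eq_multiplicity, RQ.card_eq_multiplicity, hprod,
          Nat.factorization_mul Nat.card_pos.ne' Subgroup.index_ne_zero_of_finite, hQi,
          Nat.factorization_pow, Finsupp.add_apply, Finsupp.smul_apply,
          (Fact.out : p.Prime).factorization, Finsupp.single_apply, if_neg (Ne.symm q.2.2)]
        simp
      rw [Subsingleton.elim R' R] at hR'
      have he := Subgroup.eq_of_le_of_card_ge hR' (le_of_eq (by
        rw [Subgroup.card_map_of_injective Q.subtype_injective]; exact hcardR))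
      rw [← he]
      exact Subgroup.map_subtype_le _
    have hge : Nat.card Q ∣ Nat.card S := by
      refine (Nat.dvd_iff_prime_pow_dvd_dvd _ _).mpr fun q k hq hk => ?_
      rcases Nat.eq_zero_or_pos k with rfl | hk0
      · simp
      haveI := Fact.mk hq
      have hqp : q ≠ p := by
        rintro rfl
        exact (Fact.out : Nat.Prime q).coprime_iff_not_dvd.mp hcop.symm
          ((dvd_pow_self q hk0.ne').trans hk)
      have h1 : q ^ k ∣ Nat.card ↥(default : Sylow q H) :=
        (default : Sylow q H).pow_dvd_card_of_pow_dvd_card (hk.trans (Subgroup.card_subgroup_dvd_card Q))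
      exact h1.trans (Subgroup.card_dvd_of_le (le_iSup_of_le (⟨q, hq, hqp⟩ : {q : ℕ // q.Prime ∧ q ≠ p})
        (le_iSup (fun R : Sylow q H => (R : Subgroup H)) default)))
    rw [← Subgroup.eq_of_le_of_card_ge hle (Nat.le_of_dvd Nat.card_pos hge)]
    exact hS
  haveI := hnorm
  have hmem : ∀ x : H, x ∈ Q ↔ (orderOf x).Coprime p := by
    intro x
    constructor
    · intro hx
      exact Nat.Coprime.coprime_dvd_left
        (Subgroup.orderOf_mk x hx ▸ orderOf_dvd_natCard (⟨x, hx⟩ : Q)) hcop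
    · intro hx
      rw [← QuotientGroup.eq_one_iff]
      refine orderOf_eq_one_iff.mp (Nat.eq_one_of_dvd_coprimes
        (hx.pow_right ((Nat.card H).factorization p)) (orderOf_map_dvd (QuotientGroup.mk' Q) x) ?_)
      rw [← hQi]
      exact orderOf_dvd_natCard _
  refine ⟨P, Q, hPc, Subgroup.characteristic_iff_map_le.mpr ?_, hQ, hQi, hcop⟩
  rintro φ _ ⟨x, hx, rfl⟩
  rw [hmem]
  rw [SetLike.mem_coe, hmem] at hx
  rwa [orderOf_injective φ.toMonoidHom φ.injective]

section Products

variable (P Q : Subgroup H) [P.Normal] [Q.Normal]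

theorem commute_of_complement (hPQ : Subgroup.IsComplement' P Q) {x y : H} (hx : x ∈ P)
    (hy : y ∈ Q) : x * y = y * x :=
  Subgroup.commute_of_normal_of_disjoint P Q inferInstance inferInstance hPQ.disjoint x y hx hy

theorem sum_mul_eq (hPQ : Subgroup.IsComplement' P Q) [Fintype P] [Fintype Q] (f : H → ℂ) :
    ∑ g : H, f g = ∑ x : P, ∑ y : Q, f ((x : H) * (y : H)) := by
  rw [← Fintype.sum_prod_type']
  exact (Fintype.sum_bijective (fun z : P × Q => (z.1 : H) * (z.2 : H)) hPQ _ _ fun _ => rfl).symm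

open Classical in
/-- Irreducible characters of a product are the products of those of the factors. -/
theorem product_irr (hPQ : Subgroup.IsComplement' P Q) :
    ∃ m : {α : Cfsg.IrrCharacter H // ∀ x ∈ Q, α.1 x = α.1 1} →
        {β : Cfsg.IrrCharacter H // ∀ x ∈ P, β.1 x = β.1 1} → Cfsg.IrrCharacter H,
      (∀ α β, Char.degree (m α β).1 = Char.degree α.1.1 * Char.degree β.1.1) ∧
      (∀ α β α' β', m α β = m α' β' → α = α' ∧ β = β') ∧
      (∀ θ, ∃ α β, m α β = θ) := by
  haveI := Fintype.ofFinite P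
  haveI := Fintype.ofFinite Q
  have hinner : ∀ (α α' : {α : Cfsg.IrrCharacter H // ∀ x ∈ Q, α.1 x = α.1 1})
      (β β' : {β : Cfsg.IrrCharacter H // ∀ x ∈ P, β.1 x = β.1 1}),
      Cfsg.classInner (α.1.1 * β.1.1) (α'.1.1 * β'.1.1) =
        Cfsg.classInner α.1.1 α'.1.1 * Cfsg.classInner β.1.1 β'.1.1 := by
    intro α α' β β'
    have e1 : ∀ (x : P) (y : Q) (γ : {α : Cfsg.IrrCharacter H // ∀ x ∈ Q, α.1 x = α.1 1}),
        γ.1.1 ((x : H) * y) = γ.1.1 x := fun x y γ => mul_apply_of_trivial γ.1.2 γ.2 _ y.2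
    have e2 : ∀ (x : P) (y : Q) (γ : {β : Cfsg.IrrCharacter H // ∀ x ∈ P, β.1 x = β.1 1}),
        γ.1.1 ((x : H) * y) = γ.1.1 y := fun x y γ => by
      rw [commute_of_complement P Q hPQ x.2 y.2]
      exact mul_apply_of_trivial γ.1.2 γ.2 _ x.2
    simp only [Cfsg.classInner, Pi.mul_apply]
    rw [sum_mul_eq P Q hPQ (fun g => α.1.1 g * β.1.1 g * conj (α'.1.1 g * β'.1.1 g)),
      sum_mul_eq P Q hPQ (fun g => α.1.1 g * conj (α'.1.1 g)),
      sum_mul_eq P Q hPQ (fun g => β.1.1 g * conj (β'.1.1 g))]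
    simp only [e1, e2, map_mul, Finset.sum_const, Finset.card_univ, nsmul_eq_mul]
    rw [← Finset.mul_sum, ← Subgroup.IsComplement'.card_mul hPQ, Nat.cast_mul,
      Nat.card_eq_fintype_card, Nat.card_eq_fintype_card]
    have h1 : (Fintype.card P : ℂ) ≠ 0 := Nat.cast_ne_zero.mpr Fintype.card_ne_zero
    have h2 : (Fintype.card Q : ℂ) ≠ 0 := Nat.cast_ne_zero.mpr Fintype.card_ne_zero
    field_simp
    rw [Finset.sum_mul]
    refine Finset.sum_congr rfl fun x _ => ?_
    rw [Finset.mul_sum]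
    exact Finset.sum_congr rfl fun y _ => by ring
  have hirr : ∀ (α : {α : Cfsg.IrrCharacter H // ∀ x ∈ Q, α.1 x = α.1 1})
      (β : {β : Cfsg.IrrCharacter H // ∀ x ∈ P, β.1 x = β.1 1}),
      Cfsg.IsIrrCharacter H (α.1.1 * β.1.1) := fun α β =>
    Char.IsCharacter.isIrrCharacter_of_classInner_self
      (Char.IsCharacter.mul (Char.IsIrrCharacter.isCharacter α.1.2)
        (Char.IsIrrCharacter.isCharacter β.1.2))
      (by rw [hinner, Char.classInner_irr_self α.1.2, Char.classInner_irr_self β.1.2, mul_one])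
  let m : {α : Cfsg.IrrCharacter H // ∀ x ∈ Q, α.1 x = α.1 1} →
      {β : Cfsg.IrrCharacter H // ∀ x ∈ P, β.1 x = β.1 1} → Cfsg.IrrCharacter H :=
    fun α β => ⟨α.1.1 * β.1.1, hirr α β⟩
  have hdeg : ∀ α β, Char.degree (m α β).1 = Char.degree α.1.1 * Char.degree β.1.1 := by
    intro α β
    have h := apply_one (m α β)
    simp only [m, Pi.mul_apply, apply_one α.1, apply_one β.1] at h
    exact_mod_cast h.symm
  have hinj : ∀ α β α' β', m α β = m α' β' → α = α' ∧ β = β' := by
    intro α β α' β' h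
    have h1 := hinner α α' β β'
    rw [show α.1.1 * β.1.1 = α'.1.1 * β'.1.1 from congrArg Subtype.val h,
      Char.classInner_irr_self (hirr α' β')] at h1
    refine ⟨Subtype.ext (Subtype.ext (Char.eq_of_classInner_ne_zero α.1.2 α'.1.2 fun h0 => ?_)),
      Subtype.ext (Subtype.ext (Char.eq_of_classInner_ne_zero β.1.2 β'.1.2 fun h0 => ?_))⟩
    · rw [h0, zero_mul] at h1; exact one_ne_zero h1
    · rw [h0, mul_zero] at h1; exact one_ne_zero h1
  refine ⟨m, hdeg, hinj, fun θ => ?_⟩
  by_contra hno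
  push Not at hno
  have hsum : ∑ χ ∈ Finset.univ.image (fun z : _ × _ => m z.1 z.2), Char.degree χ.1 ^ 2 =
      Nat.card H := by
    rw [Finset.sum_image (by
      rintro ⟨a, b⟩ _ ⟨a', b'⟩ _ h
      obtain ⟨h1, h2⟩ := hinj _ _ _ _ h
      exact Prod.ext h1 h2), Fintype.sum_prod_type]
    simp only [hdeg, mul_pow, ← Finset.mul_sum]
    rw [← Finset.sum_mul, ← Finset.sum_subtype (Finset.univ.filter fun χ : Cfsg.IrrCharacter H =>
      ∀ x ∈ Q, χ.1 x = χ.1 1) (by simp) (fun χ => Char.degree χ.1 ^ 2),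
      ← Finset.sum_subtype (Finset.univ.filter fun χ : Cfsg.IrrCharacter H =>
      ∀ x ∈ P, χ.1 x = χ.1 1) (by simp) (fun χ => Char.degree χ.1 ^ 2), sum_sq_trivial_on,
      sum_sq_trivial_on, hPQ.index_eq_card, hPQ.symm.index_eq_card]
    exact hPQ.card_mul
  have hθ : θ ∉ Finset.univ.image (fun z : _ × _ => m z.1 z.2) := by
    simp only [Finset.mem_image, Finset.mem_univ, true_and, not_exists]
    exact fun z => hno z.1 z.2
  have h1 : 1 ≤ Char.degree θ.1 ^ 2 := Nat.one_le_pow _ _ (Char.IsIrrCharacter.degree_pos θ.2)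
  have h2 := Finset.sum_le_sum_of_subset (f := fun χ : Cfsg.IrrCharacter H => Char.degree χ.1 ^ 2)
    (Finset.subset_univ (insert θ (Finset.univ.image (fun z : _ × _ => m z.1 z.2))))
  rw [Finset.sum_insert hθ, hsum, Char.sum_degree_sq] at h2
  omega

end Products

theorem modEq_one_index {e : ℕ} (hh : e ∣ Nat.card H - 1) (K : Subgroup H)
    (hK : e ∣ Nat.card K - 1) : e ∣ K.index - 1 := by
  obtain ⟨a, ha⟩ : ∃ a, Nat.card K = 1 + a := ⟨_, (Nat.add_sub_cancel' Nat.card_pos).symm⟩
  obtain ⟨b, hb⟩ : ∃ b, K.index = 1 + b :=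
    ⟨_, (Nat.add_sub_cancel' (Nat.pos_of_ne_zero Subgroup.index_ne_zero_of_finite)).symm⟩
  have h := K.card_mul_index
  rw [ha, hb] at h
  rw [← h, show (1 + a) * (1 + b) - 1 = b + a * (1 + b) by rw [add_mul, one_mul]; omega] at hh
  rw [ha, Nat.add_sub_cancel_left] at hK
  rw [hb, Nat.add_sub_cancel_left]
  exact (Nat.dvd_add_left (Dvd.dvd.mul_right hK _)).mp hh

theorem lt_of_dvd_sub_one {e n : ℕ} (hn : 1 < n) (h : e ∣ n - 1) : e + 1 ≤ n := by
  have := Nat.le_of_dvd (by omega) h
  omega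

theorem two_mul_lt_of_dvd_sub_one {e n : ℕ} (he : Odd e) (hn : 1 < n) (hno : Odd n)
    (h : e ∣ n - 1) : 2 * e + 1 ≤ n := by
  obtain ⟨j, hj⟩ := h
  rcases j with _ | _ | j
  · omega
  · exfalso
    obtain ⟨i, rfl⟩ := he
    obtain ⟨l, rfl⟩ := hno
    omega
  · have : 2 * e ≤ e * (j + 1 + 1) := by rw [mul_comm 2 e]; exact Nat.mul_le_mul_left e (by omega)
    omega

open Classical in
/-- The data available in a nilpotent group that is not of prime power order. -/
theorem nilpotent_bounds [Group.IsNilpotent H] {e : ℕ} (he : Odd e) (he3 : 3 ≤ e)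
    (hchar : ∀ K : Subgroup H, K.Characteristic → e ∣ Nat.card K - 1)
    (horb : ∀ (P : Subgroup H), P.Characteristic → ∀ b : ℕ,
      e ∣ Nat.card {φ : Cfsg.IrrCharacter H //
        φ ≠ Char.principalIrr ∧ (∀ x ∈ P, φ.1 x = φ.1 1) ∧ Char.degree φ.1 = b})
    (hnp : ∀ p : ℕ, p.Prime → ¬ IsPGroup p H) (hne : 1 < Nat.card H) :
    e * (2 * e + 3) + 1 ≤ (commutator H).index ∧
      ∀ θ : Cfsg.IrrCharacter H, 2 ≤ Char.degree θ.1 →
        e * (2 * Char.degree θ.1 + 2) + 1 ≤ ∑ χ ∈ Finset.univ.filter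
          (fun χ : Cfsg.IrrCharacter H => Char.degree χ.1 < Char.degree θ.1),
            Char.degree χ.1 ^ 2 := by
  have hh : e ∣ Nat.card H - 1 := by
    have := hchar ⊤ inferInstance
    rwa [Subgroup.card_top] at this
  have hpart : ∀ p : ℕ, p.Prime → p ∣ Nat.card H → ∃ P Q : Subgroup H,
      P.Characteristic ∧ Q.Characteristic ∧ Subgroup.IsComplement' P Q ∧
      (∃ k, Q.index = p ^ k) ∧ (Nat.card Q).Coprime p ∧ P ≠ ⊤ ∧ Q ≠ ⊤ := by
    intro p hp hpd
    haveI := Fact.mk hp
    obtain ⟨P, Q, hP, hQ, hPQ, hi, hc⟩ := exists_split (H := H) p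
    refine ⟨P, Q, hP, hQ, hPQ, ⟨_, hi⟩, hc, fun h => hnp p hp ?_, fun h => ?_⟩
    · refine IsPGroup.of_card (n := (Nat.card H).factorization p) ?_
      rw [← hi, hPQ.index_eq_card, h, Subgroup.card_top]
    · rw [h, Subgroup.card_top, Nat.coprime_comm, hp.coprime_iff_not_dvd] at hc
      exact hc hpd
  -- linear characters trivial on a characteristic subgroup
  have hlinK : ∀ K : Subgroup H, K.Characteristic → K ≠ ⊤ →
      e + 1 ≤ (commutator H ⊔ K).index ∧ (Odd K.index → 2 * e + 1 ≤ (commutator H ⊔ K).index) := by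
    intro K hK hKtop
    haveI := hK
    haveI hC : (commutator H ⊔ K).Characteristic := by
      haveI : (commutator H).Characteristic := inferInstance
      refine Subgroup.characteristic_iff_map_le.mpr fun φ => ?_
      rw [Subgroup.map_sup, Subgroup.characteristic_iff_map_eq.mp this φ,
        Subgroup.characteristic_iff_map_eq.mp hK φ]
    have hne1 : commutator H ⊔ K ≠ ⊤ := by
      intro htop
      haveI : Nontrivial (H ⧸ K) := QuotientGroup.nontrivial_iff.mpr hKtop
      refine (IsSolvable.commutator_lt_top_of_nontrivial (H ⧸ K)).ne ?_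
      rw [← top_le_iff, ← Subgroup.map_top_of_surjective (QuotientGroup.mk' K)
        (QuotientGroup.mk'_surjective K), ← htop, Subgroup.map_sup, QuotientGroup.map_mk'_self,
        sup_bot_eq, commutator_def, commutator_def, Subgroup.map_commutator]
      exact Subgroup.commutator_mono le_top le_top
    have h1 : 1 < (commutator H ⊔ K).index := Subgroup.one_lt_index_of_ne_top hne1
    have h2 := modEq_one_index hh _ (hchar _ hC)
    exact ⟨lt_of_dvd_sub_one h1 h2, fun hodd => two_mul_lt_of_dvd_sub_one he h1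
      (hodd.of_dvd_nat (Subgroup.index_dvd_of_le le_sup_right)) h2⟩
  have hlin : e * (2 * e + 3) + 1 ≤ (commutator H).index := by
    obtain ⟨p, hp, hpd⟩ := Nat.exists_prime_and_dvd hne.ne'
    obtain ⟨P, Q, hP, hQ, hPQ, ⟨k, hk⟩, hc, hPt, hQt⟩ := hpart p hp hpd
    haveI := hP; haveI := hQ
    obtain ⟨m, hm, hminj, -⟩ := product_irr P Q hPQ
    -- products of linear characters of the two factors
    have hprod : (commutator H ⊔ Q).index * (commutator H ⊔ P).index ≤ (commutator H).index := by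
      refine le_trans (Nat.mul_le_mul (card_linear_trivial Q) (card_linear_trivial P)) ?_
      rw [← Nat.card_prod, ← card_linear, ← Nat.card_eq_finsetCard]
      refine Nat.card_le_card_of_injective (fun z => ⟨m ⟨z.1.1, z.1.2.1⟩ ⟨z.2.1, z.2.2.1⟩,
        Finset.mem_filter.mpr ⟨Finset.mem_univ _, by rw [hm, z.1.2.2, z.2.2.2, one_mul]⟩⟩) ?_
      rintro ⟨⟨a, _⟩, ⟨b, _⟩⟩ ⟨⟨a', _⟩, ⟨b', _⟩⟩ h
      obtain ⟨h1, h2⟩ := hminj _ _ _ _ (congrArg Subtype.val h)
      simp only [Subtype.mk.injEq] at h1 h2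
      simp [h1, h2]
    obtain ⟨hQ1, hQ2⟩ := hlinK Q hQ hQt
    obtain ⟨hP1, hP2⟩ := hlinK P hP hPt
    refine le_trans ?_ hprod
    rcases Nat.even_or_odd p with hev | hodd
    · have hp2 : p = 2 := hp.even_iff.mp hev
      have h3 := hP2 (by
        rw [hPQ.symm.index_eq_card]
        subst hp2
        exact Nat.coprime_two_right.mp hc)
      calc e * (2 * e + 3) + 1 = (e + 1) * (2 * e + 1) := by ring
        _ ≤ _ := Nat.mul_le_mul hQ1 h3
    · have h3 := hQ2 (by rw [hk]; exact hodd.pow)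
      calc e * (2 * e + 3) + 1 = (2 * e + 1) * (e + 1) := by ring
        _ ≤ _ := Nat.mul_le_mul h3 hP1
  refine ⟨hlin, fun θ hθ => ?_⟩
  set v := Char.degree θ.1 with hv
  rcases Nat.lt_or_ge v 3 with hv3 | hv3
  · refine le_trans ?_ (Finset.sum_le_sum_of_subset (s := Finset.univ.filter
      (fun χ : Cfsg.IrrCharacter H => Char.degree χ.1 = 1)) fun χ hχ => ?_)
    · rw [Finset.sum_congr rfl (g := fun _ => 1) fun χ hχ => by
        rw [(Finset.mem_filter.mp hχ).2, one_pow], ← Finset.card_eq_sum_ones, card_linear]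
      refine le_trans ?_ hlin
      have : e * (2 * v + 2) ≤ e * (2 * e + 3) := Nat.mul_le_mul_left e (by omega)
      omega
    · exact Finset.mem_filter.mpr ⟨Finset.mem_univ _, by
        rw [(Finset.mem_filter.mp hχ).2]; omega⟩
  obtain ⟨p, hp, hpv⟩ := Nat.exists_prime_and_dvd (show v ≠ 1 by omega)
  obtain ⟨P, Q, hP, hQ, hPQ, ⟨k, hk⟩, hc, hPt, hQt⟩ :=
    hpart p hp (hpv.trans (degree_dvd_card θ))
  haveI := hP; haveI := hQ
  haveI := Fact.mk hp
  obtain ⟨m, hm, hminj, hmsurj⟩ := product_irr P Q hPQ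
  obtain ⟨α, β, hαβ⟩ := hmsurj θ
  have hvab : v = Char.degree α.1.1 * Char.degree β.1.1 := by rw [hv, ← hαβ, hm]
  obtain ⟨a, -, ha⟩ := (Nat.dvd_prime_pow hp).mp (hk ▸ degree_dvd_index α.1 Q α.2)
  have hb : Char.degree β.1.1 ∣ P.index := degree_dvd_index β.1 P β.2
  have hbp : ¬ p ∣ Char.degree β.1.1 := fun h => by
    rw [hPQ.symm.index_eq_card] at hb
    exact hp.coprime_iff_not_dvd.mp hc.symm (h.trans hb)
  have ha0 : a ≠ 0 := by
    rintro rfl
    rw [hvab, ha, pow_zero, one_mul] at hpv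
    exact hbp hpv
  set b := Char.degree β.1.1 with hbdef
  -- characters with smaller `p`-part times characters of the complementary degree
  let A : Finset {α : Cfsg.IrrCharacter H // ∀ x ∈ Q, α.1 x = α.1 1} :=
    Finset.univ.filter fun α => Char.degree α.1.1 < p ^ a
  let B : Finset {β : Cfsg.IrrCharacter H // ∀ x ∈ P, β.1 x = β.1 1} :=
    Finset.univ.filter fun β => Char.degree β.1.1 = b ∨ β.1 = Char.principalIrr
  have hA : p ^ (2 * a) ≤ ∑ α ∈ A, Char.degree α.1.1 ^ 2 := by
    have hall : ∑ α : {α : Cfsg.IrrCharacter H // ∀ x ∈ Q, α.1 x = α.1 1},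
        Char.degree α.1.1 ^ 2 = Q.index := by
      rw [← sum_sq_trivial_on Q]
      exact (Finset.sum_subtype (p := fun χ : Cfsg.IrrCharacter H => ∀ x ∈ Q, χ.1 x = χ.1 1)
        (Finset.univ.filter fun χ : Cfsg.IrrCharacter H => ∀ x ∈ Q, χ.1 x = χ.1 1)
        (fun χ => by simp) fun χ : Cfsg.IrrCharacter H => Char.degree χ.1 ^ 2).symm
    have hak : a ≤ k := (Nat.pow_dvd_pow_iff_le_right hp.one_lt).mp
      (ha ▸ hk ▸ degree_dvd_index α.1 Q α.2)
    have hrest : p ^ (2 * a) ∣ ∑ α ∈ Finset.univ.filter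
        (fun α : {α : Cfsg.IrrCharacter H // ∀ x ∈ Q, α.1 x = α.1 1} =>
          ¬ Char.degree α.1.1 < p ^ a), Char.degree α.1.1 ^ 2 := by
      refine Finset.dvd_sum fun γ hγ => ?_
      obtain ⟨c, -, hc'⟩ := (Nat.dvd_prime_pow hp).mp (hk ▸ degree_dvd_index γ.1 Q γ.2)
      have h1 := (Finset.mem_filter.mp hγ).2
      rw [hc'] at h1 ⊢
      have : a ≤ c := (Nat.pow_le_pow_iff_right hp.one_lt).mp (not_lt.mp h1)
      rw [← pow_mul]
      exact pow_dvd_pow p (by omega)
    have hbig : p ^ (2 * a) ∣ Q.index := by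
      rw [hk]
      refine pow_dvd_pow p ?_
      have h1 : Char.degree α.1.1 ^ 2 ≤ Q.index := by
        rw [← hall]
        exact Finset.single_le_sum (f := fun γ : {α : Cfsg.IrrCharacter H //
          ∀ x ∈ Q, α.1 x = α.1 1} => Char.degree γ.1.1 ^ 2) (fun _ _ => Nat.zero_le _)
          (Finset.mem_univ α)
      rw [ha, hk, ← pow_mul, Nat.pow_le_pow_iff_right hp.one_lt] at h1
      omega
    rw [← hall, ← Finset.sum_filter_add_sum_filter_not _ fun α : {α : Cfsg.IrrCharacter H //
      ∀ x ∈ Q, α.1 x = α.1 1} => Char.degree α.1.1 < p ^ a] at hbig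
    refine Nat.le_of_dvd ?_ ((Nat.dvd_add_left hrest).mp hbig)
    have hone : (⟨Char.principalIrr, fun x _ => by simp⟩ :
        {α : Cfsg.IrrCharacter H // ∀ x ∈ Q, α.1 x = α.1 1}) ∈ A :=
      Finset.mem_filter.mpr ⟨Finset.mem_univ _, by
        rw [show Char.degree (Char.principalIrr : Cfsg.IrrCharacter H).1 = 1 by simp [Char.degree]]
        exact Nat.one_lt_pow ha0 hp.one_lt⟩
    exact Finset.sum_pos' (fun _ _ => Nat.zero_le _) ⟨_, hone, by simp [Char.degree]⟩
  have hB : e * b ^ 2 + 1 ≤ ∑ β ∈ B, Char.degree β.1.1 ^ 2 := by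
    have hcardS : e ≤ Nat.card {φ : Cfsg.IrrCharacter H //
        φ ≠ Char.principalIrr ∧ (∀ x ∈ P, φ.1 x = φ.1 1) ∧ Char.degree φ.1 = b} := by
      refine Nat.le_of_dvd ?_ (horb P hP b)
      rw [Nat.card_pos_iff]
      refine ⟨?_, inferInstance⟩
      by_cases hb1 : β.1 = Char.principalIrr
      · -- a nonprincipal linear character trivial on `P`
        have hlt : 1 < Nat.card {α : Cfsg.IrrCharacter H //
            (∀ x ∈ P, α.1 x = α.1 1) ∧ Char.degree α.1 = 1} :=
          lt_of_lt_of_le (by have := (hlinK P hP hPt).1; omega) (card_linear_trivial P)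
        haveI := Finite.one_lt_card_iff_nontrivial.mp hlt
        obtain ⟨z, hz⟩ := exists_ne (⟨Char.principalIrr, fun x _ => by simp, by simp [Char.degree]⟩ :
          {α : Cfsg.IrrCharacter H // (∀ x ∈ P, α.1 x = α.1 1) ∧ Char.degree α.1 = 1})
        refine ⟨⟨z.1, fun h => hz (Subtype.ext h), z.2.1, ?_⟩⟩
        rw [z.2.2, hbdef, hb1]; simp [Char.degree]
      · exact ⟨⟨β.1, hb1, β.2, rfl⟩⟩
    rw [Nat.card_eq_fintype_card] at hcardS
    let f : {φ : Cfsg.IrrCharacter H //
        φ ≠ Char.principalIrr ∧ (∀ x ∈ P, φ.1 x = φ.1 1) ∧ Char.degree φ.1 = b} →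
        {β : Cfsg.IrrCharacter H // ∀ x ∈ P, β.1 x = β.1 1} := fun z => ⟨z.1, z.2.2.1⟩
    let one : {β : Cfsg.IrrCharacter H // ∀ x ∈ P, β.1 x = β.1 1} :=
      ⟨Char.principalIrr, fun x _ => by simp⟩
    have hnot : one ∉ Finset.univ.image f := by
      simp only [Finset.mem_image, Finset.mem_univ, true_and, not_exists]
      exact fun z hz => z.2.1 (congrArg Subtype.val hz)
    have hfinj : Function.Injective f := fun x y h =>
      Subtype.ext (show x.1 = y.1 from congrArg
        (fun z : {β : Cfsg.IrrCharacter H // ∀ x ∈ P, β.1 x = β.1 1} => z.1) h)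
    refine le_trans ?_ (Finset.sum_le_sum_of_subset (s := insert one (Finset.univ.image f))
      fun x hx => ?_)
    · rw [Finset.sum_insert hnot, Finset.sum_image (fun x _ y _ h => hfinj h),
        Finset.sum_congr rfl (g := fun _ => b ^ 2) fun z _ => by rw [z.2.2.2], Finset.sum_const,
        Finset.card_univ, smul_eq_mul, show Char.degree one.1.1 = 1 by simp [one, Char.degree]]
      have := Nat.mul_le_mul_right (b ^ 2) hcardS
      omega
    · refine Finset.mem_filter.mpr ⟨Finset.mem_univ _, ?_⟩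
      rcases Finset.mem_insert.mp hx with rfl | hx
      · exact Or.inr rfl
      · obtain ⟨z, -, rfl⟩ := Finset.mem_image.mp hx
        exact Or.inl z.2.2.2
  -- the products
  refine le_trans ?_ (Finset.sum_le_sum_of_subset
    (s := (A ×ˢ B).image fun z => m z.1 z.2) fun χ hχ => ?_)
  · rw [Finset.sum_image (by
      rintro ⟨x, y⟩ _ ⟨x', y'⟩ _ h
      obtain ⟨h1, h2⟩ := hminj _ _ _ _ h
      exact Prod.ext h1 h2), Finset.sum_product]
    simp only [hm, mul_pow, ← Finset.mul_sum, ← Finset.sum_mul]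
    refine le_trans ?_ (Nat.mul_le_mul hA hB)
    rw [hvab, ha, mul_comm 2 a, pow_mul]
    have h3 : 3 ≤ p ^ a * b := by rw [← ha, ← hvab]; exact hv3
    have h4 : 1 ≤ (p ^ a) ^ 2 := Nat.one_le_pow _ _ (pow_pos hp.pos a)
    have h5 : 2 * (p ^ a * b) + 2 ≤ (p ^ a * b) ^ 2 := by nlinarith
    nlinarith [Nat.mul_le_mul_left e h5]
  · obtain ⟨⟨x, y⟩, hxy, rfl⟩ := Finset.mem_image.mp hχ
    refine Finset.mem_filter.mpr ⟨Finset.mem_univ _, ?_⟩
    obtain ⟨hx, hy⟩ := Finset.mem_product.mp hxy
    rw [hm, hvab, ha]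
    have h1 : Char.degree y.1.1 ≤ b := by
      rcases (Finset.mem_filter.mp hy).2 with h | h
      · exact h.le
      · rw [h, show Char.degree (Char.principalIrr : Cfsg.IrrCharacter H).1 = 1 by
          simp [Char.degree]]
        exact Char.IsIrrCharacter.degree_pos β.1.2
    calc Char.degree x.1.1 * Char.degree y.1.1 ≤ Char.degree x.1.1 * b := Nat.mul_le_mul_left _ h1
      _ < p ^ a * b := Nat.mul_lt_mul_of_pos_right (Finset.mem_filter.mp hx).2
          (Char.IsIrrCharacter.degree_pos β.1.2)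

open Classical in
/-- The data available in a group of prime power order with a large commutator quotient. -/
theorem pgroup_bounds {p : ℕ} [Fact p.Prime] (hH : IsPGroup p H) {e : ℕ}
    (he3 : 3 ≤ e) (hcop : e.Coprime (Nat.card H)) (hq : 4 * e ^ 2 + 1 < (commutator H).index)
    (θ : Cfsg.IrrCharacter H) (hθ : 2 ≤ Char.degree θ.1) :
    e * (2 * Char.degree θ.1 + 2) + 1 ≤ ∑ χ ∈ Finset.univ.filter
      (fun χ : Cfsg.IrrCharacter H => Char.degree χ.1 < Char.degree θ.1),
        Char.degree χ.1 ^ 2 := by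
  have hp : p.Prime := Fact.out
  obtain ⟨n, hn⟩ := IsPGroup.iff_card.mp hH
  obtain ⟨a, -, ha⟩ := (Nat.dvd_prime_pow hp).mp (hn ▸ degree_dvd_card θ)
  have hne : Char.degree θ.1 ≠ 2 * e := by
    intro h
    have h1 : e ∣ Nat.card H := (Dvd.intro_left 2 h.symm).trans (degree_dvd_card θ)
    have := Nat.eq_one_of_dvd_coprimes hcop dvd_rfl h1
    omega
  rcases Nat.lt_or_ge (Char.degree θ.1) (2 * e) with hlt | hge
  · refine le_trans ?_ (Finset.sum_le_sum_of_subset (s := Finset.univ.filter
      (fun χ : Cfsg.IrrCharacter H => Char.degree χ.1 = 1)) fun χ hχ => ?_)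
    · rw [Finset.sum_congr rfl (g := fun _ => 1) fun χ hχ => by
        rw [(Finset.mem_filter.mp hχ).2, one_pow], ← Finset.card_eq_sum_ones, card_linear]
      have : e * (2 * Char.degree θ.1 + 2) ≤ e * (4 * e) := Nat.mul_le_mul_left e (by omega)
      have h4 : e * (4 * e) = 4 * e ^ 2 := by ring
      omega
    · exact Finset.mem_filter.mpr ⟨Finset.mem_univ _, by
        rw [(Finset.mem_filter.mp hχ).2]; omega⟩
  · set v := Char.degree θ.1 with hv
    have hall := Char.sum_degree_sq (G := H)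
    have hvh : v ^ 2 ∣ Nat.card H := by
      rw [hn, ha, ← pow_mul]
      refine pow_dvd_pow p ?_
      have h1 : v ^ 2 ≤ Nat.card H := by
        rw [← hall]
        exact Finset.single_le_sum (f := fun χ : Cfsg.IrrCharacter H => Char.degree χ.1 ^ 2)
          (fun _ _ => Nat.zero_le _) (Finset.mem_univ θ)
      rw [hn, ha, ← pow_mul, Nat.pow_le_pow_iff_right hp.one_lt] at h1
      omega
    rw [← hall, ← Finset.sum_filter_add_sum_filter_not _
      fun χ : Cfsg.IrrCharacter H => Char.degree χ.1 < v] at hvh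
    have hrest : v ^ 2 ∣ ∑ χ ∈ Finset.univ.filter
        (fun χ : Cfsg.IrrCharacter H => ¬ Char.degree χ.1 < v), Char.degree χ.1 ^ 2 := by
      refine Finset.dvd_sum fun γ hγ => ?_
      obtain ⟨c, -, hc⟩ := (Nat.dvd_prime_pow hp).mp (hn ▸ degree_dvd_card γ)
      have h1 := (Finset.mem_filter.mp hγ).2
      rw [hc, ha] at h1 ⊢
      exact pow_dvd_pow_of_dvd (pow_dvd_pow p ((Nat.pow_le_pow_iff_right hp.one_lt).mp
        (not_lt.mp h1))) 2
    have h2 : v ^ 2 ≤ ∑ χ ∈ Finset.univ.filter
        (fun χ : Cfsg.IrrCharacter H => Char.degree χ.1 < v), Char.degree χ.1 ^ 2 := by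
      refine Nat.le_of_dvd ?_ ((Nat.dvd_add_left hrest).mp hvh)
      exact Finset.sum_pos' (fun _ _ => Nat.zero_le _) ⟨Char.principalIrr,
        Finset.mem_filter.mpr ⟨Finset.mem_univ _, by simp [Char.degree]; omega⟩,
        by simp [Char.degree]⟩
    refine le_trans ?_ h2
    have h5 : 2 * e + 1 ≤ v := by omega
    nlinarith

end CfsgLib.FeitDeg
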