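import Cfsg.Agent.Lib.CharExt.FeitData
import Cfsg.Agent.Lib.CharExt.FeitDegrees
import Cfsg.Agent.S0033

/-!
# The block of characters without fixed vectors for the kernel

The characters with fixed vectors for the kernel are the permutation constituent and the induced
linear characters; the others give the integer block.
-/

set_option autoImplicit false
set_option linter.unusedSectionVars false
set_option linter.style.haveILetI false

open MulAction
open scoped ComplexConjugate

namespace CfsgLib.FeitData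

open CfsgLib.ZassOdd CfsgLib.Zass

universe u w

variable {G : Type u} {Ω : Type w} [Group G] [MulAction G Ω] [Fintype Ω] [Fintype G]
variable (S : Setup G Ω)
include S

theorem Setup.piFun_eq (g : G) :
    PermChar.piFun G Ω g = ((fixPts g : Finset Ω).card : ℂ) := by
  classical
  simp only [PermChar.piFun, fixPts, fixedBy]
  rw [Nat.card_eq_fintype_card, ← Set.toFinset_card]
  congr 2
  ext c; simp

theorem Setup.fix_H {u : G} (hu : u ∈ S.H) (hu1 : u ≠ 1) :
    (fixPts u : Finset Ω).card = 1 := by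
  refine Finset.card_eq_one.mpr ⟨S.a, ?_⟩
  ext c
  rw [mem_fixPts, Finset.mem_singleton]
  exact ⟨S.hK.fix u hu hu1 c, fun h => h ▸ S.mem_stab_of_H hu⟩

theorem Setup.orbit_count [IsPretransitive G Ω] :
    Nat.card (orbitRel.Quotient (stabilizer G S.a) Ω) = 2 := by
  refine Nat.card_eq_two_iff.mpr ⟨Quotient.mk'' S.a, Quotient.mk'' S.b, fun h => ?_, ?_⟩
  · obtain ⟨g, hg⟩ := orbitRel_apply.mp (Quotient.eq''.mp h)
    have h1 : (g : G) • S.b = (g : G) • S.a := by rw [show (g : G) • S.b = S.a from hg, g.2]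
    exact S.hab (MulAction.injective _ h1).symm
  · refine Set.eq_univ_of_forall fun q => ?_
    induction q using Quotient.inductionOn' with
    | h c =>
      simp only [Set.mem_insert_iff, Set.mem_singleton_iff]
      by_cases hc : c = S.a
      · exact Or.inl (by rw [hc])
      · obtain ⟨g, g1, g2⟩ := S.hO.pre.two_trans S.hab (Ne.symm hc)
        exact Or.inr (Quotient.eq''.mpr (orbitRel_apply.mpr ⟨⟨g, g1⟩, g2⟩))

/-- The irreducible constituent of the permutation character. -/
theorem Setup.exists_steinberg : ∃ χ : Cfsg.IrrCharacter G, χ ≠ Char.principalIrr ∧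
    χ.1 = (fun g => PermChar.piFun G Ω g - 1) ∧
    ∀ ψ : Cfsg.IrrCharacter G, ψ ≠ Char.principalIrr →
      Cfsg.classInner (PermChar.piFun G Ω) ψ.1 ≠ 0 → ψ = χ := by
  classical
  haveI := S.hO.pre.isPretransitive
  haveI : Nonempty Ω := ⟨S.a⟩
  have hsum := PermChar.sum_mult_sq (G := G) S.a
  rw [S.orbit_count, ← Finset.add_sum_erase _ _ (Finset.mem_univ (Char.principalIrr :
    Cfsg.IrrCharacter G)), PermChar.mult_principal, one_mul] at hsum
  obtain ⟨χ, hχ, hχm⟩ : ∃ χ ∈ Finset.univ.erase (Char.principalIrr : Cfsg.IrrCharacter G),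
      PermChar.mult Ω χ.1 ≠ 0 := by
    by_contra h
    push Not at h
    rw [Finset.sum_eq_zero fun χ hχ => by rw [h χ hχ, mul_zero]] at hsum
    omega
  rw [← Finset.add_sum_erase _ _ hχ] at hsum
  have hm : PermChar.mult Ω χ.1 = 1 := by
    rcases Nat.lt_or_ge (PermChar.mult Ω χ.1) 2 with h | h
    · omega
    · have := Nat.mul_le_mul h h
      omega
  rw [hm] at hsum
  have hzero : ∀ ψ, ψ ≠ Char.principalIrr → ψ ≠ χ → PermChar.mult Ω ψ.1 = 0 := by
    intro ψ h1 h2
    have h3 := Finset.sum_eq_zero_iff.mp (show ∑ ψ ∈ (Finset.univ.erase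
      (Char.principalIrr : Cfsg.IrrCharacter G)).erase χ,
        PermChar.mult Ω ψ.1 * PermChar.mult Ω ψ.1 = 0 by omega) ψ
      (Finset.mem_erase.mpr ⟨h2, Finset.mem_erase.mpr ⟨h1, Finset.mem_univ _⟩⟩)
    exact mul_self_eq_zero.mp h3
  refine ⟨χ, (Finset.mem_erase.mp hχ).1, funext fun g => ?_, fun ψ hψ hne => ?_⟩
  · have h := congrFun (PermChar.piFun_eq_sum (G := G) (Ω := Ω)) g
    rw [Finset.sum_apply, ← Finset.add_sum_erase _ _ (Finset.mem_univ (Char.principalIrr :
      Cfsg.IrrCharacter G)), ← Finset.add_sum_erase _ _ hχ,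
      Finset.sum_eq_zero fun ψ hψ => by
        simp [hzero ψ (Finset.mem_erase.mp (Finset.mem_erase.mp hψ).2).1 (Finset.mem_erase.mp hψ).1],
      PermChar.mult_principal, hm] at h
    simp only [Pi.smul_apply, smul_eq_mul, Nat.cast_one, one_mul, Char.principalIrr_apply,
      add_zero] at h
    rw [h]; ring
  · by_contra h2
    exact (PermChar.classInner_ne_zero_iff ψ.2).mp hne (hzero ψ hψ h2)

variable [Fintype S.H]

/-- The characters with fixed vectors for the kernel. -/
theorem Setup.known (χ : Cfsg.IrrCharacter G) (h0 : χ ≠ Char.principalIrr)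
    (h1 : Cfsg.classInner (fun u : S.H => χ.1 u) (fun _ => 1) ≠ 0) :
    χ.1 = (fun g => PermChar.piFun G Ω g - 1) ∨
      ((∀ u ∈ S.H, u ≠ 1 → χ.1 u = 1) ∧ χ.1 1 = 1 + S.h ∧
        ∀ t : G, (fixPts t : Finset Ω).card = 0 → χ.1 t = 0) := by
  classical
  obtain ⟨m, hm⟩ := Char.IsCharacter.exists_nat_combination
    (Char.IsCharacter.restrict (Char.IsIrrCharacter.isCharacter χ.2) (stabilizer G S.a))
  set A : Subgroup (stabilizer G S.a) := S.H.subgroupOf (stabilizer G S.a) with hA
  have hHle : S.H ≤ stabilizer G S.a := fun u hu => S.mem_stab_of_H hu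
  haveI : A.Normal := ⟨fun u hu g => Subgroup.mem_subgroupOf.mpr
    (S.hK.conj_mem g g.2 u (Subgroup.mem_subgroupOf.mp hu))⟩
  haveI := Fintype.ofFinite A
  obtain ⟨ψ, hψm, hψ⟩ : ∃ ψ : Cfsg.IrrCharacter (stabilizer G S.a), m ψ ≠ 0 ∧
      ∀ u : A, ψ.1 u = ψ.1 1 := by
    by_contra hall
    push Not at hall
    refine h1 ?_
    rw [Cfsg.classInner]
    refine mul_eq_zero_of_right _ ?_
    rw [← Fintype.sum_equiv (Subgroup.subgroupOfEquivOfLe hHle).toEquiv
      (fun u : A => χ.1 ((u : stabilizer G S.a) : G) * conj ((fun _ => (1 : ℂ)) (1 : S.H)))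
      (fun u : S.H => χ.1 u * conj ((fun _ => (1 : ℂ)) u)) fun u => rfl]
    simp only [map_one, mul_one]
    rw [Finset.sum_congr rfl fun (u : A) _ => congrFun hm (u : stabilizer G S.a)]
    simp only [Finset.sum_apply, Pi.smul_apply, smul_eq_mul]
    rw [Finset.sum_comm]
    refine Finset.sum_eq_zero fun ψ _ => ?_
    rw [← Finset.mul_sum]
    by_cases h : m ψ = 0
    · simp [h]
    · obtain ⟨u, hu⟩ := hall ψ h
      have h2 := CharExt.sum_translates_eq_zero ψ.2 A ⟨u, hu⟩ 1
      simp only [one_mul] at h2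
      rw [h2, mul_zero]
  have hψ1 : ψ.1 1 = 1 := by
    haveI := Fintype.ofFinite (stabilizer G S.a ⧸ A)
    obtain ⟨η, hη, hη'⟩ := CharTwist.exists_irr_quotient ψ.2 A fun u hu => hψ ⟨u, hu⟩
    have hab : ∀ x y : stabilizer G S.a ⧸ A, x * y = y * x := by
      intro x y
      obtain ⟨g, rfl⟩ := QuotientGroup.mk'_surjective A x
      obtain ⟨g', rfl⟩ := QuotientGroup.mk'_surjective A y
      obtain ⟨k, hk, p, hp, e1⟩ := S.decomp g.2
      obtain ⟨k', hk', p', hp', e2⟩ := S.decomp g'.2
      let P : stabilizer G S.a := ⟨p, hp.1⟩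
      let P' : stabilizer G S.a := ⟨p', hp'.1⟩
      have f1 : QuotientGroup.mk' A g = QuotientGroup.mk' A P := by
        rw [show g = P * ⟨k, hHle hk⟩ from Subtype.ext e1, map_mul]
        rw [show QuotientGroup.mk' A ⟨k, hHle hk⟩ = 1 from (QuotientGroup.eq_one_iff _).mpr hk,
          mul_one]
      have f2 : QuotientGroup.mk' A g' = QuotientGroup.mk' A P' := by
        rw [show g' = P' * ⟨k', hHle hk'⟩ from Subtype.ext e2, map_mul]
        rw [show QuotientGroup.mk' A ⟨k', hHle hk'⟩ = 1 from (QuotientGroup.eq_one_iff _).mpr hk',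
          mul_one]
      rw [f1, f2, ← map_mul, ← map_mul]
      exact congrArg _ (Subtype.ext (S.E_comm p p' hp hp'))
    rw [hη', Function.comp_apply, map_one]
    exact (CharOver.abelian_irr hab hη).1
  obtain ⟨f, hf⟩ := Char.IsCharacter.exists_linear (Char.IsIrrCharacter.isCharacter ψ.2) hψ1
  have hψf : ψ.1 = fun g => (f g : ℂ) := funext hf
  have hind : Cfsg.classInner (Cfsg.indFun (stabilizer G S.a) fun g => (f g : ℂ)) χ.1 ≠ 0 := by
    rw [Char.classInner_indFun _ _ _ (Char.IsIrrCharacter.isClassFunction χ.2), ← hψf,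
      show (fun g : stabilizer G S.a => χ.1 g) = _ from hm, ← Char.classInner_conj_symm,
      Char.classInner_sum_smul_irr (fun ψ => (m ψ : ℂ)) ψ, Complex.conj_natCast]
    exact Nat.cast_ne_zero.mpr hψm
  haveI := S.hO.pre.isPretransitive
  have hv : ∀ c : Ω, ∃ v : G, v • S.a = c := fun c => S.hO.pre.transitive S.a c
  choose v hv' using hv
  have hcl : Cfsg.IsClassFunction (stabilizer G S.a) (fun g => (f g : ℂ)) := fun g x => by
    simp [mul_comm, mul_left_comm, ← mul_assoc]
  have hval := indFun_eq_sum_fix (fun c => ⟨v c, hv' c⟩) (fun g => (f g : ℂ)) hcl v hv'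
  by_cases hf1 : f = 1
  · left
    obtain ⟨St, -, hSt, huniq⟩ := S.exists_steinberg
    have hπ : Cfsg.indFun (stabilizer G S.a) (fun g => (f g : ℂ)) = PermChar.piFun G Ω := by
      funext g
      rw [hval, S.piFun_eq, Finset.sum_congr rfl (g := fun _ => (1 : ℂ)) fun c hc => ?_,
        Finset.sum_const, nsmul_eq_mul, mul_one]
      have hmem : (v c)⁻¹ * g * v c ∈ stabilizer G S.a := by
        rw [mem_stabilizer_iff, mul_smul, mul_smul, hv', mem_fixPts.mp hc, inv_smul_eq_iff, hv']
      rw [Char.extendByZero_apply_mem _ _ hmem, hf1]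
      simp
    rw [hπ] at hind
    rw [huniq χ h0 hind]
    exact hSt
  · right
    have hHmem : ∀ g : G, g • S.a = S.a →
        (g ∈ S.H ↔ (g = 1 ∨ ∀ c : Ω, g • c = c → c = S.a)) := fun g hg =>
      ⟨fun h => or_iff_not_imp_left.mpr fun h1 => S.hK.fix g h h1, fun h => h.elim
        (fun e => e ▸ S.H.one_mem) (S.hK.mem g hg)⟩
    have hfH : ∀ u : stabilizer G S.a, (u : G) ∈ S.H → f u = 1 := fun u hu => Units.ext (by
      rw [← hf, hψ ⟨u, hu⟩, hψ1]; rfl)
    obtain ⟨hirr, hone⟩ := S.hO.indFun_linear hHmem hHle f hfH hf1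
    have heq : Cfsg.indFun (stabilizer G S.a) (fun g => (f g : ℂ)) = χ.1 :=
      Char.eq_of_classInner_ne_zero hirr χ.2 hind
    refine ⟨fun u hu hu1 => by rw [← heq]; exact hone u hu hu1, ?_, fun t ht => ?_⟩
    · rw [← heq, Char.indFun_apply_one, MulAction.index_stabilizer_of_transitive,
        Nat.card_eq_fintype_card, S.hh, map_one, Units.val_one, mul_one]
      push_cast; ring
    · rw [← heq, hval, Finset.card_eq_zero.mp ht, Finset.sum_empty]

/-- The multiplicities on the characters with fixed vectors. -/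
theorem Setup.mult_known (χ : Cfsg.IrrCharacter G) (h0 : χ ≠ Char.principalIrr)
    (h1 : Cfsg.classInner (fun u : S.H => χ.1 u) (fun _ => 1) ≠ 0)
    (θ : Cfsg.IrrCharacter S.H) :
    S.mult χ θ = (if θ = Char.principalIrr then
      (if χ.1 = (fun g => PermChar.piFun G Ω g - 1) then 1 else 2) else Char.degree θ.1) := by
  classical
  have hh0 : (S.h : ℂ) ≠ 0 := Nat.cast_ne_zero.mpr (by have := S.h_two; omega)
  apply Nat.cast_injective (R := ℂ)
  have hd1 : (Char.degree (Char.principalIrr : Cfsg.IrrCharacter S.H).1 : ℂ) = 1 := by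
    simp [Char.degree]
  by_cases hSt : χ.1 = (fun g => PermChar.piFun G Ω g - 1)
  · rw [S.mult_of_const (r := 0) (D := S.h) (fun u hu hu1 => by
      rw [hSt]; simp [S.piFun_eq, S.fix_H hu hu1]) (by
      rw [hSt]; simp [PermChar.piFun_one, S.hh]) θ, if_pos hSt]
    by_cases hp : θ = Char.principalIrr
    · rw [if_pos hp, if_pos hp, hp, hd1]
      field_simp
      simp
    · rw [if_neg hp, if_neg hp, zero_add]
      field_simp
  · obtain ⟨hu, hd, -⟩ := (S.known χ h0 h1).resolve_left hSt
    rw [S.mult_of_const (r := 1) (D := S.h) hu hd θ, if_neg hSt]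
    by_cases hp : θ = Char.principalIrr
    · rw [if_pos hp, if_pos hp, hp, hd1]
      field_simp
      norm_num
    · rw [if_neg hp, if_neg hp, zero_add]
      field_simp

theorem Setup.mult_principalG (θ : Cfsg.IrrCharacter S.H) :
    S.mult Char.principalIrr θ = if θ = Char.principalIrr then 1 else 0 := by
  classical
  apply Nat.cast_injective (R := ℂ)
  rw [S.mult_of_const (r := 1) (D := 0) (fun u _ _ => by simp) (by simp) θ]
  split_ifs <;> simp

theorem Setup.mult_principal_zero (χ : S.Rest) : S.mult χ.1 Char.principalIrr = 0 := by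
  apply Nat.cast_injective (R := ℂ)
  rw [S.cast_mult, show (Char.principalIrr : Cfsg.IrrCharacter S.H).1 = fun _ => (1 : ℂ) from
    funext fun u => Char.principalIrr_apply u, χ.2.2, Nat.cast_zero]

open Classical in
/-- The characters with fixed vectors, other than the principal one. -/
noncomputable def Setup.knownSet : Finset (Cfsg.IrrCharacter G) :=
  Finset.univ.filter fun χ => χ ≠ Char.principalIrr ∧
    Cfsg.classInner (fun u : S.H => χ.1 u) (fun _ => 1) ≠ 0

open Classical in
theorem Setup.sum_split {M : Type*} [AddCommMonoid M] (F : Cfsg.IrrCharacter G → M) :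
    ∑ χ, F χ = F Char.principalIrr + (∑ χ ∈ S.knownSet, F χ + ∑ χ : S.Rest, F χ.1) := by
  rw [← Finset.add_sum_erase _ _ (Finset.mem_univ (Char.principalIrr : Cfsg.IrrCharacter G))]
  congr 1
  rw [← Finset.sum_filter_add_sum_filter_not (Finset.univ.erase Char.principalIrr)
    fun χ : Cfsg.IrrCharacter G => Cfsg.classInner (fun u : S.H => χ.1 u) (fun _ => 1) ≠ 0]
  congr 1
  · refine Finset.sum_congr ?_ fun _ _ => rfl
    ext χ
    simp [Setup.knownSet]
  · refine Finset.sum_subtype _ (fun χ => ?_) F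
    simp

theorem Setup.e_eq : S.e = 2 * (S.e / 2) + 1 := by
  obtain ⟨m, hm⟩ := S.hO.odd
  omega

/-- There are `(e + 1) / 2` characters with fixed vectors besides the principal one. -/
theorem Setup.card_knownSet : S.knownSet.card = S.e / 2 + 1 := by
  classical
  have hg := S.gram Char.principalIrr Char.principalIrr
  have hd1 : Char.degree (Char.principalIrr : Cfsg.IrrCharacter S.H).1 = 1 := by simp [Char.degree]
  rw [if_pos rfl, if_pos rfl, hd1, mul_one, mul_one, S.sum_split, S.mult_principalG, if_pos rfl,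
    Finset.sum_eq_zero (s := (Finset.univ : Finset S.Rest)) fun χ _ => by
      rw [S.mult_principal_zero, mul_zero]] at hg
  obtain ⟨St, hSt0, hSt, -⟩ := S.exists_steinberg
  have hStK : St ∈ S.knownSet := by
    refine Finset.mem_filter.mpr ⟨Finset.mem_univ _, hSt0, ?_⟩
    have hm1 : (S.mult St Char.principalIrr : ℂ) = 1 := by
      rw [S.mult_of_const (r := 0) (D := S.h) (fun u hu hu1 => by
        rw [hSt]; simp [S.piFun_eq, S.fix_H hu hu1]) (by
        rw [hSt]; simp [PermChar.piFun_one, S.hh]), if_pos rfl, hd1, zero_add, Nat.cast_one, mul_one,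
        div_self (Nat.cast_ne_zero.mpr (by have := S.h_two; omega))]
    rw [S.cast_mult, show (Char.principalIrr : Cfsg.IrrCharacter S.H).1 = fun _ => (1 : ℂ) from
      funext fun u => Char.principalIrr_apply u] at hm1
    rw [hm1]; exact one_ne_zero
  rw [← Finset.add_sum_erase _ _ hStK, S.mult_known St hSt0 (Finset.mem_filter.mp hStK).2.2,
    if_pos rfl, if_pos hSt, Finset.sum_congr rfl (g := fun _ => 4) fun χ hχ => ?_,
    Finset.sum_const, smul_eq_mul, Finset.card_erase_of_mem hStK] at hg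
  · have := S.e_eq
    have : 1 ≤ S.knownSet.card := Finset.card_pos.mpr ⟨St, hStK⟩
    omega
  · obtain ⟨hne, hχK⟩ := Finset.mem_erase.mp hχ
    rw [S.mult_known χ (Finset.mem_filter.mp hχK).2.1 (Finset.mem_filter.mp hχK).2.2, if_pos rfl,
      if_neg fun e => hne (Subtype.ext (e.trans hSt.symm))]

open Classical in
/-- The Gram matrix on the remaining characters. -/
theorem Setup.gram_rest (θ θ' : S.Theta) :
    ∑ χ : S.Rest, S.mult χ.1 θ.1 * S.mult χ.1 θ'.1 =
      (if S.rel θ.1 θ'.1 then 1 else 0) + S.e / 2 * (Char.degree θ.1.1 * Char.degree θ'.1.1) := by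
  have hg := S.gram θ.1 θ'.1
  rw [if_neg θ.2, S.sum_split, S.mult_principalG, if_neg θ.2, zero_mul, zero_add,
    Finset.sum_congr rfl (g := fun _ => Char.degree θ.1.1 * Char.degree θ'.1.1) fun χ hχ => by
      rw [S.mult_known χ (Finset.mem_filter.mp hχ).2.1 (Finset.mem_filter.mp hχ).2.2,
        S.mult_known χ (Finset.mem_filter.mp hχ).2.1 (Finset.mem_filter.mp hχ).2.2, if_neg θ.2,
        if_neg θ'.2],
    Finset.sum_const, smul_eq_mul, S.card_knownSet, mul_assoc S.e] at hg
  have h2 : S.e * (Char.degree θ.1.1 * Char.degree θ'.1.1) =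
      (S.e / 2 + 1) * (Char.degree θ.1.1 * Char.degree θ'.1.1) +
        S.e / 2 * (Char.degree θ.1.1 * Char.degree θ'.1.1) := by
    rw [← add_mul]; congr 1; have := S.e_eq; omega
  omega

theorem Setup.degree_eq_sum (χ : S.Rest) :
    Char.degree χ.1.1 = ∑ θ : S.Theta, Char.degree θ.1.1 * S.mult χ.1 θ.1 := by
  classical
  apply Nat.cast_injective (R := ℂ)
  push_cast
  have hres := Char.IsCharacter.eq_sum_classInner
    (Char.IsCharacter.restrict (Char.IsIrrCharacter.isCharacter χ.1.2) S.H)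
  have h := congrFun hres 1
  simp only [Finset.sum_apply, Pi.smul_apply, smul_eq_mul, ← S.cast_mult, OneMemClass.coe_one]
    at h
  rw [Char.IsCharacter.degree_cast (Char.IsIrrCharacter.isCharacter χ.1.2), h,
    ← Finset.add_sum_erase _ _ (Finset.mem_univ (Char.principalIrr : Cfsg.IrrCharacter S.H)),
    S.mult_principal_zero, Nat.cast_zero, zero_mul, zero_add,
    Finset.sum_subtype (p := fun θ : Cfsg.IrrCharacter S.H => θ ≠ Char.principalIrr) _
      (fun θ => by simp) fun θ : Cfsg.IrrCharacter S.H => (S.mult χ.1 θ : ℂ) * θ.1 1]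
  refine Finset.sum_congr rfl fun θ _ => ?_
  rw [Char.IsCharacter.degree_cast (Char.IsIrrCharacter.isCharacter θ.1.2), mul_comm]

/-- The integer block. -/
noncomputable def Setup.block : FeitBlock.Block S.Rest S.Theta where
  c χ θ := S.mult χ.1 θ.1
  v θ := Char.degree θ.1.1
  rel θ θ' := S.rel θ.1 θ'.1
  k := (S.e / 2 : ℕ)
  e := S.e
  D χ := Char.degree χ.1.1
  nonneg _ _ := Nat.cast_nonneg _
  one_le θ := Nat.one_le_cast.mpr (Char.IsIrrCharacter.degree_pos θ.1.2)
  rel_equiv := ⟨fun θ => S.rel_equiv.refl θ.1, fun h => S.rel_equiv.symm h,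
    fun h h' => S.rel_equiv.trans h h'⟩
  rel_v θ θ' := by
    rintro ⟨x, hx⟩
    simp only [Char.degree, hx, Function.comp_apply, map_one]
  fiber θ := by
    rw [← S.card_rel θ.2]
    exact Nat.card_congr
      { toFun := fun z => ⟨z.1.1, z.2⟩
        invFun := fun z => ⟨⟨z.1, fun h => θ.2 (S.rel_principal (S.rel_equiv.symm z.2) h)⟩, z.2⟩
        left_inv := fun _ => rfl
        right_inv := fun _ => rfl }
  orth θ θ' := by
    classical
    have h := S.gram_rest θ θ'
    have h' := congrArg (Nat.cast : ℕ → ℤ) h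
    push_cast at h'
    rw [FeitBlock.ind]
    push_cast
    convert h' using 2
  deg χ := by
    have h := congrArg (Nat.cast : ℕ → ℤ) (S.degree_eq_sum χ)
    push_cast at h
    exact h
  D_pos χ := Nat.cast_pos.mpr (Char.IsIrrCharacter.degree_pos χ.1.2)
  k_pos := Nat.cast_pos.mpr (by have := S.three_le_e; omega)

theorem Setup.kernel_nilpotent : Group.IsNilpotent S.H := by
  have he3 := S.three_le_e
  obtain ⟨p, hp, hpe⟩ := Nat.exists_prime_and_dvd (show S.e ≠ 1 by omega)
  haveI := Fact.mk hp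
  obtain ⟨x, hx⟩ := exists_prime_orderOf_dvd_card' (G := S.E) p (by rwa [S.card_E])
  have hx1 : x ≠ 1 := fun h => hp.ne_one (by rw [← hx, h, orderOf_one])
  have key : ∀ u : S.H, S.conjE x u = u → u = 1 := by
    intro u hu
    by_contra hne
    have h1 : (x : G) * u * (x : G)⁻¹ = u := congrArg Subtype.val hu
    have h2 := S.commute_mem u.2 (fun e => hne (Subtype.ext e)) (mul_inv_eq_iff_eq_mul.mp h1)
    exact hx1 (Subtype.ext (S.E_inf_H x.2 h2))
  haveI : Nontrivial S.H := Finite.one_lt_card_iff_nontrivial.mp (by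
    rw [S.card_H]; have := S.h_two; omega)
  refine Cfsg.Agent.S0033.result (S.conjE x) key p hp (orderOf_eq_prime ?_ fun h => ?_)
  · rw [← map_pow, ← hx, pow_orderOf_eq_one, map_one]
  · obtain ⟨u, hu⟩ := exists_ne (1 : S.H)
    exact hu (key u (by rw [h]; rfl))

end CfsgLib.FeitData
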