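import Cfsg.Agent.Lib.CharExt.FeitDegrees
import Cfsg.Agent.Lib.Char.Clifford
import Cfsg.Agent.Lib.Char.Ito
import Cfsg.Agent.Lib.Transfer.Tate
import Cfsg.Agent.Lib.Transfer.Fusion

/-!
# Squares of the degrees prime to `p` and the normalizer of a Sylow subgroup

The sum of these squares is at least `|N_G(P) : P'|`, with equality exactly when the normalizer has a
normal complement.
-/

set_option autoImplicit false
set_option linter.style.haveILetI false

open scoped ComplexConjugate commutatorElement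

namespace CfsgLib.DegPrimeTo

universe u

section General

variable {G : Type u} [Group G] [Finite G]

theorem deg (χ : Cfsg.IrrCharacter G) : χ.1 1 = (Char.degree χ.1 : ℂ) :=
  (Char.IsCharacter.degree_cast (Char.IsIrrCharacter.isCharacter χ.2)).symm

/-- The kernel of an irreducible character, as a normal subgroup. -/
theorem exists_ker (χ : Cfsg.IrrCharacter G) :
    ∃ K : Subgroup G, K.Normal ∧ ∀ g, g ∈ K ↔ χ.1 g = χ.1 1 := by
  obtain ⟨n, ρ, hρ, hρe⟩ := χ.2
  refine ⟨MonoidHom.ker ρ, inferInstance, fun g => ?_⟩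
  rw [MonoidHom.mem_ker, ← hρe, Representation.char_one]
  exact (Char.character_eq_degree_iff ρ g).symm

open Classical in
/-- The characters trivial on a normal subgroup separate it from the rest. -/
theorem mem_of_forall_trivial (N : Subgroup G) [N.Normal] {x : G}
    (h : ∀ χ : Cfsg.IrrCharacter G, (∀ y ∈ N, χ.1 y = χ.1 1) → χ.1 x = χ.1 1) : x ∈ N := by
  haveI := Fintype.ofFinite G
  let L : Subgroup G := Subgroup.normalClosure ((N : Set G) ∪ {x})
  have hNL : N ≤ L := fun y hy => Subgroup.subset_normalClosure (Or.inl hy)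
  have heq : ∀ χ : Cfsg.IrrCharacter G,
      (∀ y ∈ L, χ.1 y = χ.1 1) ↔ (∀ y ∈ N, χ.1 y = χ.1 1) := by
    intro χ
    refine ⟨fun h' y hy => h' y (hNL hy), fun h' y hy => ?_⟩
    obtain ⟨K, hKn, hK⟩ := exists_ker χ
    haveI := hKn
    refine (hK y).mp (Subgroup.normalClosure_le_normal ?_ hy)
    rintro z (hz | rfl)
    · exact (hK z).mpr (h' z hz)
    · exact (hK _).mpr (h χ h')
  have hidx : L.index = N.index := by
    rw [← FeitDeg.sum_sq_trivial_on L, ← FeitDeg.sum_sq_trivial_on N,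
      Finset.filter_congr fun χ _ => heq χ]
  have hcard : Nat.card L ≤ Nat.card N := by
    have h1 := L.card_mul_index
    rw [hidx, ← N.card_mul_index] at h1
    exact (Nat.eq_of_mul_eq_mul_right (Nat.pos_of_ne_zero Subgroup.index_ne_zero_of_finite) h1).le
  rw [Subgroup.eq_of_le_of_card_ge hNL hcard]
  exact Subgroup.subset_normalClosure (Or.inr rfl)

open Classical in
/-- A `p`-group acting on a finite set: an invariant sum of algebraic integers is congruent
modulo `p` to the sum over the fixed points. -/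
theorem sum_invariant_mod {p : ℕ} [Fact p.Prime] {P α : Type*} [Group P] [Finite P]
    (hP : IsPGroup p P) [MulAction P α] [Fintype α] (F : α → ℂ) (hF : ∀ (g : P) a, F (g • a) = F a)
    (hint : ∀ a, IsIntegral ℤ (F a)) :
    ∃ z : ℂ, IsIntegral ℤ z ∧
      ∑ a, F a = (∑ a ∈ Finset.univ.filter (· ∈ MulAction.fixedPoints P α), F a) + (p : ℂ) * z := by
  haveI := Fintype.ofFinite (Quotient (MulAction.orbitRel P α))
  let S : Finset α := Finset.univ.filter (· ∉ MulAction.fixedPoints P α)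
  let q : α → Quotient (MulAction.orbitRel P α) := Quotient.mk _
  have hS : ∀ c : Quotient (MulAction.orbitRel P α), ∃ z : ℂ, IsIntegral ℤ z ∧
      ∑ a ∈ S.filter (fun a => q a = c), F a = (p : ℂ) * z := by
    intro c
    induction c using Quotient.inductionOn with
    | _ a =>
      by_cases ha : a ∈ MulAction.fixedPoints P α
      · refine ⟨0, isIntegral_zero, ?_⟩
        rw [mul_zero]
        refine Finset.sum_eq_zero fun b hb => absurd ha ?_
        obtain ⟨hbS, hbq⟩ := Finset.mem_filter.mp hb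
        obtain ⟨g, hg⟩ := MulAction.orbitRel_apply.mp (Quotient.exact hbq)
        intro ha'
        exact (Finset.mem_filter.mp hbS).2 (by
          rw [← show g • a = b from hg, ha' g]; exact ha')
      · have hset : S.filter (fun b => q b = Quotient.mk _ a) = (MulAction.orbit P a).toFinset := by
          ext b
          rw [Finset.mem_filter, Set.mem_toFinset, ← MulAction.orbitRel_apply]
          refine ⟨fun h => Quotient.exact h.2, fun h => ⟨Finset.mem_filter.mpr ⟨Finset.mem_univ _,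
            fun hb => ha ?_⟩, Quotient.sound h⟩⟩
          obtain ⟨g, hg⟩ := MulAction.orbitRel_apply.mp h
          have hb' : a = b := by
            rw [← hb g⁻¹, ← show g • a = b from hg, inv_smul_smul]
          rw [hb']; exact hb
        obtain ⟨k, hk⟩ := hP.card_orbit a
        have hk0 : k ≠ 0 := by
          rintro rfl
          exact ha (MulAction.mem_fixedPoints_iff_card_orbit_eq_one.mpr (by
            rw [← Nat.card_eq_fintype_card, hk, pow_zero]))
        refine ⟨((p ^ (k - 1) : ℕ) : ℂ) * F a, (isIntegral_natCast _).mul (hint a), ?_⟩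
        rw [hset, Finset.sum_congr rfl (g := fun _ => F a) fun b hb => by
          obtain ⟨g, rfl⟩ := Set.mem_toFinset.mp hb
          exact hF g a, Finset.sum_const, Set.toFinset_card, ← Nat.card_eq_fintype_card, hk,
          nsmul_eq_mul, ← mul_assoc]
        congr 1
        rw [← Nat.cast_mul, ← pow_succ']
        congr 2
        omega
  choose z hz hz' using hS
  refine ⟨∑ c, z c, IsIntegral.sum _ fun c _ => hz c, ?_⟩
  rw [← Finset.sum_filter_add_sum_filter_not Finset.univ (· ∈ MulAction.fixedPoints P α) F,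
    ← Finset.sum_fiberwise (Finset.univ.filter (· ∉ MulAction.fixedPoints P α)) q F,
    Finset.mul_sum]
  congr 1
  exact Finset.sum_congr rfl fun c _ => hz' c

open Classical in
/-- An irreducible character with trivial constituent on a normal subgroup is trivial on it. -/
theorem sum_eq_zero_of_not_trivial [Fintype G] (K : Subgroup G) [K.Normal] [Fintype K]
    (χ : Cfsg.IrrCharacter G) (h : ¬ ∀ y ∈ K, χ.1 y = χ.1 1) : ∑ k : K, χ.1 k = 0 := by
  by_contra hne
  refine h fun y hy => ?_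
  have hc : Cfsg.classInner (fun n : K => χ.1 n) (fun _ => (1 : ℂ)) ≠ 0 := by
    simp only [Cfsg.classInner, map_one, mul_one]
    exact mul_ne_zero (inv_ne_zero (Nat.cast_ne_zero.mpr Nat.card_pos.ne')) hne
  have hres := Clifford.res_eq K χ.2 Char.isIrrCharacter_principal hc
  have horb : ∀ ψ ∈ Clifford.orbit K (fun _ => (1 : ℂ)), ∀ n, ψ n = 1 := fun ψ hψ n => by
    obtain ⟨g, rfl⟩ := (Clifford.mem_orbit K).mp hψ
    rfl
  have h1 := congrFun hres ⟨y, hy⟩
  have h2 := congrFun hres 1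
  simp only [Pi.smul_apply, Finset.sum_apply, smul_eq_mul, OneMemClass.coe_one] at h1 h2
  rw [h1, h2, Finset.sum_congr rfl fun ψ hψ => horb ψ hψ ⟨y, hy⟩,
    Finset.sum_congr rfl fun ψ hψ => horb ψ hψ 1]

end General

section Setting

variable {G : Type u} [Group G] [Fintype G] {p : ℕ} [Fact p.Prime] (P : Sylow p G)

/-- The normalizer of the Sylow subgroup. -/
abbrev Nm : Subgroup G := Subgroup.normalizer ((P : Subgroup G) : Set G)

/-- Its derived subgroup inside the normalizer. -/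
abbrev Dv : Subgroup (Nm P) := (⁅(P : Subgroup G), (P : Subgroup G)⁆).subgroupOf (Nm P)

theorem le_Nm : (P : Subgroup G) ≤ Nm P := Subgroup.le_normalizer

theorem der_le : ⁅(P : Subgroup G), (P : Subgroup G)⁆ ≤ (P : Subgroup G) :=
  Subgroup.commutator_le_self _

theorem Dv_normal : (Dv P).Normal := by
  haveI hP : ((P : Subgroup G).subgroupOf (Nm P)).Normal := Subgroup.normal_in_normalizer
  have : Dv P = ⁅(P : Subgroup G).subgroupOf (Nm P), (P : Subgroup G).subgroupOf (Nm P)⁆ := by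
    apply Subgroup.map_injective (Nm P).subtype_injective
    rw [Subgroup.map_commutator, Subgroup.subgroupOf_map_subtype, Subgroup.subgroupOf_map_subtype,
      inf_eq_left.mpr ((der_le P).trans (le_Nm P)), inf_eq_left.mpr (le_Nm P)]
  rw [this]
  infer_instance

theorem card_Nm : Nat.card (Nm P) = Nat.card (commutator (P : Subgroup G)) * (Dv P).index := by
  rw [← (Dv P).card_mul_index, Nat.card_congr (Subgroup.subgroupOfEquivOfLe
    ((der_le P).trans (le_Nm P))).toEquiv]
  congr 1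
  rw [← Subgroup.map_subtype_commutator, Subgroup.card_map_of_injective (P : Subgroup G).subtype_injective]

/-- A character of the normalizer trivial on `P'` has degree prime to `p`. -/
theorem not_dvd_degree {ψ : Cfsg.IrrCharacter (Nm P)} (h : ∀ y ∈ Dv P, ψ.1 y = ψ.1 1) :
    ¬ p ∣ Char.degree ψ.1 := by
  haveI := Dv_normal P
  haveI hPn : ((P : Subgroup G).subgroupOf (Nm P)).Normal := Subgroup.normal_in_normalizer
  obtain ⟨η, hη, he⟩ := CharTwist.exists_irr_quotient ψ.2 (Dv P) h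
  obtain ⟨n, σ, hσ, rfl⟩ := hη
  haveI := hσ
  let A := ((P : Subgroup G).subgroupOf (Nm P)).map (QuotientGroup.mk' (Dv P))
  haveI : A.Normal := Subgroup.Normal.map hPn _ (QuotientGroup.mk'_surjective _)
  have hA : ∀ a ∈ A, ∀ b ∈ A, a * b = b * a := by
    rintro _ ⟨a, ha, rfl⟩ _ ⟨b, hb, rfl⟩
    refine commutatorElement_eq_one_iff_mul_comm.mp ?_
    rw [← map_commutatorElement]
    exact (QuotientGroup.eq_one_iff _).mpr (Subgroup.commutator_mem_commutator
      (show (a : G) ∈ (P : Subgroup G) from ha) (show (b : G) ∈ (P : Subgroup G) from hb))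
  have hdvd := Char.finrank_dvd_index_of_abelian_normal σ A hA
  have hdeg : Char.degree ψ.1 = Module.finrank ℂ (Fin n → ℂ) := by
    have h1 := deg ψ
    have h2 : ψ.1 1 = (Module.finrank ℂ (Fin n → ℂ) : ℂ) := by
      rw [he, Function.comp_apply, map_one, Representation.char_one]
    rw [h2] at h1
    exact_mod_cast h1.symm
  have hA2 : A.index ∣ ((P : Subgroup G).subgroupOf (Nm P)).index :=
    Subgroup.index_map_dvd _ (QuotientGroup.mk'_surjective _)
  intro hp
  refine P.not_dvd_index (((hp.trans (hdeg ▸ hdvd)).trans hA2).trans ?_)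
  rw [← Subgroup.relIndex, ← Subgroup.relIndex_mul_index (le_Nm P)]
  exact dvd_mul_right _ _

/-- A character of the normalizer of degree prime to `p` is trivial on `P'`. -/
theorem trivial_on_Dv {ψ : Cfsg.IrrCharacter (Nm P)} (h : ¬ p ∣ Char.degree ψ.1) :
    ∀ y ∈ Dv P, ψ.1 y = ψ.1 1 := by
  classical
  let A := (P : Subgroup G).subgroupOf (Nm P)
  haveI hPn : A.Normal := Subgroup.normal_in_normalizer
  haveI := Fintype.ofFinite (Nm P)
  obtain ⟨θ, hθ, hc⟩ := Clifford.exists_constituent_res A ψ.2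
  have hdeg := Clifford.apply_one_eq A ψ.2 hθ hc
  obtain ⟨m, hm⟩ := Char.IsCharacter.exists_nat_classInner
    (Clifford.isCharacter_res (Char.IsIrrCharacter.isCharacter ψ.2) A) hθ
  rw [hm, deg ψ, show θ 1 = (Char.degree θ : ℂ) from deg (⟨θ, hθ⟩ : Cfsg.IrrCharacter A)] at hdeg
  have hdeg' : Char.degree ψ.1 = m * (CharTwist.inertia A θ).index * Char.degree θ := by
    exact_mod_cast hdeg
  have hθ1 : Char.degree θ = 1 := by
    have hA : IsPGroup p A := P.2.of_equiv (Subgroup.subgroupOfEquivOfLe (le_Nm P)).symm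
    obtain ⟨k, hk⟩ := hA.exists_card_eq
    obtain ⟨j, -, hj⟩ := (Nat.dvd_prime_pow (Fact.out : p.Prime)).mp
      (hk ▸ FeitDeg.degree_dvd_card (⟨θ, hθ⟩ : Cfsg.IrrCharacter A))
    rcases Nat.eq_zero_or_pos j with rfl | hj0
    · simpa using hj
    · exact absurd (hdeg' ▸ (dvd_mul_of_dvd_right
        (show p ∣ Char.degree θ from (show Char.degree θ = p ^ j from hj) ▸ dvd_pow_self p hj0.ne') _)) h
  obtain ⟨f, hf⟩ := Char.IsCharacter.exists_linear (Char.IsIrrCharacter.isCharacter hθ)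
    (by rw [show θ 1 = (Char.degree θ : ℂ) from deg (⟨θ, hθ⟩ : Cfsg.IrrCharacter A), hθ1, Nat.cast_one])
  have hker : ∀ y (hy : y ∈ A), y ∈ Dv P → ∀ φ ∈ Clifford.orbit A θ, φ ⟨y, hy⟩ = φ 1 := by
    intro y hy hyD φ hφ
    obtain ⟨g, rfl⟩ := (Clifford.mem_orbit A).mp hφ
    have hmem : g * y * g⁻¹ ∈ Dv P := (Dv_normal P).conj_mem y hyD g
    have hcomm : (⟨g * y * g⁻¹, hPn.conj_mem y hy g⟩ : A) ∈ commutator A := by
      have hmap : (⟨g * y * g⁻¹, hPn.conj_mem y hy g⟩ : A) ∈
          (⁅A, A⁆).subgroupOf A := by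
        rw [Subgroup.mem_subgroupOf]
        have : Dv P = ⁅A, A⁆ := by
          apply Subgroup.map_injective (Nm P).subtype_injective
          rw [Subgroup.map_commutator, Subgroup.subgroupOf_map_subtype, Subgroup.subgroupOf_map_subtype,
            inf_eq_left.mpr ((der_le P).trans (le_Nm P)), inf_eq_left.mpr (le_Nm P)]
        rw [← this]; exact hmem
      rw [← Subgroup.map_subtype_commutator] at hmap
      obtain ⟨z, hz, hz'⟩ := hmap
      exact A.subtype_injective hz' ▸ hz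
    show θ _ = θ _
    rw [hf, hf, MonoidHom.mem_ker.mp (Abelianization.commutator_subset_ker f hcomm),
      show (⟨g * ((1 : A) : Nm P) * g⁻¹, hPn.conj_mem _ (1 : A).2 g⟩ : A) = 1 from
        Subtype.ext (by simp), map_one]
  intro y hy
  have hyA : y ∈ A := (der_le P) hy
  have hres := Clifford.res_eq A ψ.2 hθ hc
  have h1 := congrFun hres ⟨y, hyA⟩
  have h2 := congrFun hres 1
  simp only [Pi.smul_apply, Finset.sum_apply, smul_eq_mul, OneMemClass.coe_one] at h1 h2
  rw [h1, h2, Finset.sum_congr rfl fun φ hφ => hker y hyA hy φ hφ]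

/-- The characters of `G` of degree prime to `p`. -/
noncomputable def primeTo (p : ℕ) (G : Type u) [Group G] [Fintype G] :
    Finset (Cfsg.IrrCharacter G) :=
  open Classical in Finset.univ.filter fun χ => ¬ p ∣ Char.degree χ.1

theorem mem_primeTo {χ : Cfsg.IrrCharacter G} : χ ∈ primeTo p G ↔ ¬ p ∣ Char.degree χ.1 := by
  simp [primeTo]

/-- The characters of the normalizer trivial on `P'`. -/
noncomputable def low : Finset (Cfsg.IrrCharacter (Nm P)) :=
  open Classical in Finset.univ.filter fun ψ => ∀ y ∈ Dv P, ψ.1 y = ψ.1 1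

theorem mem_low {ψ : Cfsg.IrrCharacter (Nm P)} :
    ψ ∈ low P ↔ ∀ y ∈ Dv P, ψ.1 y = ψ.1 1 := by simp [low]

theorem sum_low : ∑ ψ ∈ low P, Char.degree ψ.1 ^ 2 = (Dv P).index := by
  classical
  haveI := Dv_normal P
  exact FeitDeg.sum_sq_trivial_on (Dv P)

variable [Fintype (Nm P)]

theorem exists_over {ψ : Cfsg.IrrCharacter (Nm P)} (hψ : ψ ∈ low P) :
    ∃ χ ∈ primeTo p G, Cfsg.classInner (fun n : Nm P => χ.1 n) ψ.1 ≠ 0 := by
  classical
  have hind : Cfsg.IsCharacter G (Cfsg.indFun (Nm P) ψ.1) :=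
    Char.IsCharacter.indFun (Nm P) (Char.IsIrrCharacter.isCharacter ψ.2)
  obtain ⟨m, hm⟩ := Char.IsCharacter.exists_nat_combination hind
  have h1 := congrFun hm 1
  rw [Char.indFun_apply_one, deg ψ] at h1
  have h2 : (Nm P).index * Char.degree ψ.1 =
      ∑ χ : Cfsg.IrrCharacter G, m χ * Char.degree χ.1 := by
    apply Nat.cast_injective (R := ℂ)
    push_cast
    rw [h1]
    simp [Finset.sum_apply, deg]
  have hndvd : ¬ p ∣ (Nm P).index * Char.degree ψ.1 := by
    intro h
    rcases (Fact.out : p.Prime).dvd_mul.mp h with h | h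
    · refine P.not_dvd_index (h.trans ?_)
      exact Subgroup.index_dvd_of_le (le_Nm P)
    · exact not_dvd_degree P ((mem_low P).mp hψ) h
  obtain ⟨χ, -, hχ⟩ : ∃ χ ∈ (Finset.univ : Finset (Cfsg.IrrCharacter G)),
      ¬ p ∣ m χ * Char.degree χ.1 := by
    by_contra hno
    push Not at hno
    exact hndvd (h2 ▸ Finset.dvd_sum hno)
  refine ⟨χ, mem_primeTo.mpr fun h => hχ (dvd_mul_of_dvd_right h _), fun h0 => hχ ?_⟩
  have h3 : (m χ : ℂ) = 0 := by
    rw [← Char.classInner_sum_smul_irr (fun φ => (m φ : ℂ)) χ, ← hm,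
      Char.classInner_indFun (Nm P) ψ.1 χ.1 (Char.IsIrrCharacter.isClassFunction χ.2),
      ← Char.classInner_conj_symm, h0, map_zero]
  rw [show m χ = 0 by exact_mod_cast h3, zero_mul]
  exact dvd_zero p

/-- The counting: the inequality, and restriction in the case of equality. -/
theorem count :
    (Dv P).index ≤ ∑ χ ∈ primeTo p G, Char.degree χ.1 ^ 2 ∧
    (∑ χ ∈ primeTo p G, Char.degree χ.1 ^ 2 ≤ (Dv P).index →
      (∀ ψ ∈ low P, ∃ χ ∈ primeTo p G, ∀ n : Nm P, χ.1 n = ψ.1 n) ∧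
      ∀ χ ∈ primeTo p G, ∃ ψ ∈ low P, ∀ n : Nm P, χ.1 n = ψ.1 n) := by
  classical
  haveI : Nonempty (Cfsg.IrrCharacter G) := ⟨Char.principalIrr⟩
  choose! f hf hfc using fun ψ (h : ψ ∈ low P) => exists_over P h
  choose m hm using fun χ : Cfsg.IrrCharacter G => Char.IsCharacter.exists_nat_combination
    (Clifford.isCharacter_res (Char.IsIrrCharacter.isCharacter χ.2) (Nm P))
  have hmval : ∀ χ ψ, Cfsg.classInner (fun n : Nm P => χ.1 n) ψ.1 = (m χ ψ : ℂ) := by
    intro χ ψ
    rw [hm χ]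
    exact Char.classInner_sum_smul_irr (fun φ => (m χ φ : ℂ)) ψ
  have hdeg : ∀ χ : Cfsg.IrrCharacter G,
      Char.degree χ.1 = ∑ ψ : Cfsg.IrrCharacter (Nm P), m χ ψ * Char.degree ψ.1 := by
    intro χ
    apply Nat.cast_injective (R := ℂ)
    push_cast
    have h1 := congrFun (hm χ) 1
    simp only [OneMemClass.coe_one, Finset.sum_apply, Pi.smul_apply, smul_eq_mul] at h1
    rw [← deg, h1]
    exact Finset.sum_congr rfl fun ψ _ => by rw [deg ψ]
  let F := fun χ : Cfsg.IrrCharacter G => (low P).filter fun ψ => f ψ = χ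
  have hpos : ∀ χ, ∀ ψ ∈ F χ, 1 ≤ m χ ψ := by
    intro χ ψ hψ
    obtain ⟨h1, rfl⟩ := Finset.mem_filter.mp hψ
    refine Nat.one_le_iff_ne_zero.mpr fun h0 => hfc ψ h1 ?_
    rw [hmval, h0, Nat.cast_zero]
  have hle : ∀ χ, ∑ ψ ∈ F χ, Char.degree ψ.1 ≤ Char.degree χ.1 := fun χ => by
    rw [hdeg χ]
    refine le_trans (Finset.sum_le_sum fun ψ hψ => Nat.le_mul_of_pos_left _ (hpos χ ψ hψ))
      (Finset.sum_le_sum_of_subset (Finset.subset_univ _))
  have hsq : ∀ χ, ∑ ψ ∈ F χ, Char.degree ψ.1 ^ 2 ≤ Char.degree χ.1 ^ 2 := fun χ =>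
    (Finset.sum_sq_le_sq_sum_of_nonneg fun ψ _ => Nat.zero_le _).trans (Nat.pow_le_pow_left (hle χ) 2)
  have htot : (Dv P).index = ∑ χ ∈ primeTo p G, ∑ ψ ∈ F χ, Char.degree ψ.1 ^ 2 := by
    rw [← sum_low P]
    exact (Finset.sum_fiberwise_of_maps_to hf _).symm
  have hsum : ∑ χ ∈ primeTo p G, ∑ ψ ∈ F χ, Char.degree ψ.1 ^ 2 ≤
      ∑ χ ∈ primeTo p G, Char.degree χ.1 ^ 2 := Finset.sum_le_sum fun χ _ => hsq χ
  refine ⟨by rw [htot]; exact hsum, fun hge => ?_⟩
  rw [htot] at hge
  have heq : ∀ χ ∈ primeTo p G, ∑ ψ ∈ F χ, Char.degree ψ.1 ^ 2 = Char.degree χ.1 ^ 2 :=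
    (Finset.sum_eq_sum_iff_of_le fun χ _ => hsq χ).mp
      (le_antisymm hsum hge)
  have key : ∀ χ ∈ primeTo p G, ∀ ψ ∈ F χ, ∀ n : Nm P, χ.1 n = ψ.1 n := by
    intro χ hχ ψ hψ n
    have hpd : ∀ φ : Cfsg.IrrCharacter (Nm P), 0 < Char.degree φ.1 :=
      fun φ => Char.IsIrrCharacter.degree_pos φ.2
    have hfull : ∑ φ ∈ F χ, Char.degree φ.1 = Char.degree χ.1 := le_antisymm (hle χ) <| by
      refine (Nat.pow_le_pow_iff_left two_ne_zero).mp ?_
      rw [← heq χ hχ]
      exact Finset.sum_sq_le_sq_sum_of_nonneg fun φ _ => Nat.zero_le _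
    have hd : Char.degree ψ.1 = Char.degree χ.1 := by
      by_contra hne
      have hlt : Char.degree ψ.1 < Char.degree χ.1 := lt_of_le_of_ne
        (hfull ▸ Finset.single_le_sum (f := fun φ : Cfsg.IrrCharacter (Nm P) => Char.degree φ.1) (fun φ _ => Nat.zero_le _) hψ) hne
      have hlt2 : ∑ φ ∈ F χ, Char.degree φ.1 ^ 2 < ∑ φ ∈ F χ, Char.degree φ.1 * Char.degree χ.1 := by
        refine Finset.sum_lt_sum (fun φ hφ => ?_) ⟨ψ, hψ, ?_⟩
        · rw [pow_two]
          exact Nat.mul_le_mul_left _ (hfull ▸ Finset.single_le_sum (f := fun φ : Cfsg.IrrCharacter (Nm P) => Char.degree φ.1) (fun φ _ => Nat.zero_le _) hφ)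
        · rw [pow_two]
          exact Nat.mul_lt_mul_of_pos_left hlt (hpd ψ)
      rw [heq χ hχ, ← Finset.sum_mul, hfull, pow_two] at hlt2
      exact lt_irrefl _ hlt2
    have hz : m χ ψ = 1 ∧ ∀ φ, φ ≠ ψ → m χ φ = 0 := by
      have h1 := hdeg χ
      rw [← Finset.add_sum_erase _ _ (Finset.mem_univ ψ), ← hd] at h1
      have h2 := hpos χ ψ hψ
      have h3 : m χ ψ * Char.degree ψ.1 ≥ Char.degree ψ.1 := Nat.le_mul_of_pos_left _ h2
      refine ⟨?_, fun φ hφ => ?_⟩
      · by_contra hne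
        have : 2 * Char.degree ψ.1 ≤ m χ ψ * Char.degree ψ.1 := Nat.mul_le_mul_right _ (by omega)
        have := hpd ψ
        omega
      · have h4 : ∑ φ ∈ Finset.univ.erase ψ, m χ φ * Char.degree φ.1 = 0 := by omega
        exact (mul_eq_zero.mp (Finset.sum_eq_zero_iff.mp h4 φ (Finset.mem_erase.mpr
          ⟨hφ, Finset.mem_univ _⟩))).resolve_right (hpd φ).ne'
    have h := congrFun (hm χ) n
    simp only [Finset.sum_apply, Pi.smul_apply, smul_eq_mul] at h
    rw [h, Finset.sum_eq_single ψ (fun φ _ hφ => by rw [hz.2 φ hφ, Nat.cast_zero, zero_mul])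
      (fun h' => absurd (Finset.mem_univ ψ) h'), hz.1, Nat.cast_one, one_mul]
  refine ⟨fun ψ hψ => ⟨f ψ, hf ψ hψ, key _ (hf ψ hψ) ψ (Finset.mem_filter.mpr ⟨hψ, rfl⟩)⟩,
    fun χ hχ => ?_⟩
  obtain ⟨ψ, hψ⟩ : (F χ).Nonempty := by
    by_contra hne
    rw [Finset.not_nonempty_iff_eq_empty] at hne
    have h := heq χ hχ
    rw [hne, Finset.sum_empty] at h
    exact (Char.IsIrrCharacter.degree_pos χ.2).ne' (pow_eq_zero_iff two_ne_zero |>.mp h.symm)
  exact ⟨ψ, (Finset.mem_filter.mp hψ).1, key χ hχ ψ hψ⟩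

/-- Equality forces a normal complement. -/
theorem complement_of_eq (hge : ∑ χ ∈ primeTo p G, Char.degree χ.1 ^ 2 ≤ (Dv P).index) :
    ∃ K : Subgroup G, K.Normal ∧ K ⊓ Nm P = ⊥ ∧ K ⊔ Nm P = ⊤ := by
  classical
  obtain ⟨hext, hres⟩ := (count P).2 hge
  haveI := Dv_normal P
  choose ker hkn hker using fun χ : Cfsg.IrrCharacter G => exists_ker χ
  let L : Subgroup G := ⨅ χ ∈ primeTo p G, ker χ
  haveI hLn : L.Normal := Subgroup.normal_iInf_normal fun χ => Subgroup.normal_iInf_normal fun _ => hkn χ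
  have hLP : ∀ x : G, x ∈ (P : Subgroup G) →
      (x ∈ L ↔ x ∈ ⁅(P : Subgroup G), (P : Subgroup G)⁆) := by
    intro x hx
    simp only [L, Subgroup.mem_iInf, hker]
    refine ⟨fun h => mem_of_forall_trivial (Dv P) (x := ⟨x, le_Nm P hx⟩) fun ψ hψ => ?_,
      fun h χ hχ => ?_⟩
    · obtain ⟨χ, hχ, hχψ⟩ := hext ψ ((mem_low P).mpr hψ)
      rw [← hχψ, ← hχψ]; exact h χ hχ
    · obtain ⟨ψ, hψ, hχψ⟩ := hres χ hχ
      have h1 := (mem_low P).mp hψ ⟨x, le_Nm P hx⟩ h
      rw [← hχψ, ← hχψ] at h1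
      exact h1
  let M : Subgroup G := Subgroup.normalClosure ((P : Subgroup G) : Set G)
  have hPM : (P : Subgroup G) ≤ M := fun x hx => Subgroup.subset_normalClosure hx
  haveI hPn : ((P : Subgroup G).subgroupOf (Nm P)).Normal := Subgroup.normal_in_normalizer
  have hMN : ∀ x : G, x ∈ M → x ∈ Nm P → x ∈ (P : Subgroup G) := by
    intro x hxM hxN
    refine mem_of_forall_trivial ((P : Subgroup G).subgroupOf (Nm P)) (x := ⟨x, hxN⟩) fun ψ hψ => ?_
    obtain ⟨χ, -, hχψ⟩ := hext ψ ((mem_low P).mpr fun y hy => hψ y ((der_le P) hy))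
    haveI := hkn χ
    have hle : M ≤ ker χ := Subgroup.normalClosure_le_normal fun y hy => (hker χ y).mpr (by
      have := hψ ⟨y, le_Nm P hy⟩ hy
      rwa [← hχψ, ← hχψ] at this)
    rw [← hχψ, ← hχψ]
    exact (hker χ x).mp (hle hxM)
  have hfact : Nm P ⊔ M = ⊤ := Sylow.normalizer_sup_eq_top' P hPM
  let Q : Sylow p M := P.subtype hPM
  let L' : Subgroup M := L.subgroupOf M
  have hnpc : Cfsg.HasNormalPComplement p M := by
    refine Transfer.hasNormalPComplement_of_commutator_inf_le Q ?_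
    rw [Subgroup.commutator_inf_eq_focalSubgroup Q, Subgroup.focalSubgroup_def,
      Subgroup.closure_le]
    rintro g ⟨hgQ, x, hx, u, rfl⟩
    have hy : u * x * u⁻¹ ∈ (Q : Subgroup M) := by
      have h1 : (u * x * u⁻¹)⁻¹ ∈ (Q : Subgroup M) := by
        have := mul_mem (inv_mem hx) hgQ
        rwa [show x⁻¹ * ⁅x, u⁆ = (u * x * u⁻¹)⁻¹ by rw [commutatorElement_def]; group] at this
      exact inv_mem_iff.mp h1
    -- the cosets of `L'` through `x` and its conjugate are invariant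
    have hinv : ∀ v ∈ (Q : Subgroup M), (Q : Subgroup M) ≤
        Subgroup.normalizer ((fun l => v * l) '' (L' : Set M)) := by
      intro v hv q hq
      rw [Subgroup.mem_set_normalizer_iff]
      intro z
      have hc : v⁻¹ * (q * v * q⁻¹) ∈ L' := by
        have : ⁅v⁻¹, q⁆ ∈ L' := by
          show ((⁅v⁻¹, q⁆ : M) : G) ∈ L
          exact (hLP _ (Subgroup.mul_mem _ (Subgroup.mul_mem _ (Subgroup.mul_mem _ (inv_mem hv) hq)
            (inv_mem (inv_mem hv))) (inv_mem hq))).mpr
              (Subgroup.commutator_mem_commutator (inv_mem hv) hq)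
        rwa [commutatorElement_def, inv_inv, mul_assoc, mul_assoc, ← mul_assoc q] at this
      simp only [Set.mem_image, SetLike.mem_coe]
      constructor
      · rintro ⟨l, hl, rfl⟩
        exact ⟨v⁻¹ * (q * v * q⁻¹) * (q * l * q⁻¹), mul_mem hc
          ((inferInstance : L'.Normal).conj_mem l hl q), by group⟩
      · rintro ⟨l, hl, e⟩
        refine ⟨v⁻¹ * z, ?_, by group⟩
        have h1 : q * (v⁻¹ * z) * q⁻¹ = (q * v * q⁻¹)⁻¹ * v * l := by
          rw [show (q * v * q⁻¹)⁻¹ * v * l = (q * v * q⁻¹)⁻¹ * (v * l) by group, e]; group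
        have h2 : q * (v⁻¹ * z) * q⁻¹ ∈ L' := by
          rw [h1]
          refine mul_mem ?_ hl
          have := inv_mem hc
          rwa [mul_inv_rev, inv_inv] at this
        have h3 := (inferInstance : L'.Normal).conj_mem _ h2 q⁻¹
        rwa [show q⁻¹ * (q * (v⁻¹ * z) * q⁻¹) * q⁻¹⁻¹ = v⁻¹ * z by group] at h3
    obtain ⟨n, hn, himg⟩ := Transfer.burnside_fusion_sets Q (hinv x hx) (hinv _ hy) (g := u) (by
      rw [Set.image_image]
      ext z
      simp only [Set.mem_image, SetLike.mem_coe]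
      constructor
      · rintro ⟨l, hl, rfl⟩
        exact ⟨u * l * u⁻¹, (inferInstance : L'.Normal).conj_mem l hl u, by group⟩
      · rintro ⟨l, hl, rfl⟩
        refine ⟨u⁻¹ * l * u, ?_, by group⟩
        have := (inferInstance : L'.Normal).conj_mem l hl u⁻¹
        rwa [inv_inv] at this)
    have hnQ : n ∈ (Q : Subgroup M) := by
      refine hMN n n.2 ?_
      show (n : G) ∈ Nm P
      rw [Subgroup.mem_normalizer_iff]
      intro z
      have hn' := Subgroup.mem_normalizer_iff.mp hn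
      constructor
      · intro hz
        exact (hn' ⟨z, hPM hz⟩).mp hz
      · intro hz
        have hzM : z ∈ M := by
          have h1 := M.mul_mem (M.mul_mem (M.inv_mem n.2) (hPM hz)) n.2
          rwa [show (n : G)⁻¹ * ((n : G) * z * (n : G)⁻¹) * n = z by group] at h1
        exact (hn' ⟨z, hzM⟩).mpr hz
    obtain ⟨l, hl, hle⟩ : n * x * n⁻¹ ∈ (fun l => u * x * u⁻¹ * l) '' (L' : Set M) :=
      himg ▸ ⟨x, ⟨1, L'.one_mem, mul_one x⟩, rfl⟩
    have hlQ : l ∈ (Q : Subgroup M) := by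
      rw [show l = (u * x * u⁻¹)⁻¹ * (n * x * n⁻¹) by rw [← hle]; group]
      exact mul_mem (inv_mem hy) (mul_mem (mul_mem hnQ hx) (inv_mem hnQ))
    have hl' : l ∈ ⁅(Q : Subgroup M), (Q : Subgroup M)⁆ := by
      have h1 : (l : G) ∈ ⁅(P : Subgroup G), (P : Subgroup G)⁆ := (hLP _ hlQ).mp hl
      have h2 : (⁅(Q : Subgroup M), (Q : Subgroup M)⁆).map M.subtype =
          ⁅(P : Subgroup G), (P : Subgroup G)⁆ := by
        rw [Subgroup.map_commutator, show (Q : Subgroup M).map M.subtype = (P : Subgroup G) by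
          rw [Sylow.coe_subtype, Subgroup.subgroupOf_map_subtype, inf_eq_left.mpr hPM]]
      rw [← h2] at h1
      obtain ⟨w, hw, hwl⟩ := h1
      exact (Subtype.ext hwl : w = l) ▸ hw
    rw [SetLike.mem_coe, commutatorElement_def]
    have h1 : x * u * x⁻¹ * u⁻¹ = ⁅x, n⁆ * (n * x * n⁻¹) * (u * x * u⁻¹)⁻¹ := by
      rw [commutatorElement_def]; group
    rw [h1, ← hle, show ∀ c y : M, c * (y * l) * y⁻¹ = c * (y * l * y⁻¹) by intro c y; group]
    refine mul_mem (Subgroup.commutator_mem_commutator hx hnQ) ?_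
    have : ⁅(u * x * u⁻¹), l⁆ * l ∈ ⁅(Q : Subgroup M), (Q : Subgroup M)⁆ :=
      mul_mem (Subgroup.commutator_mem_commutator hy hlQ) hl'
    rwa [commutatorElement_def, inv_mul_cancel_right] at this
  have hcompl := Transfer.HasNormalPComplement.isComplement' hnpc Q
  let O : Subgroup G := (Cfsg.pResidual p M).map M.subtype
  refine ⟨O, ?_, ?_, ?_⟩
  · haveI : (Cfsg.pResidual p M).Characteristic := Transfer.pResidual_characteristic
    infer_instance
  · refine (Subgroup.eq_bot_iff_forall _).mpr ?_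
    rintro _ ⟨⟨z, hz, rfl⟩, hzN⟩
    have hzQ : z ∈ (Q : Subgroup M) := hMN z z.2 hzN
    have hd := hcompl.disjoint
    rw [disjoint_iff, Subgroup.eq_bot_iff_forall] at hd
    rw [hd z ⟨hz, hzQ⟩]; rfl
  · rw [eq_top_iff, ← hfact, sup_le_iff]
    refine ⟨le_sup_right, fun z hz => ?_⟩
    obtain ⟨⟨⟨o, ho⟩, ⟨q, hq⟩⟩, hoq⟩ := hcompl.2 ⟨z, hz⟩
    rw [show z = (o : G) * (q : G) from (congrArg Subtype.val hoq).symm]
    exact Subgroup.mul_mem_sup ⟨o, ho, rfl⟩ (le_Nm P hq)

/-- A normal complement gives equality. -/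
theorem eq_of_complement (K : Subgroup G) [hKn : K.Normal] (hKN : K ⊓ Nm P = ⊥) (hsup : K ⊔ Nm P = ⊤) :
    ∑ χ ∈ primeTo p G, Char.degree χ.1 ^ 2 ≤ (Dv P).index := by
  classical
  haveI := Fintype.ofFinite K
  have htriv : ∀ χ ∈ primeTo p G, ∀ y ∈ K, χ.1 y = χ.1 1 := by
    intro χ hχ
    by_contra h
    have hsum := sum_eq_zero_of_not_trivial K χ h
    letI : MulAction (P : Subgroup G) K :=
      MulAction.compHom K ((MulAut.conjNormal (H := K)).comp (P : Subgroup G).subtype)
    have hsmul : ∀ (g : (P : Subgroup G)) (k : K), ((g • k : K) : G) = (g : G) * k * (g : G)⁻¹ :=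
      fun g k => MulAut.conjNormal_apply _ _
    obtain ⟨z, hz, he⟩ := sum_invariant_mod (α := K) P.2 (fun k => χ.1 k)
      (fun g k => by rw [hsmul]; exact Char.IsIrrCharacter.isClassFunction χ.2 _ _)
      (fun k => by
        obtain ⟨n, ρ, hρ, hρe⟩ := χ.2
        rw [← hρe]; exact Char.isIntegral_character ρ _)
    have hfix : Finset.univ.filter (fun a : K => a ∈ MulAction.fixedPoints (P : Subgroup G) K) = {1} := by
      ext k
      simp only [Finset.mem_filter, Finset.mem_univ, true_and, Finset.mem_singleton]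
      refine ⟨fun hk => ?_, fun hk => by subst hk; exact fun g => Subtype.ext (by simp [hsmul])⟩
      have hmem : (k : G) ∈ Nm P := by
        rw [Subgroup.mem_normalizer_iff]
        intro y
        have hcomm : ∀ y ∈ (P : Subgroup G), (k : G) * y * (k : G)⁻¹ = y := fun y hy => by
          have := congrArg Subtype.val (hk ⟨y, hy⟩)
          rw [hsmul] at this
          change y * (k : G) * y⁻¹ = k at this
          rw [mul_inv_eq_iff_eq_mul] at this ⊢
          exact this.symm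
        refine ⟨fun hy => by rw [hcomm y hy]; exact hy, fun hy => ?_⟩
        have := hcomm _ hy
        have h1 : (k : G) * y * (k : G)⁻¹ = y := by
          calc (k : G) * y * (k : G)⁻¹
              = (k : G)⁻¹ * ((k : G) * ((k : G) * y * (k : G)⁻¹) * (k : G)⁻¹) * k := by group
            _ = y := by rw [this]; group
        rwa [h1] at hy
      exact Subtype.ext ((Subgroup.mem_bot).mp (hKN ▸ ⟨k.2, hmem⟩))
    rw [hsum, hfix, Finset.sum_singleton, OneMemClass.coe_one, deg χ] at he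
    refine mem_primeTo.mp hχ (Char.dvd_of_isIntegral_natCast_div (Fact.out : p.Prime).ne_zero ?_)
    rw [show (Char.degree χ.1 : ℂ) / (p : ℂ) = -z by
      have hp : (p : ℂ) ≠ 0 := Nat.cast_ne_zero.mpr (Fact.out : p.Prime).ne_zero
      field_simp
      linear_combination -he]
    exact hz.neg
  let φ : Nm P →* G ⧸ K := (QuotientGroup.mk' K).comp (Nm P).subtype
  have hφ : Function.Surjective φ := by
    intro q
    obtain ⟨g, rfl⟩ := QuotientGroup.mk'_surjective K q
    obtain ⟨k, hk, n, hn, rfl⟩ := Subgroup.mem_sup_of_normal_left.mp (hsup ▸ Subgroup.mem_top g)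
    exact ⟨⟨n, hn⟩, (by
      rw [map_mul, show QuotientGroup.mk' K k = 1 from (QuotientGroup.eq_one_iff k).mpr hk, one_mul]
      rfl)⟩
  have hres : ∀ χ ∈ primeTo p G, ∃ ψ ∈ low P, ∀ n : Nm P, χ.1 n = ψ.1 n := by
    intro χ hχ
    obtain ⟨η, hη, he⟩ := CharTwist.exists_irr_quotient χ.2 K (htriv χ hχ)
    let ψ : Cfsg.IrrCharacter (Nm P) := ⟨η ∘ φ, CharTwist.isIrrCharacter_comp hη φ hφ⟩
    have hψ : ∀ n : Nm P, χ.1 n = ψ.1 n := fun n => by rw [he]; rfl
    refine ⟨ψ, (mem_low P).mpr (trivial_on_Dv P ?_), hψ⟩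
    have : Char.degree ψ.1 = Char.degree χ.1 := by
      rw [Char.degree, Char.degree, ← hψ]; rfl
    rw [this]; exact mem_primeTo.mp hχ
  haveI : Nonempty (Cfsg.IrrCharacter (Nm P)) := ⟨Char.principalIrr⟩
  choose! r hr hr' using hres
  have hinj : ∀ χ ∈ primeTo p G, ∀ χ' ∈ primeTo p G, r χ = r χ' → χ = χ' := by
    intro χ hχ χ' hχ' h
    obtain ⟨η, hη, he⟩ := CharTwist.exists_irr_quotient χ.2 K (htriv χ hχ)
    obtain ⟨η', hη', he'⟩ := CharTwist.exists_irr_quotient χ'.2 K (htriv χ' hχ')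
    refine Subtype.ext (funext fun g => ?_)
    obtain ⟨n, hn⟩ := hφ (QuotientGroup.mk' K g)
    rw [he, he', Function.comp_apply, Function.comp_apply, ← hn]
    have h1 := hr' χ hχ n
    have h2 := hr' χ' hχ' n
    rw [he] at h1; rw [he'] at h2
    exact h1.trans ((congrArg (fun ψ : Cfsg.IrrCharacter (Nm P) => ψ.1 n) h).trans h2.symm)
  rw [← sum_low P]
  calc ∑ χ ∈ primeTo p G, Char.degree χ.1 ^ 2
      = ∑ χ ∈ primeTo p G, Char.degree (r χ).1 ^ 2 := Finset.sum_congr rfl fun χ hχ => by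
        show ⌊(χ.1 1).re⌋₊ ^ 2 = ⌊((r χ).1 1).re⌋₊ ^ 2
        rw [← hr' χ hχ]; rfl
    _ = ∑ ψ ∈ (primeTo p G).image r, Char.degree ψ.1 ^ 2 :=
        (Finset.sum_image (f := fun ψ : Cfsg.IrrCharacter (Nm P) => Char.degree ψ.1 ^ 2)
          fun χ hχ χ' hχ' h => hinj χ hχ χ' hχ' h).symm
    _ ≤ _ := Finset.sum_le_sum_of_subset (fun ψ hψ => by
        obtain ⟨χ, hχ, rfl⟩ := Finset.mem_image.mp hψ
        exact hr χ hχ)

end Setting

end CfsgLib.DegPrimeTo
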