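import Cfsg.Agent.Lib.RealChar.Indicator
import Cfsg.Agent.Lib.RealChar.Trichotomy
import Cfsg.Agent.Lib.Char.Orth
import Cfsg.Agent.Lib.Char.Kernel

/-!
# The indicator of a real character of odd degree
-/

set_option autoImplicit false

namespace CfsgLib.CharExt

open Module Matrix
open scoped ComplexConjugate

universe u

variable {G : Type u} [Group G] [Fintype G] {n : ℕ}

theorem fsInd_eq_one_of_odd_aux (ρ : Representation ℂ G (Fin n → ℂ)) [ρ.IsIrreducible]
    (hn : Odd n) (hreal : ∀ g, (ρ.character g).im = 0) :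
    RealChar.fsInd ρ.character = 1 := by
  classical
  let b := Pi.basisFun ℂ (Fin n)
  let A : G → Matrix (Fin n) (Fin n) ℂ := fun x => LinearMap.toMatrix b b (ρ x)
  have hA : ∀ x y, A (x * y) = A x * A y := fun x y => by
    simp only [A, map_mul, LinearMap.toMatrix_mul]
  have hA1 : A 1 = 1 := by simp only [A, map_one, LinearMap.toMatrix_one]
  have htr : ∀ x, ρ.character x = (A x).trace := fun x => LinearMap.trace_eq_matrix_trace ℂ b _
  have hρA : ∀ y, Matrix.toLin b b (A y) = ρ y := fun y => Matrix.toLin_toMatrix _ _ _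
  let P : Matrix (Fin n) (Fin n) ℂ → Matrix (Fin n) (Fin n) ℂ := fun E =>
    (Nat.card G : ℂ)⁻¹ • ∑ x, A x * E * (A x)ᵀ
  have hPinv : ∀ E y, A y * P E * (A y)ᵀ = P E := by
    intro E y
    simp only [P, Matrix.mul_smul, Matrix.smul_mul, Finset.mul_sum, Finset.sum_mul]
    congr 1
    refine Fintype.sum_equiv (Equiv.mulLeft y) _ _ fun x => ?_
    simp only [Equiv.coe_mulLeft, hA, Matrix.transpose_mul, Matrix.mul_assoc]
  -- an invariant skew form in odd dimension is zero
  have hskew : ∀ S : Matrix (Fin n) (Fin n) ℂ, (∀ y, A y * S * (A y)ᵀ = S) → Sᵀ = -S → S = 0 := by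
    intro S hS hT
    have hdet : S.det = 0 := by
      have h1 := congrArg Matrix.det hT
      rw [Matrix.det_transpose, Matrix.det_neg, Fintype.card_fin, hn.neg_one_pow, neg_one_mul] at h1
      linear_combination (1 / 2 : ℂ) * h1
    let f : (Fin n → ℂ) →ₗ[ℂ] (Fin n → ℂ) := Matrix.toLin b b S
    have hrange : ∀ y : G, ∀ v ∈ LinearMap.range f, ρ y v ∈ LinearMap.range f := by
      rintro y _ ⟨w, rfl⟩
      refine ⟨Matrix.toLin b b (A y⁻¹)ᵀ w, ?_⟩
      rw [← hρA y]
      simp only [f, ← LinearMap.comp_apply, ← Matrix.toLin_mul]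
      congr 2
      conv_lhs => rw [← hS y]
      rw [Matrix.mul_assoc _ (A y)ᵀ, ← Matrix.transpose_mul, ← hA, inv_mul_cancel, hA1,
        Matrix.transpose_one, Matrix.mul_one]
    rcases CfsgLib.CharKernel.eq_bot_or_eq_top ρ _ hrange with h | h
    · exact (Matrix.toLin b b).map_eq_zero_iff.mp (LinearMap.range_eq_bot.mp h)
    · exfalso
      have hunit : IsUnit f := (Module.End.isUnit_iff _).mpr
        ⟨LinearMap.injective_iff_surjective.mpr (LinearMap.range_eq_top.mp h),
          LinearMap.range_eq_top.mp h⟩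
      have hS' : IsUnit S := by
        rw [← show LinearMap.toMatrixAlgEquiv b f = S from LinearMap.toMatrix_toLin b b S]
        exact hunit.map _
      exact ((Matrix.isUnit_iff_isUnit_det S).mp hS').ne_zero hdet
  have hsym : ∀ E, P Eᵀ = P E := by
    intro E
    have hPT : P Eᵀ = (P E)ᵀ := by
      simp only [P, Matrix.transpose_smul, Matrix.transpose_sum, Matrix.transpose_mul,
        Matrix.transpose_transpose, Matrix.mul_assoc]
    have h0 := hskew (P E - (P E)ᵀ) (fun y => by
      rw [Matrix.mul_sub, Matrix.sub_mul, hPinv, ← hPT, hPinv])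
      (by rw [Matrix.transpose_sub, Matrix.transpose_transpose, neg_sub])
    rw [hPT]
    exact (sub_eq_zero.mp h0).symm
  have hν : RealChar.fsInd ρ.character = ∑ i, ∑ j, P (Matrix.single j i 1) i j := by
    simp only [P, Matrix.smul_apply, smul_eq_mul, ← Finset.mul_sum, RealChar.fsInd]
    congr 1
    simp only [Matrix.sum_apply]
    rw [Finset.sum_congr rfl fun i _ => Finset.sum_comm, Finset.sum_comm]
    refine Finset.sum_congr rfl fun x _ => ?_
    rw [htr, hA, Matrix.trace]
    refine Finset.sum_congr rfl fun i _ => ?_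
    rw [Matrix.diag, Matrix.mul_apply]
    refine Finset.sum_congr rfl fun j _ => ?_
    simp [Matrix.mul_apply, Matrix.single_apply, Matrix.transpose_apply, ite_and]
  have h1 := CfsgLib.Char.classInner_irr_self (χ := ρ.character) ⟨n, ρ, inferInstance, rfl⟩
  rw [Cfsg.classInner] at h1
  have h2 : ∑ i, ∑ j, P (Matrix.single i j 1) i j =
      (Nat.card G : ℂ)⁻¹ * ∑ x, ρ.character x * conj (ρ.character x) := by
    simp only [P, Matrix.smul_apply, smul_eq_mul, ← Finset.mul_sum]
    congr 1
    simp only [Matrix.sum_apply]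
    rw [Finset.sum_congr rfl fun i _ => Finset.sum_comm, Finset.sum_comm]
    refine Finset.sum_congr rfl fun x _ => ?_
    rw [Complex.conj_eq_iff_im.mpr (hreal x), htr, Matrix.trace, Finset.sum_mul_sum]
    refine Finset.sum_congr rfl fun i _ => Finset.sum_congr rfl fun j _ => ?_
    simp [Matrix.mul_apply, Matrix.single_apply, Matrix.transpose_apply, ite_and, Matrix.diag]
  rw [hν]
  refine Eq.trans ?_ (h2.trans h1)
  refine Finset.sum_congr rfl fun i _ => Finset.sum_congr rfl fun j _ => ?_
  rw [← hsym, Matrix.transpose_single]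

/-- A real valued irreducible character of odd degree has indicator one. -/
theorem fsInd_eq_one_of_odd {χ : G → ℂ} (hχ : Cfsg.IsIrrCharacter G χ)
    (hreal : ∀ g, (χ g).im = 0) {d : ℕ} (hd : χ 1 = d) (hodd : Odd d) :
    RealChar.fsInd χ = 1 := by
  obtain ⟨n, ρ, hρ, rfl⟩ := hχ
  haveI := hρ
  have hn : (n : ℂ) = d := by
    rw [← hd]
    simp [Representation.char_one]
  exact fsInd_eq_one_of_odd_aux ρ (Nat.cast_injective hn ▸ hodd) hreal

end CfsgLib.CharExt
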