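import Cfsg.Agent.Lib.CharExt.ZassClasses
import Cfsg.Agent.Lib.CharDeep.Zassenhaus
import Cfsg.Agent.Lib.Char.Induced
import Cfsg.Agent.Lib.Char.Linear
import Cfsg.Agent.Lib.Char.Orth

/-!
# Induced linear characters of point stabilisers
-/

set_option autoImplicit false
set_option linter.unusedSectionVars false
set_option linter.style.haveILetI false

open MulAction
open scoped ComplexConjugate

namespace CfsgLib.ZassOdd

variable {G Ω : Type*} [Group G] [MulAction G Ω] [Fintype Ω] [Fintype G] {e : ℕ}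

theorem extendByZero_sum_eq {a : Ω} (θ : stabilizer G a → ℂ) (g : G) :
    Cfsg.indFun (stabilizer G a) θ g =
      (Nat.card (stabilizer G a) : ℂ)⁻¹ *
        ∑ x : G, Cfsg.extendByZero (stabilizer G a) θ (x⁻¹ * g * x) :=
  Char.indFun_apply _ _ _

/-- The values of an induced function: one term for each fixed point. -/
theorem indFun_eq_sum_fix [DecidableEq Ω] {a : Ω} (htrans : ∀ c : Ω, ∃ v : G, v • a = c)
    (θ : stabilizer G a → ℂ) (hθ : Cfsg.IsClassFunction (stabilizer G a) θ) (v : Ω → G)
    (hv : ∀ c, v c • a = c) (g : G) :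
    Cfsg.indFun (stabilizer G a) θ g =
      ∑ c ∈ fixPts g, Cfsg.extendByZero (stabilizer G a) θ ((v c)⁻¹ * g * v c) := by
  classical
  rw [extendByZero_sum_eq, ← Finset.sum_fiberwise (Finset.univ : Finset G) (fun x => x • a)
    (fun x => Cfsg.extendByZero (stabilizer G a) θ (x⁻¹ * g * x))]
  have hzero : ∀ c : Ω, c ∉ fixPts g →
      Cfsg.extendByZero (stabilizer G a) θ ((v c)⁻¹ * g * v c) = 0 := by
    intro c hc
    refine Char.extendByZero_of_notMem _ _ fun h => hc (mem_fixPts.mpr ?_)
    rw [mem_stabilizer_iff, mul_smul, mul_smul, hv, inv_smul_eq_iff, hv] at h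
    exact h
  rw [Finset.sum_subset (Finset.subset_univ _) fun c _ hc => hzero c hc, Finset.mul_sum]
  refine Finset.sum_congr rfl fun c _ => ?_
  have hterm : ∀ x : G, x • a = c →
      Cfsg.extendByZero (stabilizer G a) θ (x⁻¹ * g * x) =
        Cfsg.extendByZero (stabilizer G a) θ ((v c)⁻¹ * g * v c) := by
    intro x hx
    have hm : (v c)⁻¹ * x ∈ stabilizer G a := by
      rw [mem_stabilizer_iff, mul_smul, hx, inv_smul_eq_iff, hv]
    rw [← Char.extendByZero_conj _ θ hθ ⟨_, hm⟩⁻¹ ((v c)⁻¹ * g * v c)]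
    congr 1
    simp [mul_assoc]
  rw [Finset.sum_congr rfl fun x hx => hterm x (Finset.mem_filter.mp hx).2, Finset.sum_const,
    nsmul_eq_mul, ← mul_assoc]
  suffices ({x : G | x • a = c} : Finset G).card = Nat.card (stabilizer G a) by
    rw [this, inv_mul_cancel₀ (Nat.cast_ne_zero.mpr Nat.card_pos.ne'), one_mul]
  rw [Nat.subtype_card ({x : G | x • a = a} : Finset G) fun x => by simp]
  refine Finset.card_bij' (fun x _ => (v c)⁻¹ * x) (fun y _ => v c * y) ?_ ?_ ?_ ?_
  · intro x hx
    simp only [Finset.mem_filter, Finset.mem_univ, true_and] at hx ⊢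
    rw [mul_smul, hx, inv_smul_eq_iff, hv]
  · intro y hy
    simp only [Finset.mem_filter, Finset.mem_univ, true_and] at hy ⊢
    rw [mul_smul, hy, hv]
  · intro x _; simp
  · intro y _; simp

/-- A nontrivial linear character of a point stabiliser, trivial on the kernel, induces an
irreducible character. -/
theorem Odds.indFun_linear (hO : Odds G Ω e) {a : Ω} {H : Subgroup G}
    (hHmem : ∀ g : G, g • a = a → (g ∈ H ↔ (g = 1 ∨ ∀ c : Ω, g • c = c → c = a)))
    (hHa : H ≤ stabilizer G a) (f : stabilizer G a →* ℂˣ)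
    (hfH : ∀ u : stabilizer G a, (u : G) ∈ H → f u = 1) (hf : f ≠ 1) :
    Cfsg.IsIrrCharacter G (Cfsg.indFun (stabilizer G a) fun g => (f g : ℂ)) ∧
      ∀ u ∈ H, u ≠ 1 → Cfsg.indFun (stabilizer G a) (fun g => (f g : ℂ)) u = 1 := by
  classical
  have hP := hO.pre
  obtain ⟨K, hK⟩ := hP.exists_kernel a
  have hKeq : K = H := by
    ext g
    refine ⟨fun hg => (hHmem g (hK.le g hg)).mpr (or_iff_not_imp_left.mpr fun h1 => hK.fix g hg h1),
      fun hg => ?_⟩
    rcases (hHmem g (hHa hg)).mp hg with h1 | h1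
    · rw [h1]; exact one_mem K
    · exact hK.mem g (hHa hg) h1
  set θ : stabilizer G a → ℂ := fun g => (f g : ℂ) with hθdef
  have hθcl : Cfsg.IsClassFunction (stabilizer G a) θ := fun g h => by
    simp [hθdef, mul_comm, mul_left_comm, ← mul_assoc]
  have hsw : ∀ c : Ω, ∃ v : G, v • a = c ∧ (c = a → v = 1) ∧ (c ≠ a → v • c = a) := by
    intro c
    by_cases hca : c = a
    · exact ⟨1, by rw [hca, one_smul], fun _ => rfl, fun h => absurd hca h⟩
    · obtain ⟨v, va, vb⟩ := hO.exists_swap (Ne.symm hca)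
      exact ⟨v, va, fun h => absurd h hca, fun _ => vb⟩
  choose v hv hv1 hv2 using hsw
  have hval := indFun_eq_sum_fix (fun c => ⟨v c, hv c⟩) θ hθcl v hv
  -- the term at the point `c ≠ a` is the conjugate value
  have hterm : ∀ (g : stabilizer G a) (c : Ω), c ≠ a → (g : G) • c = c →
      Cfsg.extendByZero (stabilizer G a) θ ((v c)⁻¹ * g * v c) = conj (θ g) := by
    intro g c hc hgc
    have hinv : v c * (g : G) * (v c)⁻¹ = (g : G)⁻¹ :=
      hO.inverts a c (Ne.symm hc) (v c) (hv c) (hv2 c hc) g g.2 hgc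
    have h2 : (v c)⁻¹ * (g : G) * v c = (g : G)⁻¹ := by
      have hvv := inv_eq_of_mul_eq_one_right (hO.swap_sq (Ne.symm hc) (hv c) (hv2 c hc)).1
      rw [hvv] at hinv ⊢
      exact hinv
    rw [h2, show ((g : G)⁻¹) = ((g⁻¹ : stabilizer G a) : G) from rfl, Char.extendByZero_coe]
    exact Char.IsIrrCharacter.apply_inv (Char.isIrrCharacter_linear f) g
  have hu1 : ∀ u ∈ H, u ≠ 1 → Cfsg.indFun (stabilizer G a) θ u = 1 := by
    intro u hu hu1
    have hfx : fixPts u = ({a} : Finset Ω) := by
      ext c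
      rw [mem_fixPts, Finset.mem_singleton]
      exact ⟨((hHmem u (hHa hu)).mp hu).resolve_left hu1 c, fun h => h ▸ hHa hu⟩
    rw [hval, hfx, Finset.sum_singleton, hv1 a rfl, inv_one, one_mul, mul_one,
      show u = ((⟨u, hHa hu⟩ : stabilizer G a) : G) from rfl, Char.extendByZero_coe]
    simp [hθdef, hfH ⟨u, hHa hu⟩ hu]
  refine ⟨?_, hu1⟩
  have hθchar : Cfsg.IsCharacter (stabilizer G a) θ :=
    Char.IsIrrCharacter.isCharacter (Char.isIrrCharacter_linear f)
  refine Char.IsCharacter.isIrrCharacter_of_classInner_self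
    (Char.IsCharacter.indFun _ hθchar) ?_
  rw [Char.classInner_indFun _ _ _ (Char.isClassFunction_indFun _ _)]
  -- decompose the summand
  have hdec : ∀ g : stabilizer G a,
      θ g * conj (Cfsg.indFun (stabilizer G a) θ g) =
        (if (g : G) ∈ H then 1 else 0) + (if g = 1 then ((Fintype.card Ω - 1 : ℕ) : ℂ) else 0) +
          ∑ c ∈ Finset.univ.erase a,
            if g ≠ 1 ∧ (g : G) • c = c then θ g * θ g + 1 else 0 := by
    intro g
    by_cases hg1 : g = 1
    · subst hg1
      have h1 : θ 1 = 1 := by simp [hθdef]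
      rw [OneMemClass.coe_one, Char.indFun_apply_one, h1, one_mul, mul_one, Complex.conj_natCast, if_pos rfl,
        if_pos H.one_mem,
        Finset.sum_eq_zero (fun c _ => if_neg fun h => h.1 rfl), add_zero]
      haveI := hP.isPretransitive
      rw [MulAction.index_stabilizer_of_transitive, Nat.card_eq_fintype_card]
      have := hP.three_le_card
      obtain ⟨n', hn'⟩ : ∃ n', Fintype.card Ω = n' + 1 := ⟨_, (Nat.sub_add_cancel (by omega)).symm⟩
      rw [hn', Nat.add_sub_cancel]
      push_cast; ring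
    rw [if_neg hg1, add_zero, hval]
    by_cases hgH : (g : G) ∈ H
    · have hfx : ∀ c, (g : G) • c = c → c = a :=
        ((hHmem g g.2).mp hgH).resolve_left fun h => hg1 (Subtype.ext h)
      have hfs : fixPts (g : G) = ({a} : Finset Ω) := by
        ext c
        rw [mem_fixPts, Finset.mem_singleton]
        exact ⟨hfx c, fun h => h ▸ g.2⟩
      rw [if_pos hgH, hfs, Finset.sum_singleton, hv1 a rfl, inv_one, one_mul, mul_one,
        Char.extendByZero_coe, Finset.sum_eq_zero fun c hc =>
          if_neg fun h => (Finset.mem_erase.mp hc).1 (hfx c h.2), add_zero]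
      simp [hθdef, hfH g hgH]
    · obtain ⟨c, hca, hgc⟩ : ∃ c, c ≠ a ∧ (g : G) • c = c := by
        by_contra hall
        push Not at hall
        exact hgH ((hHmem g g.2).mpr (Or.inr fun c hc => by_contra fun h => hall c h hc))
      have hfs : fixPts (g : G) = ({a, c} : Finset Ω) := by
        ext d
        rw [mem_fixPts, Finset.mem_insert, Finset.mem_singleton]
        refine ⟨fun hd => hP.eq_or_eq (fun h => hg1 (Subtype.ext h)) (Ne.symm hca) g.2 hgc hd, ?_⟩
        rintro (rfl | rfl)
        · exact g.2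
        · exact hgc
      rw [if_neg hgH, zero_add, hfs, Finset.sum_pair (Ne.symm hca), hv1 a rfl, inv_one, one_mul,
        mul_one, Char.extendByZero_coe, hterm g c hca hgc, map_add, Complex.conj_conj]
      rw [Finset.sum_eq_single c ?_ (by simp [hca]), if_pos ⟨hg1, hgc⟩]
      · have h1 : conj (θ g) * θ g = 1 := by
          rw [← Char.IsIrrCharacter.apply_inv (Char.isIrrCharacter_linear f) g]
          simp [hθdef, ← Units.val_mul, ← map_mul]
        linear_combination h1
      · intro d hd hdc
        refine if_neg fun h => ?_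
        have : d ∈ fixPts (g : G) := mem_fixPts.mpr h.2
        rw [hfs, Finset.mem_insert, Finset.mem_singleton] at this
        exact this.elim (Finset.mem_erase.mp hd).1 hdc
  rw [Cfsg.classInner, Finset.sum_congr rfl fun g _ => hdec g, Finset.sum_add_distrib,
    Finset.sum_add_distrib, Finset.sum_comm]
  -- evaluate the three parts
  obtain ⟨b, hb⟩ := hP.exists_ne a
  have hcardN := hP.card_stabilizer (Ne.symm hb)
  rw [hO.card a b (Ne.symm hb)] at hcardN
  have hKc := hK.card hP
  set h := Fintype.card Ω - 1 with hhdef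
  have p1 : ∑ g : stabilizer G a, (if (g : G) ∈ H then (1 : ℂ) else 0) = (h : ℂ) := by
    rw [Finset.sum_boole]
    congr 1
    rw [← Fintype.card_subtype, ← Nat.card_eq_fintype_card,
      show {g : stabilizer G a // (g : G) ∈ H} = ↥(H.subgroupOf (stabilizer G a)) from rfl,
      Nat.card_congr (Subgroup.subgroupOfEquivOfLe hHa).toEquiv, ← hKeq]
    omega
  have p3 : ∀ c ∈ Finset.univ.erase a, ∑ g : stabilizer G a,
      (if g ≠ 1 ∧ (g : G) • c = c then θ g * θ g + 1 else 0) = (e : ℂ) - 2 := by
    intro c hc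
    have hca := (Finset.mem_erase.mp hc).1
    set Ec : Subgroup (stabilizer G a) := (stabilizer G c).subgroupOf (stabilizer G a) with hEc
    haveI := Fintype.ofFinite Ec
    have hEcard : Nat.card Ec = e := by
      rw [hEc, ← hO.card a c (Ne.symm hca), inf_comm]
      exact Nat.card_congr ((MulEquiv.subgroupCongr (Subgroup.inf_subgroupOf_right _ _).symm).trans
        (Subgroup.subgroupOfEquivOfLe inf_le_right)).toEquiv
    -- the squared character is nontrivial on the two-point stabiliser
    have hnt : ∃ x : Ec, f x * f x ≠ 1 := by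
      by_contra hall
      push Not at hall
      refine hf (MonoidHom.ext fun g => ?_)
      obtain ⟨k, hk, hk1, hk2⟩ := hK.exists_factor hca (g := (g : G)) g.2
      have hkN : k ∈ stabilizer G a := hK.le k hk
      set y : stabilizer G a := (⟨k, hkN⟩ : stabilizer G a)⁻¹ * g with hy
      have h1 := hall ⟨y, Subgroup.mem_subgroupOf.mpr hk2⟩
      have h2 : y ^ e = 1 := Subtype.ext (by
        push_cast
        exact hO.pow_e (Ne.symm hca) hk1 hk2)
      have h3 : f y = 1 := by
        obtain ⟨m, hm⟩ := hO.odd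
        have h4 : f y ^ e = 1 := by rw [← map_pow, h2, map_one]
        rwa [hm, pow_succ, pow_mul, pow_two, h1, one_pow, one_mul] at h4
      rw [MonoidHom.one_apply, show g = ⟨k, hkN⟩ * y by rw [hy, mul_inv_cancel_left], map_mul,
        h3, mul_one]
      exact hfH ⟨k, hkN⟩ (hKeq ▸ hk)
    obtain ⟨x, hx⟩ := hnt
    have hsum0 : ∑ g : Ec, θ (g : stabilizer G a) * θ g = 0 := by
      have h1 : θ (x : stabilizer G a) * θ x * ∑ g : Ec, θ (g : stabilizer G a) * θ g =
          ∑ g : Ec, θ (g : stabilizer G a) * θ g := by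
        rw [Finset.mul_sum]
        refine Fintype.sum_equiv (Equiv.mulLeft x) _ _ fun g => ?_
        simp [hθdef, mul_assoc, mul_left_comm]
      by_contra h0
      have h3 : θ (x : stabilizer G a) * θ x = 1 :=
        mul_right_cancel₀ h0 (h1.trans (one_mul _).symm)
      exact hx (Units.ext (by simpa [hθdef] using h3))
    have e1 : ∀ g : stabilizer G a,
        (if g ≠ 1 ∧ (g : G) • c = c then θ g * θ g + 1 else 0) =
        (if g ∈ Ec then θ g * θ g + 1 else 0) - (if g = 1 then 2 else 0) := by
      intro g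
      by_cases hg : g = 1
      · subst hg; simp [hθdef]; norm_num
      · simp [hg, hEc, Subgroup.mem_subgroupOf, mem_stabilizer_iff]
    rw [Finset.sum_congr rfl fun g _ => e1 g, Finset.sum_sub_distrib, Finset.sum_ite_eq' Finset.univ,
      if_pos (Finset.mem_univ _), ← Finset.sum_filter,
      Finset.sum_subtype (p := (· ∈ Ec)) (F := inferInstance) _ (by simp) fun g => θ g * θ g + 1,
      Finset.sum_add_distrib, hsum0, zero_add, Finset.sum_const, Finset.card_univ, nsmul_eq_mul,
      mul_one, ← Nat.card_eq_fintype_card, hEcard]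
  rw [p1, Finset.sum_ite_eq' Finset.univ, if_pos (Finset.mem_univ _), Finset.sum_congr rfl p3,
    Finset.sum_const, Finset.card_erase_of_mem (Finset.mem_univ _), Finset.card_univ, nsmul_eq_mul,
    ← hhdef, hcardN]
  have h0 : (h : ℂ) ≠ 0 := Nat.cast_ne_zero.mpr (by have := hP.three_le_card; omega)
  have e0 : (e : ℂ) ≠ 0 := Nat.cast_ne_zero.mpr hO.odd.pos.ne'
  push_cast
  field_simp
  ring

end CfsgLib.ZassOdd
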