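import Cfsg.Agent.Lib.CharExt.ZassCount

/-!
# Fixed-point-free elements and conjugacy classes in Zassenhaus groups
-/

set_option autoImplicit false
set_option linter.unusedSectionVars false
set_option linter.style.haveILetI false

open MulAction

namespace CfsgLib.ZassOdd

variable {G Ω : Type*} [Group G] [MulAction G Ω] [Fintype Ω] [Fintype G]

open Classical in
/-- The elements without fixed points. -/
noncomputable def fpf (G Ω : Type*) [Group G] [MulAction G Ω] [Fintype G] [Fintype Ω] : Finset G :=
  {g : G | (fixPts g : Finset Ω).card = 0}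

open Classical in
/-- The elements with exactly two fixed points. -/
noncomputable def fix2 (G Ω : Type*) [Group G] [MulAction G Ω] [Fintype G] [Fintype Ω] : Finset G :=
  {g : G | g ≠ 1 ∧ (fixPts g : Finset Ω).card = 2}

theorem mem_fpf {g : G} : g ∈ fpf G Ω ↔ (fixPts g : Finset Ω).card = 0 := by simp [fpf]

theorem mem_fix2 {g : G} : g ∈ fix2 G Ω ↔ g ≠ 1 ∧ (fixPts g : Finset Ω).card = 2 := by simp [fix2]

theorem fixPts_one : (fixPts (1 : G) : Finset Ω) = Finset.univ := by
  ext c; simp [mem_fixPts]

variable {e h : ℕ}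

/-- Fixed point counts for elements fixing no three points. -/
theorem count_fix (hP : CfsgLib.Zass.Pre G Ω)
    (hcard : ∀ a b : Ω, a ≠ b → Nat.card ↥(stabilizer G a ⊓ stabilizer G b) = e)
    (hh : Fintype.card Ω = h + 1) :
    (fpf G Ω).card * 2 + 2 + (h + 1) * h = (h + 1) * (h * e) + 2 * (h + 1) ∧
    (fix2 G Ω).card * 2 + (h + 1) * h = (h + 1) * h * e := by
  classical
  have h3 := hP.three_le_card
  obtain ⟨a, b, hab⟩ : ∃ a b : Ω, a ≠ b :=
    Fintype.exists_pair_of_one_lt_card (by omega)
  have hG : Nat.card G = (h + 1) * h * e := by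
    rw [hP.card_eq hab, hh, Nat.add_sub_cancel, hcard a b hab]
  have s1 : ∑ g : G, (fixPts g : Finset Ω).card = (h + 1) * (h * e) := by
    simp only [fixPts, Finset.card_filter]
    rw [Finset.sum_comm, Finset.sum_congr rfl (g := fun _ => h * e), Finset.sum_const,
      Finset.card_univ, hh, smul_eq_mul]
    intro c _
    obtain ⟨d, hd⟩ := hP.exists_ne c
    have := hP.card_stabilizer hd.symm
    rw [hh, Nat.add_sub_cancel, hcard c d hd.symm] at this
    rw [← this, ← Finset.card_filter]
    exact (Nat.subtype_card _ fun g => by simp).symm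
  have s2 : ∑ g : G, (fixPts g : Finset Ω).offDiag.card = (h + 1) * h * e := by
    have key : ∀ g : G, (fixPts g : Finset Ω).offDiag =
        (Finset.univ : Finset Ω).offDiag.filter fun p => g • p.1 = p.1 ∧ g • p.2 = p.2 := by
      intro g; ext p
      simp only [Finset.mem_offDiag, Finset.mem_filter, mem_fixPts, Finset.mem_univ, true_and]
      tauto
    simp only [key, Finset.card_filter]
    rw [Finset.sum_comm, Finset.sum_congr rfl (g := fun _ => e), Finset.sum_const,
      Finset.offDiag_card, Finset.card_univ, hh, smul_eq_mul, ← Nat.mul_sub_one,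
      Nat.add_sub_cancel]
    intro p hp
    rw [← hcard p.1 p.2 (Finset.mem_offDiag.mp hp).2.2, ← Finset.card_filter]
    exact (Nat.subtype_card _ fun g => by simp).symm
  -- contributions of the individual elements
  have t0 : ∀ g : G, g ≠ 1 →
      ((fixPts g : Finset Ω).offDiag.card + 2 =
        2 * (fixPts g : Finset Ω).card + if g ∈ fpf G Ω then 2 else 0) ∧
      ((fixPts g : Finset Ω).offDiag.card = if g ∈ fix2 G Ω then 2 else 0) := by
    intro g hg
    have hle : (fixPts g : Finset Ω).card ≤ 2 := by
      have h := hP.card_fix_le_two hg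
      rwa [show Nat.card (fixedBy Ω g) = (fixPts g : Finset Ω).card from
        Nat.subtype_card _ fun c => mem_fixPts] at h
    rw [Finset.offDiag_card]
    simp only [mem_fpf, mem_fix2, ne_eq, hg, not_false_eq_true, true_and]
    generalize (fixPts g : Finset Ω).card = f at hle ⊢
    interval_cases f <;> simp
  have hone : (1 : G) ∉ fpf G Ω ∧ (1 : G) ∉ fix2 G Ω := by
    simp [mem_fpf, mem_fix2, fixPts_one, hh]
  constructor
  · have e1 : ∑ g ∈ Finset.univ.erase (1 : G), ((fixPts g : Finset Ω).offDiag.card + 2) =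
        ∑ g ∈ Finset.univ.erase (1 : G),
          (2 * (fixPts g : Finset Ω).card + if g ∈ fpf G Ω then 2 else 0) :=
      Finset.sum_congr rfl fun g hg => (t0 g (Finset.mem_erase.mp hg).1).1
    rw [Finset.sum_add_distrib, Finset.sum_add_distrib, ← Finset.mul_sum] at e1
    have a1 := Finset.add_sum_erase Finset.univ (fun g : G => (fixPts g : Finset Ω).offDiag.card)
      (Finset.mem_univ 1)
    have a2 := Finset.add_sum_erase Finset.univ (fun g : G => (fixPts g : Finset Ω).card)
      (Finset.mem_univ 1)
    have a3 := Finset.add_sum_erase Finset.univ (fun g : G => if g ∈ fpf G Ω then 2 else 0)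
      (Finset.mem_univ 1)
    beta_reduce at a1 a2
    rw [s2, fixPts_one, Finset.offDiag_card, Finset.card_univ, hh] at a1
    rw [s1, fixPts_one, Finset.card_univ, hh] at a2
    have a4 : ∑ g : G, (if g ∈ fpf G Ω then 2 else 0) = (fpf G Ω).card * 2 := by
      rw [← Finset.sum_filter, Finset.sum_const, smul_eq_mul]
      congr 2; ext; simp
    have a5 : ∑ _g ∈ Finset.univ.erase (1 : G), 2 + 2 = 2 * ((h + 1) * h * e) := by
      rw [Finset.sum_const, Finset.card_erase_of_mem (Finset.mem_univ _), Finset.card_univ,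
        ← Nat.card_eq_fintype_card, hG, smul_eq_mul]
      have : 0 < (h + 1) * h * e := hG ▸ Nat.card_pos
      omega
    simp only [hone.1, if_false, zero_add, a4] at a3
    rw [← Nat.mul_sub_one, Nat.add_sub_cancel] at a1
    have : (h + 1) * (h * e) = (h + 1) * h * e := (mul_assoc _ _ _).symm
    omega
  · have e1 : ∑ g ∈ Finset.univ.erase (1 : G), (fixPts g : Finset Ω).offDiag.card =
        ∑ g ∈ Finset.univ.erase (1 : G), if g ∈ fix2 G Ω then 2 else 0 :=
      Finset.sum_congr rfl fun g hg => (t0 g (Finset.mem_erase.mp hg).1).2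
    have a1 := Finset.add_sum_erase Finset.univ (fun g : G => (fixPts g : Finset Ω).offDiag.card)
      (Finset.mem_univ 1)
    have a3 := Finset.add_sum_erase Finset.univ (fun g : G => if g ∈ fix2 G Ω then 2 else 0)
      (Finset.mem_univ 1)
    beta_reduce at a1
    rw [s2, fixPts_one, Finset.offDiag_card, Finset.card_univ, hh] at a1
    have a4 : ∑ g : G, (if g ∈ fix2 G Ω then 2 else 0) = (fix2 G Ω).card * 2 := by
      rw [← Finset.sum_filter, Finset.sum_const, smul_eq_mul]
      congr 2; ext; simp
    simp only [hone.2, if_false, zero_add, a4] at a3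
    rw [← Nat.mul_sub_one, Nat.add_sub_cancel] at a1
    omega

theorem card_fixPts_conj (g x : G) :
    (fixPts (x * g * x⁻¹) : Finset Ω).card = (fixPts g : Finset Ω).card := by
  classical
  refine Finset.card_bij' (fun c _ => x⁻¹ • c) (fun c _ => x • c) ?_ ?_ ?_ ?_
  · intro c hc
    rw [mem_fixPts, mul_smul, mul_smul, ← eq_inv_smul_iff] at hc
    exact mem_fixPts.mpr hc
  · intro c hc
    rw [mem_fixPts] at hc ⊢
    rw [mul_smul, mul_smul, inv_smul_smul, hc]
  · intro c _; exact smul_inv_smul x c
  · intro c _; exact inv_smul_smul x c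

theorem card_fixPts_of_isConj {g g' : G} (hc : IsConj g g') :
    (fixPts g : Finset Ω).card = (fixPts g' : Finset Ω).card := by
  obtain ⟨x, rfl⟩ := isConj_iff.mp hc
  exact (card_fixPts_conj g x).symm

/-- Not all elements without fixed points are conjugate. -/
theorem exists_not_conj (hP : CfsgLib.Zass.Pre G Ω) {a b : Ω} (hab : a ≠ b)
    (he : Nat.card ↥(stabilizer G a ⊓ stabilizer G b) = e) (hodd : Odd e)
    (hh : Fintype.card Ω = h + 1) :
    ∃ x y : G, (∀ c : Ω, x • c ≠ c) ∧ (∀ c : Ω, y • c ≠ c) ∧ ¬ IsConj x y := by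
  classical
  have hcard : ∀ c d : Ω, c ≠ d → Nat.card ↥(stabilizer G c ⊓ stabilizer G d) = e :=
    fun c d hcd => by rw [hP.card_pair_eq hcd hab, he]
  have h3 := hP.three_le_card
  obtain ⟨g, hg1, hga, hgb⟩ := hP.exists_two_fix hab
  have he1 : 1 < e := by
    by_contra hle
    have he0 : e = 1 := by have := hodd.pos; omega
    rw [he0, Subgroup.card_eq_one] at he
    have : g ∈ stabilizer G a ⊓ stabilizer G b := ⟨hga, hgb⟩
    rw [he, Subgroup.mem_bot] at this
    exact hg1 this
  obtain ⟨m, hm⟩ := hodd
  set A := (h + 1) * m + 1 with hA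
  have hfp : (fpf G Ω).card = h * A := by
    have := (count_fix hP hcard hh).1
    rw [hm] at this
    rw [hA]
    linarith
  have hmem : ∀ z : G, z ∈ fpf G Ω ↔ ∀ c : Ω, z • c ≠ c := fun z => by
    simp [mem_fpf, fixPts, Finset.filter_eq_empty_iff]
  obtain ⟨x, hx⟩ : (fpf G Ω).Nonempty := by
    rw [← Finset.card_pos, hfp]
    exact Nat.mul_pos (by omega) (Nat.succ_pos _)
  by_contra hall
  push Not at hall
  have hclass : Nat.card (ConjClasses.mk x).carrier = (fpf G Ω).card := by
    refine Nat.subtype_card _ fun y => ?_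
    show y ∈ fpf G Ω ↔ y ∈ (ConjClasses.mk x).carrier
    rw [ConjClasses.mem_carrier_iff_mk_eq, ConjClasses.mk_eq_mk_iff_isConj]
    refine ⟨fun hy => (hall x y ((hmem x).mp hx) ((hmem y).mp hy)).symm, fun hc => ?_⟩
    rw [mem_fpf, card_fixPts_of_isConj hc, ← mem_fpf]
    exact hx
  have hdvd : h * A ∣ h * ((h + 1) * e) := by
    rw [← hfp, ← hclass,
      show h * ((h + 1) * e) = Nat.card G by
        rw [hP.card_eq hab, hh, Nat.add_sub_cancel, he]; ring,
      ← card_conjClass_mul_centralizer x]
    exact dvd_mul_right _ _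
  rw [mul_dvd_mul_iff_left (show h ≠ 0 by omega)] at hdvd
  have hcop : Nat.Coprime A (h + 1) := by
    rw [hA, Nat.add_comm, Nat.coprime_add_mul_left_left]
    exact Nat.coprime_one_left _
  have hle := Nat.le_of_dvd (by omega) (hcop.dvd_of_dvd_mul_left hdvd)
  have hm1 : 1 ≤ m := by omega
  have : 3 * m ≤ (h + 1) * m := Nat.mul_le_mul_right m (by omega)
  omega

/-- A lower bound for the number of classes whose elements do not have exactly one fixed point. -/
theorem Odds.class_bound (hO : Odds G Ω e) (hh : Fintype.card Ω = h + 1) {a b : Ω} (hab : a ≠ b) :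
    ∃ S : Finset (ConjClasses G), e ≤ S.card ∧
      ∀ g : G, ConjClasses.mk g ∈ S → g ≠ 1 ∧ (fixPts g : Finset Ω).card ≠ 1 := by
  classical
  obtain ⟨c2, cfix2⟩ : ∃ n, (fix2 G Ω).card = n := ⟨_, rfl⟩
  have hc2 := (count_fix hO.pre hO.card hh).2
  rw [cfix2] at hc2
  have hG : Nat.card G = (h + 1) * h * e := by
    rw [hO.pre.card_eq hab, hh, Nat.add_sub_cancel, hO.card a b hab]
  have h3 := hO.pre.three_le_card
  have he0 := hO.odd.pos
  set I := invols G with hI
  set F := (fpf G Ω).image ConjClasses.mk with hF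
  -- classify the products of two involutions
  let P : Finset (G × G) := I.offDiag
  let f : G × G → ℕ := fun p => (fixPts (p.1 * p.2) : Finset Ω).card
  have hf : ∀ p ∈ P, f p ≤ 2 := by
    intro p hp
    obtain ⟨h1, h2, h12⟩ := Finset.mem_offDiag.mp hp
    refine hO.card_fixPts_le fun e' => h12 ?_
    rw [← inv_eq_of_mul_eq_one_right e', inv_eq_of_mul_eq_one_right (mem_invols.mp h1).1]
  have hinvert : ∀ p ∈ P, p.1 * (p.1 * p.2) * p.1 = (p.1 * p.2)⁻¹ := by
    intro p hp
    obtain ⟨h1, h2, -⟩ := Finset.mem_offDiag.mp hp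
    have hx := (mem_invols.mp h1).1
    rw [← mul_assoc, hx, one_mul, mul_inv_rev, inv_eq_of_mul_eq_one_right hx,
      inv_eq_of_mul_eq_one_right (mem_invols.mp h2).1]
  have hsplit : P.card ≤ ({p ∈ P | f p = 0} : Finset _).card + ({p ∈ P | f p = 1} : Finset _).card
      + ({p ∈ P | f p = 2} : Finset _).card := by
    refine le_trans (Finset.card_le_card ?_)
      ((Finset.card_union_le _ _).trans (Nat.add_le_add_right (Finset.card_union_le _ _) _))
    intro p hp
    have := hf p hp
    simp only [Finset.mem_union, Finset.mem_filter, hp, true_and]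
    omega
  -- no fixed points
  have hB0 : ({p ∈ P | f p = 0} : Finset _).card ≤ F.card * Nat.card G := by
    rw [mul_comm]
    refine Finset.card_le_mul_card_image_of_maps_to (f := fun p => ConjClasses.mk (p.1 * p.2))
      (fun p hp => ?_) _ fun C _ => ?_
    · exact Finset.mem_image_of_mem _ (mem_fpf.mpr (Finset.mem_filter.mp hp).2)
    · obtain ⟨w₀, rfl⟩ := ConjClasses.mk_surjective C
      let T : Finset G := {y : G | ConjClasses.mk y = ConjClasses.mk w₀}
      have hT : T.card * Nat.card (Subgroup.centralizer ({w₀} : Set G)) = Nat.card G := by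
        rw [← card_conjClass_mul_centralizer w₀]
        congr 1
        exact (Nat.subtype_card _ fun y => by
          simp [T, ConjClasses.mem_carrier_iff_mk_eq]).symm
      rw [← hT, mul_comm T.card]
      refine Finset.card_le_mul_card_image_of_maps_to (f := fun p => p.1 * p.2)
        (fun p hp => by simp [T, (Finset.mem_filter.mp hp).2]) _ fun w hw => ?_
      rw [Finset.mem_filter] at hw
      obtain ⟨c, hc⟩ := isConj_iff.mp (ConjClasses.mk_eq_mk_iff_isConj.mp hw.2)
      -- all pairs over `w` differ by elements centralising `w`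
      set Sw := ({p ∈ ({p ∈ ({p ∈ P | f p = 0} : Finset _) |
        ConjClasses.mk (p.1 * p.2) = ConjClasses.mk w₀} : Finset (G × G)) | p.1 * p.2 = w}
          : Finset (G × G)) with hSw
      rcases Sw.eq_empty_or_nonempty with h0 | ⟨p₀, hp₀⟩
      · rw [h0]; exact Nat.zero_le _
      simp only [hSw, Finset.mem_filter] at hp₀
      have hx₀ := (mem_invols.mp (Finset.mem_offDiag.mp hp₀.1.1.1).1).1
      have hinv₀ := hinvert p₀ hp₀.1.1.1
      rw [hp₀.2] at hinv₀
      let U : Finset G := {y : G | y ∈ Subgroup.centralizer ({w} : Set G)}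
      have hU : U.card = Nat.card (Subgroup.centralizer ({w₀} : Set G)) := by
        rw [show U.card = Nat.card (Subgroup.centralizer ({w} : Set G)) from
          (Nat.subtype_card _ fun y => by simp [U]).symm]
        exact Nat.eq_of_mul_eq_mul_left (by
            rw [Nat.pos_iff_ne_zero]
            intro h0
            have := card_conjClass_mul_centralizer w₀
            rw [h0, zero_mul] at this
            exact Nat.card_pos.ne this : 0 < Nat.card (ConjClasses.mk w₀).carrier)
          (by
            have h1 := card_conjClass_mul_centralizer w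
            rw [show ConjClasses.mk w = ConjClasses.mk w₀ from hw.2] at h1
            rw [h1, card_conjClass_mul_centralizer w₀])
      rw [← hU]
      refine Finset.card_le_card_of_injOn (fun p => p.1 * p₀.1) (fun p hp => ?_) fun p hp q hq hpq => ?_
      · simp only [hSw, Finset.mem_coe, Finset.mem_filter] at hp
        have h1 := hinvert p hp.1.1.1
        rw [hp.2] at h1
        have hx := (mem_invols.mp (Finset.mem_offDiag.mp hp.1.1.1).1).1
        simp only [U, Finset.coe_filter, Set.mem_setOf_eq, Finset.mem_univ, true_and,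
          Subgroup.mem_centralizer_singleton_iff]
        have e1 : p₀.1 * w = w⁻¹ * p₀.1 := by
          rw [← hinv₀, mul_assoc, hx₀, mul_one]
        have e2 : p.1 * w⁻¹ = w * p.1 := by
          rw [← h1, ← mul_assoc, ← mul_assoc, hx, one_mul]
        rw [mul_assoc, e1, ← mul_assoc, e2, mul_assoc]
      · simp only [hSw, Finset.mem_coe, Finset.mem_filter] at hp hq
        have h1 : p.1 = q.1 := mul_right_cancel hpq
        exact Prod.ext h1 (mul_left_cancel (h1 ▸ hp.2.trans hq.2.symm))
  -- one fixed point
  have hB1 : ({p ∈ P | f p = 1} : Finset _).card ≤ (if Even h then I.card * (e - 1) else 0) := by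
    have hfix : ∀ p ∈ ({p ∈ P | f p = 1} : Finset _), Even h ∧
        ∃ c : Ω, p.1 • c = c ∧ p.2 • c = c := by
      intro p hp
      obtain ⟨hpP, hf1⟩ := Finset.mem_filter.mp hp
      obtain ⟨c, hc⟩ := Finset.card_eq_one.mp hf1
      obtain ⟨h1, h2, -⟩ := Finset.mem_offDiag.mp hpP
      obtain ⟨hev, -, hxc, hyc⟩ := hO.product_fix_one hh (u := p.1 * p.2) (a := c)
        (mem_fixPts.mp (hc ▸ Finset.mem_singleton_self c))
        (fun d hd => by
          have : d ∈ (fixPts (p.1 * p.2) : Finset Ω) := mem_fixPts.mpr hd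
          rw [hc] at this; exact Finset.mem_singleton.mp this)
        (mem_invols.mp h1).1 (mem_invols.mp h1).2 (mem_invols.mp h2).1 (mem_invols.mp h2).2 rfl
      exact ⟨hev, c, hxc, hyc⟩
    split_ifs with hev
    · let J : Ω → Finset G := fun c => {x ∈ I | x • c = c}
      have hJle : ∀ c d : Ω, (J c).card ≤ (J d).card := by
        intro c d
        obtain ⟨g, hg⟩ := hO.pre.transitive c d
        refine Finset.card_le_card_of_injOn (fun x => g * x * g⁻¹) (fun x hx => ?_)
          fun x _ y _ hxy => by simpa using hxy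
        simp only [J, hI, Finset.coe_filter, Set.mem_setOf_eq, mem_invols] at hx ⊢
        refine ⟨⟨?_, fun e' => hx.1.2 (by simpa [mul_inv_eq_one] using e')⟩, ?_⟩
        · calc g * x * g⁻¹ * (g * x * g⁻¹) = g * (x * x) * g⁻¹ := by group
            _ = 1 := by rw [hx.1.1, mul_one, mul_inv_cancel]
        · rw [← hg, mul_smul, mul_smul, inv_smul_smul, hx.2]
      have hJsum : ∑ c : Ω, (J c).card = I.card := by
        simp only [J, Finset.card_filter]
        rw [Finset.sum_comm, Finset.sum_congr rfl (g := fun _ => 1), Finset.card_eq_sum_ones]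
        intro x hx
        rw [← Finset.card_filter]
        have := hO.card_fixPts_invol (mem_invols.mp hx).1 (mem_invols.mp hx).2
        rw [hh, show (h + 1) % 2 = 1 by obtain ⟨k, hk⟩ := hev; omega] at this
        exact this
      have hJ : ∀ c, (J c).card = e := by
        intro c
        rw [Finset.sum_congr rfl fun d _ => le_antisymm (hJle d c) (hJle c d), Finset.sum_const,
          Finset.card_univ, hh, smul_eq_mul, (hO.invol_count hh).1 hev, mul_comm e] at hJsum
        exact Nat.eq_of_mul_eq_mul_left (Nat.succ_pos h) hJsum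
      rw [mul_comm]
      refine Finset.card_le_mul_card_image_of_maps_to (f := fun p => p.1) (fun p hp => ?_) _
        fun x hx => ?_
      · exact (Finset.mem_offDiag.mp (Finset.mem_filter.mp hp).1).1
      · obtain ⟨hxx, hx1⟩ := mem_invols.mp hx
        rcases ({p ∈ ({p ∈ P | f p = 1} : Finset _) | p.1 = x} :
          Finset (G × G)).eq_empty_or_nonempty with h0 | ⟨p₀, hp₀⟩
        · rw [h0]; exact Nat.zero_le _
        obtain ⟨hp₀, hp₀x⟩ := Finset.mem_filter.mp hp₀
        obtain ⟨-, c, hxc, -⟩ := hfix p₀ hp₀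
        rw [hp₀x] at hxc
        rw [← hJ c, ← Finset.card_erase_of_mem (Finset.mem_filter.mpr ⟨hx, hxc⟩ : x ∈ J c)]
        refine Finset.card_le_card_of_injOn (fun p => p.2) (fun p hp => ?_) fun p hp q hq hpq =>
          Prod.ext ((Finset.mem_filter.mp hp).2.trans (Finset.mem_filter.mp hq).2.symm) hpq
        obtain ⟨hp, hpx⟩ := Finset.mem_filter.mp hp
        obtain ⟨-, d, hxd, hyd⟩ := hfix p hp
        obtain ⟨-, h2, h12⟩ := Finset.mem_offDiag.mp (Finset.mem_filter.mp hp).1
        rw [hpx] at hxd h12
        have hdc : d = c := by_contra fun hne => hO.not_two_fix hxx hx1 hne hxd hxc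
        subst hdc
        exact Finset.mem_coe.mpr (Finset.mem_erase.mpr ⟨Ne.symm h12, Finset.mem_filter.mpr ⟨h2, hyd⟩⟩)
    · rw [Nat.le_zero, Finset.card_eq_zero, Finset.eq_empty_iff_forall_notMem]
      exact fun p hp => hev (hfix p hp).1
  -- two fixed points
  have hB2 : ({p ∈ P | f p = 2} : Finset _).card ≤ c2 * e := by
    rw [← cfix2, mul_comm]
    refine Finset.card_le_mul_card_image_of_maps_to (f := fun p => p.1 * p.2) (fun p hp => ?_) _
      fun w hw => ?_
    · obtain ⟨hpP, hf2⟩ := Finset.mem_filter.mp hp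
      refine mem_fix2.mpr ⟨fun e' => ?_, hf2⟩
      have h2 : f p = (fixPts (1 : G) : Finset Ω).card := congrArg (fun g => (fixPts g : Finset Ω).card) e'
      rw [fixPts_one, Finset.card_univ, hh] at h2
      omega
    · obtain ⟨hw1, hw2⟩ := mem_fix2.mp hw
      obtain ⟨c, d, hcd, hwcd⟩ := Finset.card_eq_two.mp hw2
      rw [← hO.card_swaps hcd]
      refine Finset.card_le_card_of_injOn (fun p => p.1) (fun p hp => ?_) fun p hp q hq hpq => ?_
      · obtain ⟨hp, hpw⟩ := Finset.mem_filter.mp hp
        have hpP := (Finset.mem_filter.mp hp).1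
        obtain ⟨h1, -, -⟩ := Finset.mem_offDiag.mp hpP
        have hinv := hinvert p hpP
        rw [hpw] at hinv
        obtain ⟨hx, hx1⟩ := mem_invols.mp h1
        have hperm : ∀ z : Ω, w • z = z → p.1 • z = c ∨ p.1 • z = d := by
          intro z hz
          have hmem : p.1 • z ∈ (fixPts w : Finset Ω) := by
            rw [mem_fixPts, ← mul_smul,
              show w * p.1 = p.1 * w⁻¹ by
                rw [← hinv, ← mul_assoc, ← mul_assoc, hx, one_mul],
              mul_smul, inv_smul_eq_iff.mpr hz.symm]
          rw [hwcd] at hmem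
          simpa using hmem
        have hc : w • c = c := mem_fixPts.mp (hwcd ▸ by simp)
        have hd : w • d = d := mem_fixPts.mp (hwcd ▸ by simp)
        refine Finset.mem_coe.mpr (Finset.mem_filter.mpr ⟨h1, (hperm c hc).resolve_left fun hcc => ?_⟩)
        rcases hperm d hd with hdd | hdd
        · exact hcd (MulAction.injective p.1 (hcc.trans hdd.symm))
        · exact hO.not_two_fix hx hx1 hcd hcc hdd
      · have hp' := (Finset.mem_filter.mp hp).2
        have hq' := (Finset.mem_filter.mp hq).2
        have h1 : p.1 = q.1 := hpq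
        exact Prod.ext h1 (mul_left_cancel (h1 ▸ hp'.trans hq'.symm))
  have hN := hO.invol_count hh
  have hFbound : e + 1 ≤ 2 * F.card := by
    have hP : P.card + I.card = I.card * I.card := by
      rw [Finset.offDiag_card]
      exact Nat.sub_add_cancel (Nat.le_mul_self _)
    rw [hG] at hB0
    by_cases hev : Even h
    · rw [if_pos hev, hN.1 hev] at hB1
      rw [hN.1 hev] at hP
      obtain ⟨e', rfl⟩ := Nat.exists_eq_succ_of_ne_zero he0.ne'
      simp only [Nat.succ_sub_one, Nat.succ_eq_add_one] at *
      have key : (e' + 1) * (h + 1) * (h * (e' + 2)) ≤ (e' + 1) * (h + 1) * (2 * (F.card * h)) := by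
        nlinarith
      have h2 : h * (e' + 2) ≤ h * (2 * F.card) := by
        have := Nat.le_of_mul_le_mul_left key (by positivity)
        linarith
      exact Nat.le_of_mul_le_mul_left h2 (by omega)
    · rw [if_neg hev] at hB1
      rw [hN.2 hev] at hP
      obtain ⟨q, hq⟩ := hO.pre.card_dvd_sub_two hab
      rw [hO.card a b hab, hh] at hq
      have heh : e < h := by
        rcases Nat.eq_zero_or_pos q with rfl | hq0
        · omega
        · have := Nat.le_mul_of_pos_right e hq0
          omega
      obtain ⟨h', rfl⟩ := Nat.exists_eq_succ_of_ne_zero (show h ≠ 0 by omega)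
      simp only [Nat.succ_eq_add_one] at *
      have key : e * (h' + 1) * ((e + 1) * h') ≤ e * (h' + 1) * (2 * (F.card * (h' + 2))) := by
        nlinarith
      have h2 := Nat.le_of_mul_le_mul_left key (by positivity)
      obtain ⟨k, hk⟩ := hO.odd
      by_contra hlt
      have hle : 2 * F.card + 1 ≤ e := by omega
      nlinarith
  -- classes of elements with two fixed points
  let E : Finset G := ({x : G | x ≠ 1 ∧ x • a = a ∧ x • b = b} : Finset G)
  have hEfix : ∀ x ∈ E, (fixPts x : Finset Ω).card = 2 := by
    intro x hx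
    simp only [E, Finset.mem_filter, Finset.mem_univ, true_and] at hx
    refine le_antisymm (hO.card_fixPts_le hx.1) ?_
    rw [← Finset.card_pair hab]
    refine Finset.card_le_card fun c hc => ?_
    rw [Finset.mem_insert, Finset.mem_singleton] at hc
    rcases hc with rfl | rfl <;> rw [mem_fixPts] <;> tauto
  have hE : e - 1 ≤ 2 * (E.image ConjClasses.mk).card := by
    have hEcard : E.card = e - 1 := by
      have h1 : ({x : G | x • a = a ∧ x • b = b} : Finset G).card = e := by
        rw [← hO.card a b hab]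
        exact (Nat.subtype_card _ fun g => by simp).symm
      rw [show E = ({x : G | x • a = a ∧ x • b = b} : Finset G).erase 1 by ext; simp [E, and_comm],
        Finset.card_erase_of_mem (by simp), h1]
    rw [← hEcard]
    refine Finset.card_le_mul_card_image_of_maps_to (f := ConjClasses.mk)
      (fun x hx => Finset.mem_image_of_mem _ hx) _ fun C _ => ?_
    rcases ({x ∈ E | ConjClasses.mk x = C} : Finset G).eq_empty_or_nonempty with h0 | ⟨x, hx⟩
    · rw [h0]; exact Nat.zero_le _
    refine le_trans (Finset.card_le_card (t := ({x, x⁻¹} : Finset G)) fun y hy => ?_) Finset.card_le_two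
    obtain ⟨hxE, hxC⟩ := Finset.mem_filter.mp hx
    obtain ⟨hyE, hyC⟩ := Finset.mem_filter.mp hy
    simp only [E, Finset.mem_filter, Finset.mem_univ, true_and] at hxE hyE
    obtain ⟨g, hg⟩ := isConj_iff.mp (ConjClasses.mk_eq_mk_iff_isConj.mp (hxC.trans hyC.symm))
    rw [Finset.mem_insert, Finset.mem_singleton]
    rcases hO.pre.pair_of_conj hab (g := g) (x := x) ⟨hxE.2.1, hxE.2.2⟩ hxE.1
      (by rw [hg]; exact ⟨hyE.2.1, hyE.2.2⟩) with hh' | hh'
    · obtain ⟨v, va, vb⟩ := hO.exists_swap hab
      left
      -- the two-point stabiliser is abelian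
      have e1 := hO.inverts a b hab v va vb x hxE.2.1 hxE.2.2
      have e2 := hO.inverts a b hab (v * g) (by rw [mul_smul, hh'.1, va])
        (by rw [mul_smul, hh'.2, vb]) x hxE.2.1 hxE.2.2
      rw [← hg]
      apply mul_left_cancel (a := v)
      refine mul_right_cancel (b := v⁻¹) ?_
      rw [e1, ← e2]; group
    · right
      rw [← hg]
      exact hO.inverts a b hab g hh'.1 hh'.2 x hxE.2.1 hxE.2.2
  refine ⟨F ∪ E.image ConjClasses.mk, ?_, fun g hg => ?_⟩
  · rw [Finset.card_union_of_disjoint]
    · omega
    · rw [Finset.disjoint_left]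
      intro C h1 h2
      obtain ⟨x, hx, rfl⟩ := Finset.mem_image.mp h1
      obtain ⟨y, hy, hyx⟩ := Finset.mem_image.mp h2
      rw [mem_fpf, ← card_fixPts_of_isConj (ConjClasses.mk_eq_mk_iff_isConj.mp hyx), hEfix y hy] at hx
      omega
  · have key : ∀ y : G, ConjClasses.mk y = ConjClasses.mk g →
        (fixPts y : Finset Ω).card ≠ 1 ∧ (fixPts y : Finset Ω).card ≤ 2 →
        g ≠ 1 ∧ (fixPts g : Finset Ω).card ≠ 1 := by
      intro y hy ⟨h1, h2⟩
      rw [card_fixPts_of_isConj (ConjClasses.mk_eq_mk_iff_isConj.mp hy)] at h1 h2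
      refine ⟨fun e' => ?_, h1⟩
      rw [e', fixPts_one, Finset.card_univ] at h2
      omega
    rcases Finset.mem_union.mp hg with h1 | h1 <;> obtain ⟨y, hy, hyg⟩ := Finset.mem_image.mp h1
    · exact key y hyg (by rw [mem_fpf.mp hy]; omega)
    · exact key y hyg (by rw [hEfix y hy]; omega)

end CfsgLib.ZassOdd
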