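import Cfsg.Agent.Lib.Zass.Simple
import Mathlib.GroupTheory.GroupAction.ConjAct
import Mathlib.Tactic.LinearCombination
import Mathlib.Tactic.Linarith

/-!
# Counting in Zassenhaus groups with two-point stabilisers of odd order
-/

set_option autoImplicit false
set_option linter.unusedSectionVars false
set_option linter.style.haveILetI false

open MulAction

namespace CfsgLib.ZassOdd

open Zass

variable {G Ω : Type*} [Group G] [MulAction G Ω]

/-- The standing hypotheses: two-point stabilisers of odd order, inverted by every element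
exchanging the two points. -/
structure Odds (G Ω : Type*) [Group G] [MulAction G Ω] (e : ℕ) : Prop where
  pre : Pre G Ω
  card : ∀ a b : Ω, a ≠ b → Nat.card ↥(stabilizer G a ⊓ stabilizer G b) = e
  odd : Odd e
  inverts : ∀ a b : Ω, a ≠ b → ∀ s : G, s • a = b → s • b = a → ∀ x : G, x • a = a → x • b = b →
    s * x * s⁻¹ = x⁻¹

variable [Fintype Ω]

theorem Odds.of_simple [IsSimpleGroup G] (hZ : Cfsg.IsZassenhausGroup G Ω) {a b : Ω} (hab : a ≠ b)
    {e : ℕ} (he : Nat.card ↥(stabilizer G a ⊓ stabilizer G b) = e) (hodd : Odd e) :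
    Odds G Ω e := by
  have hP := Pre.of hZ
  have hcard : ∀ c d : Ω, c ≠ d → Nat.card ↥(stabilizer G c ⊓ stabilizer G d) = e :=
    fun c d hcd => by rw [hP.card_pair_eq hcd hab, he]
  refine ⟨hP, hcard, hodd, fun c d hcd s hs hs' x hx hx' => ?_⟩
  exact (hP.odd_stab hcd (by rw [hcard c d hcd]; exact hodd) (hP.no_complement hcd)).2.2 s hs hs' x
    ⟨hx, hx'⟩

variable {e : ℕ} (hO : Odds G Ω e)
include hO

theorem Odds.pow_e {a b : Ω} (hab : a ≠ b) {x : G} (ha : x • a = a) (hb : x • b = b) :
    x ^ e = 1 := by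
  have h := pow_card_eq_one' (x := (⟨x, ha, hb⟩ : ↥(stabilizer G a ⊓ stabilizer G b)))
  rw [hO.card a b hab] at h
  exact congrArg Subtype.val h

/-- A square root inside a two-point stabiliser. -/
theorem Odds.exists_sqrt {a b : Ω} (hab : a ≠ b) {x : G} (ha : x • a = a) (hb : x • b = b) :
    ∃ z : G, z • a = a ∧ z • b = b ∧ z * z = x := by
  obtain ⟨m, hm⟩ := hO.odd
  have hx : x ∈ stabilizer G a ⊓ stabilizer G b := ⟨ha, hb⟩
  have hz := Subgroup.pow_mem _ hx (m + 1)
  refine ⟨x ^ (m + 1), hz.1, hz.2, ?_⟩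
  rw [← pow_add, show m + 1 + (m + 1) = e + 1 by omega, pow_succ, hO.pow_e hab ha hb, one_mul]

/-- Only the identity of a two-point stabiliser is its own inverse. -/
theorem Odds.eq_one_of_sq {a b : Ω} (hab : a ≠ b) {x : G} (ha : x • a = a) (hb : x • b = b)
    (hx : x * x = 1) : x = 1 := by
  obtain ⟨m, hm⟩ := hO.odd
  have h := hO.pow_e hab ha hb
  rwa [hm, pow_succ, pow_mul, pow_two, hx, one_pow, one_mul] at h

/-- Every element exchanging two points is an involution. -/
theorem Odds.swap_sq {a b : Ω} (hab : a ≠ b) {s : G} (hs : s • a = b) (hs' : s • b = a) :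
    s * s = 1 ∧ s ≠ 1 := by
  refine ⟨?_, fun h => hab (by rw [h, one_smul] at hs; exact hs)⟩
  have ha : (s * s) • a = a := by rw [mul_smul, hs, hs']
  have hb : (s * s) • b = b := by rw [mul_smul, hs', hs]
  refine hO.eq_one_of_sq hab ha hb ?_
  have h := hO.inverts a b hab s hs hs' (s * s) ha hb
  rw [show s * (s * s) * s⁻¹ = s * s by group] at h
  conv_lhs => arg 1; rw [h]
  exact inv_mul_cancel _

theorem Odds.exists_swap [Finite G] {a b : Ω} (hab : a ≠ b) :
    ∃ v : G, v • a = b ∧ v • b = a := by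
  obtain ⟨v, -, -, h⟩ := hO.pre.exists_swap (hO.pre.two_dvd_card hab) hab
  exact ⟨v, h⟩

/-- An involution does not fix two points. -/
theorem Odds.not_two_fix {x : G} (hx : x * x = 1) (hx1 : x ≠ 1) {a b : Ω} (hab : a ≠ b)
    (ha : x • a = a) : x • b ≠ b := fun hb => hx1 (hO.eq_one_of_sq hab ha hb hx)

theorem Odds.moves {x : G} (hx : x * x = 1) (hx1 : x ≠ 1) : ∃ c : Ω, x • c ≠ c ∧ x • x • c = c := by
  haveI := hO.pre.faithful
  by_contra h
  push Not at h
  refine hx1 (eq_of_smul_eq_smul (α := Ω) fun c => ?_)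
  rw [one_smul]
  by_contra hc
  exact h c hc (by rw [← mul_smul, hx, one_smul])

/-- All involutions are conjugate. -/
theorem Odds.isConj_invol {x y : G} (hx : x * x = 1) (hx1 : x ≠ 1) (hy : y * y = 1) (hy1 : y ≠ 1) :
    IsConj x y := by
  obtain ⟨c, hc, hc'⟩ := hO.moves hx hx1
  obtain ⟨d, hd, hd'⟩ := hO.moves hy hy1
  obtain ⟨g, g1, g2⟩ := hO.pre.two_trans (Ne.symm hc) (Ne.symm hd)
  set x' := g * x * g⁻¹ with hx'
  set a := d
  set b := y • d
  have hab : a ≠ b := Ne.symm hd
  have hxa : x' • a = b := by rw [hx', mul_smul, mul_smul, ← g1, inv_smul_smul, g2]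
  have hxb : x' • b = a := by rw [hx', mul_smul, mul_smul, ← g2, inv_smul_smul, hc', g1]
  -- `y = x' w` with `w` fixing `a` and `b`
  have hx'2 := (hO.swap_sq hab hxa hxb).1
  have hwa : (x' * y) • a = a := by rw [mul_smul]; exact hxb
  have hwb : (x' * y) • b = b := by
    rw [mul_smul, show y • b = a from hd']; exact hxa
  obtain ⟨z, za, zb, zz⟩ := hO.exists_sqrt hab hwa hwb
  have hinv := hO.inverts a b hab x' hxa hxb z za zb
  have hxz : x' * z = z⁻¹ * x' := by rw [← hinv, inv_mul_cancel_right]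
  refine isConj_iff.mpr ⟨z⁻¹ * g, ?_⟩
  calc z⁻¹ * g * x * (z⁻¹ * g)⁻¹ = z⁻¹ * x' * z := by rw [hx']; group
    _ = x' * (z * z) := by rw [← hxz, mul_assoc]
    _ = y := by rw [zz, ← mul_assoc, hx'2, one_mul]

open Classical in
/-- The involutions. -/
noncomputable def invols (G : Type*) [Group G] [Fintype G] : Finset G :=
  {x : G | x * x = 1 ∧ x ≠ 1}

variable [Fintype G]

omit hO in
theorem mem_invols {x : G} : x ∈ invols G ↔ x * x = 1 ∧ x ≠ 1 := by
  simp [invols]

open Classical in
theorem Odds.card_swaps {a b : Ω} (hab : a ≠ b) :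
    ({x ∈ invols G | x • a = b} : Finset G).card = e := by
  obtain ⟨v, va, vb⟩ := hO.exists_swap hab
  have h1 : ({x ∈ invols G | x • a = b} : Finset G) =
      ({x : G | x • a = b ∧ x • b = a} : Finset G) := by
    ext x
    simp only [Finset.mem_filter, Finset.mem_univ, true_and, mem_invols]
    constructor
    · rintro ⟨⟨hx, -⟩, h⟩
      exact ⟨h, by rw [← h, ← mul_smul, hx, one_smul]⟩
    · rintro ⟨h, h'⟩
      exact ⟨hO.swap_sq hab h h', h⟩
  rw [h1, ← hO.card a b hab, Nat.card_eq_fintype_card, ← Finset.card_univ]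
  refine Finset.card_bij' (fun x hx => (⟨v⁻¹ * x, ?_, ?_⟩ : ↥(stabilizer G a ⊓ stabilizer G b)))
    (fun y _ => v * (y : G)) (fun _ _ => Finset.mem_univ _) ?_ ?_ ?_
  · simp only [Finset.mem_filter, Finset.mem_univ, true_and] at hx
    show (v⁻¹ * x) • a = a
    rw [mul_smul, hx.1, ← va, inv_smul_smul]
  · simp only [Finset.mem_filter, Finset.mem_univ, true_and] at hx
    show (v⁻¹ * x) • b = b
    rw [mul_smul, hx.2, ← vb, inv_smul_smul]
  · intro y _
    simp only [Finset.mem_filter, Finset.mem_univ, true_and]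
    exact ⟨by rw [mul_smul, show (y : G) • a = a from y.2.1, va],
      by rw [mul_smul, show (y : G) • b = b from y.2.2, vb]⟩
  · intro x _; simp
  · intro y _; simp

open Classical in
/-- The points fixed by an element. -/
noncomputable def fixPts (g : G) : Finset Ω := {c : Ω | g • c = c}

omit hO in
theorem mem_fixPts {g : G} {c : Ω} : c ∈ fixPts g ↔ g • c = c := by
  simp [fixPts]

theorem Odds.card_fixPts_le {g : G} (hg : g ≠ 1) : (fixPts g : Finset Ω).card ≤ 2 := by
  have h := hO.pre.card_fix_le_two hg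
  rwa [show Nat.card (fixedBy Ω g) = (fixPts g : Finset Ω).card from
    Nat.subtype_card _ fun c => mem_fixPts] at h

/-- The number of fixed points of an involution is the parity of the degree. -/
theorem Odds.card_fixPts_invol {x : G} (hx : x * x = 1) (hx1 : x ≠ 1) :
    (fixPts x : Finset Ω).card = Fintype.card Ω % 2 := by
  classical
  have h1 := hO.card_fixPts_le hx1
  have h2 := Pre.card_fix_mod_two (Ω := Ω) hx
  rw [show Nat.card (fixedBy Ω x) = (fixPts x : Finset Ω).card from
    Nat.subtype_card _ fun c => mem_fixPts] at h2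
  have h3 : (fixPts x : Finset Ω).card ≠ 2 := by
    intro h
    obtain ⟨c, d, hcd, he⟩ := Finset.card_eq_two.mp h
    exact hO.not_two_fix hx hx1 hcd (mem_fixPts.mp (he ▸ by simp)) (mem_fixPts.mp (he ▸ by simp))
  omega

/-- The number of involutions. -/
theorem Odds.card_invols :
    (invols G).card * (Fintype.card Ω - Fintype.card Ω % 2) =
      Fintype.card Ω * (Fintype.card Ω - 1) * e := by
  classical
  have h1 : ∑ p ∈ (Finset.univ : Finset Ω).offDiag, ({x ∈ invols G | x • p.1 = p.2} : Finset G).card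
      = Fintype.card Ω * (Fintype.card Ω - 1) * e := by
    rw [Finset.sum_congr rfl fun p hp => hO.card_swaps (Finset.mem_offDiag.mp hp).2.2,
      Finset.sum_const, smul_eq_mul, Finset.offDiag_card, Finset.card_univ, Nat.mul_sub_one]
  simp only [Finset.card_filter] at h1
  rw [Finset.sum_comm] at h1
  rw [← h1, ← smul_eq_mul, ← Finset.sum_const]
  refine Finset.sum_congr rfl fun x hx => ?_
  rw [← Finset.card_filter, ← hO.card_fixPts_invol (mem_invols.mp hx).1 (mem_invols.mp hx).2]
  rw [show Fintype.card Ω - (fixPts x : Finset Ω).card = (fixPts x : Finset Ω)ᶜ.card by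
    rw [Finset.card_compl]]
  refine Finset.card_bij' (fun c _ => (c, x • c)) (fun p _ => p.1) ?_ ?_ ?_ ?_
  · intro c hc
    rw [Finset.mem_compl, mem_fixPts] at hc
    simp [Ne.symm hc]
  · intro p hp
    simp only [Finset.mem_filter, Finset.mem_offDiag, Finset.mem_univ, true_and] at hp
    rw [Finset.mem_compl, mem_fixPts, hp.2]
    exact Ne.symm hp.1
  · intro c _; rfl
  · intro p hp
    simp only [Finset.mem_filter, Finset.mem_offDiag, Finset.mem_univ, true_and] at hp
    exact Prod.ext rfl hp.2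

theorem Odds.invol_count {h : ℕ} (hh : Fintype.card Ω = h + 1) :
    (Even h → (invols G).card = e * (h + 1)) ∧ (¬ Even h → (invols G).card = e * h) := by
  have hc := hO.card_invols
  have h3 := hO.pre.three_le_card
  rw [hh, Nat.add_sub_cancel] at hc
  refine ⟨fun hev => ?_, fun hodd => ?_⟩
  · obtain ⟨k, hk⟩ := hev
    rw [show (h + 1) % 2 = 1 by omega, Nat.add_sub_cancel] at hc
    exact Nat.eq_of_mul_eq_mul_right (show 0 < h by omega) (hc.trans (by ring))
  · rw [Nat.not_even_iff_odd] at hodd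
    obtain ⟨k, hk⟩ := hodd
    rw [show (h + 1) % 2 = 0 by omega, Nat.sub_zero] at hc
    exact Nat.eq_of_mul_eq_mul_right (show 0 < h + 1 by omega) (hc.trans (by ring))

omit hO in
theorem card_conjClass_mul_centralizer (x : G) :
    Nat.card (ConjClasses.mk x).carrier * Nat.card (Subgroup.centralizer ({x} : Set G)) =
      Nat.card G := by
  rw [mul_comm, show Nat.card (ConjClasses.mk x).carrier =
      (Subgroup.centralizer ({x} : Set G)).index from ?_]
  · exact Subgroup.card_mul_index _
  · rw [Nat.card_coe_set_eq, ← ConjAct.orbit_eq_carrier_conjClasses, ← MulAction.index_stabilizer,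
      ConjAct.stabilizer_eq_centralizer]
    rfl

/-- The centraliser of an involution fixing `a` consists of all elements fixing only `a`. -/
theorem Odds.commute_kernel {h : ℕ} (hh : Fintype.card Ω = h + 1) (hev : Even h) {a : Ω}
    {K : Subgroup G} (hK : Pre.IsKernel a K) {x : G} (hx : x * x = 1) (hx1 : x ≠ 1)
    (hxa : x • a = a) {k : G} (hk : k ∈ K) : x * k = k * x := by
  classical
  have hfix : ∀ c : Ω, x • c = c → c = a := fun c hc => by
    by_contra hca
    exact hO.not_two_fix hx hx1 (Ne.symm hca) hxa hc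
  obtain ⟨b, hb⟩ := hO.pre.exists_ne a
  have hG := hO.pre.card_eq (Ne.symm hb)
  rw [hh, Nat.add_sub_cancel, hO.card a b (Ne.symm hb)] at hG
  have hclass : Nat.card (ConjClasses.mk x).carrier = (invols G).card := by
    refine Nat.subtype_card _ fun y => ?_
    rw [mem_invols]
    show (y * y = 1 ∧ y ≠ 1) ↔ y ∈ (ConjClasses.mk x).carrier
    rw [ConjClasses.mem_carrier_iff_mk_eq, ConjClasses.mk_eq_mk_iff_isConj]
    refine ⟨fun hy => hO.isConj_invol hy.1 hy.2 hx hx1, fun hc => ?_⟩
    obtain ⟨g, hg⟩ := isConj_iff.mp hc.symm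
    rw [← hg]
    refine ⟨?_, fun h => hx1 (by simpa [mul_inv_eq_one] using h)⟩
    calc g * x * g⁻¹ * (g * x * g⁻¹) = g * (x * x) * g⁻¹ := by group
      _ = 1 := by rw [hx, mul_one, mul_inv_cancel]
  have hcent := card_conjClass_mul_centralizer x
  rw [hclass, ((hO.invol_count hh).1 hev), hG] at hcent
  have hKc := hK.card hO.pre
  have hle : Subgroup.centralizer ({x} : Set G) ≤ K := by
    intro g hg
    rw [Subgroup.mem_centralizer_singleton_iff] at hg
    have hga : g • a = a := hfix _ (by rw [← mul_smul, ← hg, mul_smul, hxa])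
    by_cases hg1 : g = 1
    · rw [hg1]; exact one_mem K
    refine hK.mem g hga fun c hc => ?_
    by_contra hca
    have hxc : g • x • c = x • c := by rw [← mul_smul, hg, mul_smul, hc]
    rcases hO.pre.eq_or_eq hg1 (Ne.symm hca) hga hc hxc with e' | e'
    · exact hca (MulAction.injective x (e'.trans hxa.symm))
    · exact hca (hfix c e')
  have hpos : 0 < e * (h + 1) := by
    have := hO.odd.pos
    positivity
  have hcard : Nat.card (Subgroup.centralizer ({x} : Set G)) = h :=
    Nat.eq_of_mul_eq_mul_left hpos (hcent.trans (by ring))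
  have heq := Subgroup.eq_of_le_of_card_ge hle (by omega)
  have hk' : k ∈ Subgroup.centralizer ({x} : Set G) := heq ▸ hk
  rw [Subgroup.mem_centralizer_singleton_iff] at hk'
  exact hk'.symm

/-- An element with a single fixed point that is a product of two involutions is an involution. -/
theorem Odds.product_fix_one {h : ℕ} (hh : Fintype.card Ω = h + 1) {u : G} {a : Ω}
    (hua : u • a = a) (hufix : ∀ c : Ω, u • c = c → c = a) {x y : G} (hx : x * x = 1)
    (hx1 : x ≠ 1) (hy : y * y = 1) (hy1 : y ≠ 1) (hxy : x * y = u) :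
    Even h ∧ u * u = 1 ∧ x • a = a ∧ y • a = a := by
  have hxu : x * u = y := by rw [← hxy, ← mul_assoc, hx, one_mul]
  have hxa : x • a = a := by
    refine hufix _ ?_
    rw [← mul_smul]
    have hinv : u * x = x * u⁻¹ := by
      have h1 : u⁻¹ = y * x := by
        rw [← hxy, mul_inv_rev, inv_eq_of_mul_eq_one_right hx, inv_eq_of_mul_eq_one_right hy]
      rw [h1, ← hxy, mul_assoc]
    rw [hinv, mul_smul, inv_smul_eq_iff.mpr hua.symm]
  have hya : y • a = a := by rw [← hxu, mul_smul, hua, hxa]
  have hev : Even h := by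
    have h1 := hO.card_fixPts_invol hx hx1
    have h2 : 0 < (fixPts x : Finset Ω).card := Finset.card_pos.mpr ⟨a, mem_fixPts.mpr hxa⟩
    rw [hh] at h1
    exact Nat.even_iff.mpr (by omega)
  obtain ⟨K, hK⟩ := hO.pre.exists_kernel a
  have hyK : y ∈ K := hK.mem y hya fun c hc => by
    by_contra hca
    exact hO.not_two_fix hy hy1 (Ne.symm hca) hya hc
  have hc := hO.commute_kernel hh hev hK hx hx1 hxa hyK
  refine ⟨hev, ?_, hxa, hya⟩
  rw [← hxy]
  calc x * y * (x * y) = x * (y * x) * y := by group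
    _ = (x * x) * (y * y) := by rw [← hc]; group
    _ = 1 := by rw [hx, hy, one_mul]

end CfsgLib.ZassOdd

namespace CfsgLib.ZassOdd

variable {G : Type*} [Group G]

theorem orderOf_eq_two_iff' {x : G} : orderOf x = 2 ↔ x * x = 1 ∧ x ≠ 1 := by
  refine ⟨fun hx => ⟨by rw [← pow_two, ← hx, pow_orderOf_eq_one], fun e => ?_⟩,
    fun ⟨h1, h2⟩ => orderOf_eq_prime (by rw [pow_two]; exact h1) h2⟩
  rw [e, orderOf_one] at hx
  omega

end CfsgLib.ZassOdd
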